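import Mathlib

/-! Products of commuting involutions selected by the bits of a number. -/

set_option autoImplicit false

namespace Cfsg.Agent.Block.FischerTypes.M22Recog

variable {C : Type*} [Group C]

/-- Commuting involutions. -/
def Elem (n : ℕ) (g : ℕ → C) : Prop := ∀ i < n, g i * g i = 1 ∧ ∀ j < n, Commute (g i) (g j)

/-- The product of the members selected by the bits. -/
def bval (g : ℕ → C) : ℕ → ℕ → C
  | 0, _ => 1
  | n + 1, m => bval g n m * cond (m.testBit n) (g n) 1

variable {g : ℕ → C}

theorem commute_bval {x : C} : ∀ {n : ℕ}, (∀ i < n, Commute x (g i)) → ∀ m, Commute x (bval g n m)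
  | 0, _, _ => Commute.one_right x
  | n + 1, h, m => (commute_bval (fun i hi => h i (by omega)) m).mul_right (by
      cases m.testBit n
      exacts [Commute.one_right x, h n (by omega)])

theorem bval_comm {n : ℕ} (h : Elem n g) (a b : ℕ) : Commute (bval g n a) (bval g n b) :=
  commute_bval (fun i hi => (commute_bval (fun j hj => (h i hi).2 j hj) a).symm) b

theorem bval_xor : ∀ {n : ℕ}, Elem n g → ∀ a b, bval g n (a ^^^ b) = bval g n a * bval g n b
  | 0, _, _, _ => by simp [bval]
  | n + 1, h, a, b => by
    have h' : Elem n g := fun i hi => ⟨(h i (by omega)).1, fun j hj => (h i (by omega)).2 j (by omega)⟩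
    have hn := commute_bval (g := g) (x := g n) (n := n) (fun i hi => (h n (by omega)).2 i (by omega)) b
    simp only [bval, bval_xor h' a b, Nat.testBit_xor]
    cases a.testBit n <;> cases b.testBit n <;> simp only [Bool.xor_false, Bool.false_xor, Bool.xor_self, cond_true, cond_false, mul_one]
    · simp [mul_assoc]
    · rw [mul_assoc _ (g n), hn.eq, ← mul_assoc]
    · rw [mul_assoc _ (g n), ← mul_assoc (g n), hn.eq, mul_assoc (bval g n b) (g n), (h n (by omega)).1, mul_one]

theorem bval_zero (g : ℕ → C) : ∀ n, bval g n 0 = 1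
  | 0 => rfl
  | n + 1 => by simp [bval, bval_zero g n]

theorem bval_self {n : ℕ} (h : Elem n g) (a : ℕ) : bval g n a * bval g n a = 1 := by
  rw [← bval_xor h, Nat.xor_self, bval_zero]

theorem bval_two_pow : ∀ {n i : ℕ}, i < n → bval g n (2 ^ i) = g i
  | n + 1, i, hi => by
    simp only [bval, Nat.testBit_two_pow]
    rcases Nat.lt_succ_iff_lt_or_eq.1 hi with k | rfl
    · simp [bval_two_pow k, Nat.ne_of_lt k]
    · have : ∀ k ≤ i, bval g k (2 ^ i) = 1 := by
        intro k
        induction k with
        | zero => intro; rfl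
        | succ k ih =>
          intro hk
          simp [bval, ih (by omega), Nat.testBit_two_pow, show i ≠ k by omega]
      simp [this i le_rfl]

theorem bval_congr : ∀ {n a b : ℕ}, (∀ i < n, a.testBit i = b.testBit i) → bval g n a = bval g n b
  | 0, _, _, _ => rfl
  | n + 1, a, b, h => by
    simp only [bval]
    rw [bval_congr (a := a) (b := b) fun i hi => h i (by omega), h n (by omega)]

theorem bval_fold {n : ℕ} (h : Elem n g) {α : Type*} (f : α → ℕ) : ∀ (l : List α) (r : ℕ),
    bval g n (l.foldl (fun r k => r ^^^ f k) r) = bval g n r * (l.map fun k => bval g n (f k)).prod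
  | [], r => by simp
  | k :: l, r => by
    rw [List.foldl_cons, bval_fold h f l, bval_xor h, List.map_cons, List.prod_cons, mul_assoc]

theorem bval_fold_cond {n : ℕ} (h : Elem n g) {α : Type*} (c : α → Bool) (f : α → ℕ) (l : List α) :
    bval g n (l.foldl (fun r k => cond (c k) (r ^^^ f k) r) 0) =
      (l.map fun k => cond (c k) (bval g n (f k)) 1).prod := by
  have e : (fun (r : ℕ) (k : α) => cond (c k) (r ^^^ f k) r) = fun r k => r ^^^ cond (c k) (f k) 0 := by
    funext r k
    cases c k <;> simp
  rw [e, bval_fold h, bval_zero, one_mul]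
  congr 1
  refine List.map_congr_left fun k _ => ?_
  cases c k <;> simp [bval_zero]

/-- The images under a map carrying the members to members. -/
theorem bval_map {D : Type*} [Group D] (f : C →* D) : ∀ (n m : ℕ), f (bval g n m) = bval (fun i => f (g i)) n m
  | 0, _ => map_one f
  | n + 1, m => by
    simp only [bval, map_mul, bval_map f n m]
    cases m.testBit n <;> simp

theorem bval_congr_fun {g' : ℕ → C} : ∀ {n : ℕ}, (∀ i < n, g i = g' i) → ∀ m, bval g n m = bval g' n m
  | 0, _, _ => rfl
  | n + 1, h, m => by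
    simp only [bval]
    rw [bval_congr_fun (g' := g') (fun i hi => h i (by omega)) m, h n (by omega)]

theorem bval_mem {S : Subgroup C} : ∀ {n : ℕ}, (∀ i < n, g i ∈ S) → ∀ m, bval g n m ∈ S
  | 0, _, _ => one_mem S
  | n + 1, h, m => mul_mem (bval_mem (fun i hi => h i (by omega)) m) (by
      cases m.testBit n
      exacts [one_mem S, h n (by omega)])

theorem bval_eq_prod (g : ℕ → C) : ∀ n m : ℕ,
    bval g n m = ((List.range n).map fun k => cond (m.testBit k) (g k) 1).prod
  | 0, _ => rfl
  | n + 1, m => by simp [bval, List.range_succ, bval_eq_prod g n m]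

/-- Two additive functions agreeing on the powers of two agree. -/
theorem ext_of_xor {f f' : ℕ → C} (hf : ∀ a b, f (a ^^^ b) = f a * f b)
    (hf' : ∀ a b, f' (a ^^^ b) = f' a * f' b) :
    ∀ n, (∀ k < n, f (2 ^ k) = f' (2 ^ k)) → ∀ e < 2 ^ n, f e = f' e
  | 0, _, e, he => by
    obtain rfl : e = 0 := by simpa using he
    have h0 : ∀ F : ℕ → C, (∀ a b, F (a ^^^ b) = F a * F b) → F 0 = 1 := fun F hF => by
      have := hF 0 0
      rw [Nat.xor_self] at this
      exact mul_eq_left.1 this.symm
    rw [h0 f hf, h0 f' hf']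
  | n + 1, h, e, he => by
    have ih := ext_of_xor hf hf' n fun k hk => h k (by omega)
    by_cases hb : e.testBit n = true
    · have hlt : e ^^^ 2 ^ n < 2 ^ n := by
        refine Nat.lt_pow_two_of_testBit _ fun i hi => ?_
        rw [Nat.testBit_xor, Nat.testBit_two_pow]
        rcases Nat.eq_or_lt_of_le hi with rfl | k
        · simp [hb]
        · simp [Nat.testBit_lt_two_pow (lt_of_lt_of_le he (Nat.pow_le_pow_right (by norm_num) k)), Nat.ne_of_lt k]
      have e1 : e = (e ^^^ 2 ^ n) ^^^ 2 ^ n := by rw [Nat.xor_assoc, Nat.xor_self, Nat.xor_zero]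
      rw [e1, hf, hf', ih _ hlt, h n (by omega)]
    · exact ih e (Nat.lt_pow_two_of_testBit _ fun i hi => by
        rcases Nat.eq_or_lt_of_le hi with rfl | k
        · simpa using hb
        · exact Nat.testBit_lt_two_pow (lt_of_lt_of_le he (Nat.pow_le_pow_right (by norm_num) k)))

end Cfsg.Agent.Block.FischerTypes.M22Recog
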