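import Cfsg.Agent.Lib.Block.FischerTypes.M22Recog.Normal
import Cfsg.Agent.Lib.Spor.USixTwo.Group

/-! A Sylow 2-subgroup above the stabiliser of the plane, and the elementary subgroups of order at
least `2^10`: each is conjugate to the one above the plane. -/

set_option autoImplicit false
set_option maxRecDepth 100000
set_option linter.style.haveILetI false
set_option linter.unusedSectionVars false

namespace Cfsg.Agent.Block.FischerTypes.M22Recog

open Cfsg U6Code Cfsg.Agent.Spor.USixTwo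

theorem low_codes : ∀ i < 22, codes0.getD i 0 &&& 511 = codes1.getD i 0 &&& 511 ∧
    codes2.getD i 0 &&& 511 = codes1.getD i 0 &&& 511 ∧ codes3.getD i 0 &&& 511 = codes1.getD i 0 &&& 511 := by
  decide +kernel

theorem syl_tree : ∀ e < 64, e = 0 ∨ ∃ f < e, ∃ g < 4, ((sylMul.getD f []).getD g (512, 64)).2 = e := by decide +kernel

theorem lin_low : ∀ (vs ws : List ℕ), vs.map (fun v => v &&& 511) = ws.map (fun v => v &&& 511) →
    ∀ m, lin vs m &&& 511 = lin ws m &&& 511
  | [], [], _, _ => rfl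
  | [], _ :: _, h, _ => by simp at h
  | _ :: _, [], h, _ => by simp at h
  | v :: vs, w :: ws, h, m => by
    simp only [List.map_cons, List.cons.injEq] at h
    simp only [lin]
    rw [Nat.and_xor_distrib_right, Nat.and_xor_distrib_right, lin_low vs ws h.2]
    cases m.testBit 0 <;> simp [h.1]

theorem sylPerm_spec {e : ℕ} (he : e < 64) : (∀ p ∈ sylWords.getD e [], isPt p = true) ∧
    (sylPerm e).length = 21 ∧
    ∀ i < 21, (sylPerm e).getD i 0 < 21 ∧ act (sylWords.getD e []) (pp i) = pp ((sylPerm e).getD i 0) := by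
  have h := syl_ok
  simp only [chkSyl, Bool.and_eq_true, List.all_eq_true] at h
  obtain ⟨⟨⟨⟨⟨⟨⟨h1, -⟩, -⟩, hw⟩, -⟩, -⟩, -⟩, -⟩ := h
  have hlen := Nat.eq_of_beq_eq_true h1
  obtain ⟨hp, hc⟩ := hw (sylWords.getD e []) (by
    rw [List.getD_eq_getElem _ _ (by omega)]; exact List.getElem_mem _)
  refine ⟨hp, by rw [sylPerm, List.length_map, plane_len], fun i hi => ?_⟩
  have hm := List.contains_iff_mem.1 (hc _ (pp_mem hi))
  rw [sylPerm, List.getD_eq_getElem _ _ (by rw [List.length_map, plane_len]; exact hi), List.getElem_map,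
    show plane[i]'(by rw [plane_len]; exact hi) = pp i from
      (List.getD_eq_getElem _ _ (by rw [plane_len]; exact hi)).symm]
  exact ⟨placeOf_lt hm, (pp_placeOf hm).symm⟩

theorem sylPerm_inj {e f : ℕ} (he : e < 64) (hf : f < 64)
    (h : ∀ i < 21, (sylPerm e).getD i 0 = (sylPerm f).getD i 0) : e = f := by
  have key : ∀ a b, a < 64 → b < a → ¬ ∀ i < 21, (sylPerm a).getD i 0 = (sylPerm b).getD i 0 := by
    intro a b ha hb hab
    have h0 := syl_ok
    simp only [chkSyl, Bool.and_eq_true, List.all_eq_true, List.mem_range] at h0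
    obtain ⟨⟨⟨⟨-, hd⟩, -⟩, -⟩, -⟩ := h0
    have k := hd a ha b hb
    have : (plane.all fun x => Nat.beq (act (sylWords.getD a []) x) (act (sylWords.getD b []) x)) = true := by
      rw [List.all_eq_true]
      intro x hx
      have e1 := ((sylPerm_spec ha).2.2 _ (placeOf_lt hx)).2
      have e2 := ((sylPerm_spec (hb.trans ha)).2.2 _ (placeOf_lt hx)).2
      rw [pp_placeOf hx] at e1 e2
      rw [e1, e2, hab _ (placeOf_lt hx)]
      simp
    rw [this] at k
    exact absurd k (by decide)
  rcases lt_trichotomy e f with k | k | k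
  · exact absurd (fun i hi => (h i hi).symm) (key f e hf k)
  · exact k
  · exact absurd h (key e f he k)

theorem card_P6 : Nat.card P6 = 9196830720 := Spor.USixTwo.card_G62

theorem and_split : ∀ m < 1024, m = (m &&& 511) ^^^ (m &&& 512) ∧ (m &&& 512 = 0 ∨ m &&& 512 = 2 ^ 9) := by
  decide +kernel

namespace Cov

variable {C : Type*} [Group C] [Finite C] (K : Cov C)

/-- A lift of a quotient word. -/
noncomputable def uu (e : ℕ) : C := (K.surj (wordP (sylWords.getD e []))).choose

theorem π_uu (e : ℕ) : K.π (K.uu e) = wordP (sylWords.getD e []) := (K.surj _).choose_spec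

/-- A lift of a generator. -/
noncomputable def gg (k : ℕ) : C := (K.surj (wordP (sylGens.getD k []))).choose

theorem π_gg (k : ℕ) : K.π (K.gg k) = wordP (sylGens.getD k []) := (K.surj _).choose_spec

theorem acts_uu {e : ℕ} (he : e < 64) : K.Acts (K.uu e) (sylPerm e) :=
  K.acts_word (K.π_uu e) (sylPerm_spec he).1 (sylPerm_spec he).2.2

theorem z_mem : K.z ∈ K.eSub := ⟨512, by norm_num, K.ev_z⟩

theorem pre_eSub {x : C} {y : C} (hy : y ∈ K.eSub) (h : K.π x = K.π y) : x ∈ K.eSub := by
  rcases K.fibre h with rfl | rfl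
  exacts [hy, mul_mem K.z_mem hy]

theorem uu_zero : K.uu 0 ∈ K.eSub := by
  refine K.pre_eSub (one_mem _) ?_
  rw [K.π_uu, map_one]
  have h := syl_ok
  simp only [chkSyl, Bool.and_eq_true] at h
  obtain ⟨⟨-, h0⟩, -⟩ := h
  have h0 := List.eq_nil_of_length_eq_zero (Nat.eq_of_beq_eq_true h0)
  have : sylWords.getD 0 [] = [] := by
    have hl : 0 < sylWords.length := by decide +kernel
    rw [List.getD_eq_getElem _ _ hl] at h0 ⊢
    exact h0
  rw [this]; simp [wordP]

theorem gg_uu {g e : ℕ} (hg : g < 4) (he : e < 64) :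
    ((sylMul.getD e []).getD g (512, 64)).2 < 64 ∧
      ∃ y ∈ K.eSub, K.gg g * K.uu e = K.uu ((sylMul.getD e []).getD g (512, 64)).2 * y := by
  have h := syl_ok
  simp only [chkSyl, Bool.and_eq_true, List.all_eq_true, List.mem_range] at h
  obtain ⟨⟨⟨-, hgl⟩, -⟩, hm⟩ := h
  have hglen : sylGens.length = 4 := by decide +kernel
  obtain ⟨⟨h1, h2⟩, h3⟩ := hm e he g hg
  obtain ⟨⟨d1, d2⟩, hd⟩ : ∃ d, d = (sylMul.getD e []).getD g (512, 64) := ⟨_, rfl⟩
  rw [← hd] at h1 h2 h3 ⊢
  have hd1 := Nat.le_of_ble_eq_true h1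
  have hd2 : d2 < 64 := Nat.le_of_ble_eq_true h2
  refine ⟨hd2, (K.uu d2)⁻¹ * (K.gg g * K.uu e), ?_, by simp⟩
  refine K.pre_eSub (y := K.ev d1) ⟨d1, by omega, rfl⟩ ?_
  have hgp : ∀ p ∈ sylGens.getD g [], isPt p = true := by
    intro p hp
    have hmem : sylGens.getD g [] ∈ sylGens := by
      rw [List.getD_eq_getElem _ _ (by omega)]; exact List.getElem_mem _
    exact (hgl _ hmem).1 p hp
  have hwe := (sylPerm_spec he).1
  have hwd := (sylPerm_spec hd2).1
  have hq : ∀ p ∈ qWord d1, isPt p = true := fun p hp => plane_pt (wordP_qWord d1 p hp)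
  rw [map_mul, map_mul, map_inv, K.π_uu, K.π_gg, K.π_uu, K.π_ev_low, ← wordP_append,
    inv_mul_eq_iff_eq_mul, ← wordP_append]
  refine wordP_ext (fun p hp => ?_) (fun p hp => ?_) fun s hs => Nat.eq_of_beq_eq_true (h3 s hs)
  · rcases List.mem_append.1 hp with k | k
    exacts [hwe p k, hgp p k]
  · rcases List.mem_append.1 hp with k | k
    exacts [hq p k, hwd p k]

/-- The members of the Sylow subgroup above the plane group. -/
def sylSet : Set C := {x | ∃ e < 64, ∃ y ∈ K.eSub, x = K.uu e * y}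

/-- The group generated by the plane group and the lifts of the generators. -/
noncomputable def sylT : Subgroup C := Subgroup.closure ((K.eSub : Set C) ∪ {x | ∃ g < 4, K.gg g = x})

variable {codes : List ℕ} (hc : K.Coords codes)
include hc

theorem uu_norm {e : ℕ} (he : e < 64) {y : C} (hy : y ∈ K.eSub) :
    ∃ y' ∈ K.eSub, y * K.uu e = K.uu e * y' := by
  have hn := inv_mem (K.acts_normalizer hc (K.acts_uu he))
  exact ⟨_, (Subgroup.mem_normalizer_iff.1 hn y).1 hy, by simp [mul_assoc]⟩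

theorem sylT_eq : (K.sylT : Set C) = K.sylSet := by
  have hgen : ∀ a ∈ (K.eSub : Set C) ∪ {x | ∃ g < 4, K.gg g = x}, ∀ x ∈ K.sylSet, a * x ∈ K.sylSet := by
    rintro a ha _ ⟨e, he, y, hy, rfl⟩
    rcases ha with ha | ⟨g, hg, rfl⟩
    · obtain ⟨y', hy', k⟩ := K.uu_norm hc he ha
      exact ⟨e, he, y' * y, mul_mem hy' hy, by rw [← mul_assoc, k, mul_assoc]⟩
    · obtain ⟨hf, y', hy', k⟩ := K.gg_uu hg he
      exact ⟨_, hf, y' * y, mul_mem hy' hy, by rw [← mul_assoc, k, mul_assoc]⟩
  refine Set.Subset.antisymm (fun x hx => ?_) ?_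
  · have key : ∀ x ∈ K.sylT, ∀ s ∈ K.sylSet, x * s ∈ K.sylSet := by
      intro x hx
      induction hx using Subgroup.closure_induction with
      | mem a ha => exact hgen a ha
      | one => intro s hs; rwa [one_mul]
      | mul a b _ _ iha ihb => intro s hs; rw [mul_assoc]; exact iha _ (ihb s hs)
      | inv a _ iha =>
        intro s hs
        let f : K.sylSet → K.sylSet := fun s => ⟨a * s, iha s s.2⟩
        have hf : Function.Injective f := fun s t h => Subtype.ext (mul_left_cancel (congrArg Subtype.val h))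
        obtain ⟨t, ht⟩ := (Finite.injective_iff_surjective.1 hf) ⟨s, hs⟩
        rw [show s = a * t from (congrArg Subtype.val ht).symm, inv_mul_cancel_left]
        exact t.2
    have h1 : (1 : C) ∈ K.sylSet := ⟨0, by norm_num, (K.uu 0)⁻¹, inv_mem K.uu_zero, by simp⟩
    simpa using key x hx 1 h1
  · have hE : ∀ y ∈ K.eSub, y ∈ K.sylT := fun y hy => Subgroup.subset_closure (Or.inl hy)
    rintro _ ⟨e, he, y, hy, rfl⟩
    refine mul_mem ?_ (hE y hy)
    induction e using Nat.strong_induction_on with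
    | _ e ih =>
      rcases syl_tree e he with rfl | ⟨f, hf, g, hg, hfg⟩
      · exact hE _ K.uu_zero
      · obtain ⟨-, y', hy', k⟩ := K.gg_uu hg (hf.trans he)
        rw [hfg] at k
        rw [show K.uu e = K.gg g * K.uu f * y'⁻¹ by rw [k]; simp]
        exact mul_mem (mul_mem (Subgroup.subset_closure (Or.inr ⟨g, hg, rfl⟩)) (ih f hf (hf.trans he)))
          (inv_mem (hE y' hy'))

theorem conj_ev_ev (a : C) (ha : a ∈ K.eSub) {i : ℕ} (hi : i < 22) : a * K.cur i * a⁻¹ = K.cur i := by
  obtain ⟨m, -, rfl⟩ := ha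
  rw [← (hc i hi).2, (K.ev_comm _ _).eq, mul_inv_cancel_right]

/-- A member of the coset of a quotient word permutes the places as the word. -/
theorem acts_coset {e : ℕ} (he : e < 64) {y : C} (hy : y ∈ K.eSub) : K.Acts (K.uu e * y) (sylPerm e) := by
  intro i hi
  obtain ⟨h1, h2⟩ := K.acts_uu he i hi
  refine ⟨h1, ?_⟩
  rw [show K.uu e * y * K.cur i * (K.uu e * y)⁻¹ = K.uu e * (y * K.cur i * y⁻¹) * (K.uu e)⁻¹ by simp [mul_assoc],
    K.conj_ev_ev hc y hy (by omega), h2]

omit hc in
theorem cur_inj {i j : ℕ} (hi : i < 21) (hj : j < 21) (h : K.cur i = K.cur j) : i = j := by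
  rw [K.cur_lt hi, K.cur_lt hj] at h
  exact pp_inj hi hj (K.lift_inj (plane_pt (pp_mem hi)) (plane_pt (pp_mem hj)) h)

theorem coset_unique {e f : ℕ} (he : e < 64) (hf : f < 64) {y y' : C} (hy : y ∈ K.eSub) (hy' : y' ∈ K.eSub)
    (h : K.uu e * y = K.uu f * y') : e = f := by
  refine sylPerm_inj he hf fun i hi => ?_
  obtain ⟨h1, h2⟩ := K.acts_coset hc he hy i hi
  obtain ⟨h3, h5⟩ := K.acts_coset hc hf hy' i hi
  rw [h, h5] at h2
  exact (K.cur_inj h3 h1 h2).symm

theorem card_sylT : Nat.card K.sylT = 2 ^ 16 := by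
  have e1 : Nat.card K.sylT = Nat.card K.sylSet := Nat.card_congr (Equiv.setCongr (K.sylT_eq hc))
  rw [e1, show (2 : ℕ) ^ 16 = Nat.card (Fin 64 × K.eSub) by
    rw [Nat.card_prod, Nat.card_fin, K.card_eSub]; norm_num]
  refine (Nat.card_eq_of_bijective
    (fun p : Fin 64 × K.eSub => (⟨K.uu p.1 * p.2, p.1, p.1.2, p.2, p.2.2, rfl⟩ : K.sylSet)) ⟨fun p q h => ?_, ?_⟩).symm
  · have h' := congrArg Subtype.val h
    have h1 := K.coset_unique hc p.1.2 q.1.2 p.2.2 q.2.2 h'
    refine Prod.ext (Fin.ext h1) (Subtype.ext ?_)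
    simp only [h1] at h'
    exact mul_left_cancel h'
  · rintro ⟨_, e, he, y, hy, rfl⟩
    exact ⟨⟨⟨e, he⟩, y, hy⟩, rfl⟩

omit hc in
include K in
theorem card_C : Nat.card C = 2 * 9196830720 := by
  have h := Subgroup.card_mul_index K.π.ker
  rw [Subgroup.index_ker, MonoidHom.range_eq_top.2 K.surj, Subgroup.card_top, card_P6] at h
  rw [← h]
  congr 1
  have hker : (K.π.ker : Set C) = {1, K.z} := by
    ext x
    simp [K.kerEq x]
  rw [show Nat.card K.π.ker = (K.π.ker : Set C).ncard from (Nat.card_coe_set_eq _), hker,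
    Set.ncard_pair (Ne.symm K.ne)]

theorem sylT_sylow : ∃ S : Sylow 2 C, (S : Subgroup C) = K.sylT := by
  haveI : Fact (Nat.Prime 2) := ⟨Nat.prime_two⟩
  refine ⟨Sylow.ofCard K.sylT ?_, rfl⟩
  rw [K.card_sylT hc, K.card_C, show 2 * 9196830720 = 2 ^ 16 * 280665 by norm_num,
    Nat.factorization_mul (by norm_num) (by norm_num), Finsupp.add_apply, Nat.Prime.factorization_pow Nat.prime_two,
    Finsupp.single_eq_same, Nat.factorization_eq_zero_of_not_dvd (by norm_num : ¬ 2 ∣ 280665), add_zero]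

/-- Elementary subgroups of the Sylow subgroup of order at least `2^10` lie in the plane group. -/
theorem elem_le {A : Subgroup C} (hA : A ≤ K.sylT) (h2 : ∀ a ∈ A, a * a = 1)
    (hab : ∀ a ∈ A, ∀ b ∈ A, Commute a b) (hcard : 1024 ≤ Nat.card A)
    (hlow : ∀ i < 22, codes.getD i 0 &&& 511 = codes1.getD i 0 &&& 511) : A = K.eSub := by
  classical
  have hmem : ∀ a ∈ A, ∃ e, e < 64 ∧ ∃ y ∈ K.eSub, a = K.uu e * y := fun a ha => by
    have : a ∈ K.sylSet := by rw [← K.sylT_eq hc]; exact hA ha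
    obtain ⟨e, he, y, hy, rfl⟩ := this
    exact ⟨e, he, y, hy, rfl⟩
  choose! ix hix yy hyy hay using hmem
  have hacts : ∀ a ∈ A, K.Acts a (sylPerm (ix a)) := fun a ha => by
    have := K.acts_coset hc (hix a ha) (hyy a ha)
    rwa [← hay a ha] at this
  have hsame : ∀ a ∈ A, ix a = 0 ↔ a ∈ K.eSub := fun a ha => by
    constructor
    · intro h
      rw [hay a ha, h]
      exact mul_mem K.uu_zero (hyy a ha)
    · intro h
      refine K.coset_unique hc (hix a ha) (by norm_num) (hyy a ha) (y' := (K.uu 0)⁻¹ * a)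
        (mul_mem (inv_mem K.uu_zero) h) ?_
      rw [mul_inv_cancel_left, ← hay a ha]
  set B := A ⊓ K.eSub with hB
  set I := ((A : Set C).toFinite.toFinset.image ix) with hI
  have hcardA : Nat.card A ≤ I.card * Nat.card B := by
    rw [← SetLike.coe_sort_coe, Nat.card_coe_set_eq, Set.ncard_eq_toFinset_card _ (A : Set C).toFinite, mul_comm]
    refine Finset.card_le_mul_card_image _ _ fun e he => ?_
    obtain ⟨a₀, ha₀, rfl⟩ := Finset.mem_image.1 he
    rw [Set.Finite.mem_toFinset, SetLike.mem_coe] at ha₀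
    rw [show Nat.card B = (B : Set C).toFinite.toFinset.card by
      rw [← Set.ncard_eq_toFinset_card, ← Nat.card_coe_set_eq]; rfl]
    refine Finset.card_le_card_of_injOn (fun a => a₀⁻¹ * a) (fun a ha => ?_) fun a _ b _ k => mul_left_cancel k
    simp only [Finset.coe_filter, Set.Finite.mem_toFinset, Set.mem_setOf_eq, SetLike.mem_coe] at ha
    simp only [Set.Finite.coe_toFinset, SetLike.mem_coe, hB, Subgroup.mem_inf]
    refine ⟨mul_mem (inv_mem ha₀) ha.1, ?_⟩
    rw [hay a ha.1, hay a₀ ha₀, ha.2]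
    simp only [mul_inv_rev, mul_assoc, inv_mul_cancel_left]
    exact mul_mem (inv_mem (hyy a₀ ha₀)) (hyy a ha.1)
  have hInz : ∀ e ∈ I, e ≠ 0 → e ∈ sylInvol := by
    intro e he he0
    obtain ⟨a, ha, rfl⟩ := Finset.mem_image.1 he
    rw [Set.Finite.mem_toFinset, SetLike.mem_coe] at ha
    simp only [sylInvol, List.mem_filter, List.mem_range, Bool.and_eq_true, Bool.not_eq_true', List.all_eq_true]
    refine ⟨hix a ha, by simpa [← Bool.not_eq_true] using fun k => he0 (Nat.eq_of_beq_eq_true k), fun i hi => ?_⟩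
    obtain ⟨h1, h3⟩ := hacts a ha i hi
    obtain ⟨h5, h6⟩ := hacts a ha _ h1
    rw [← h3, show a * (a * K.cur i * a⁻¹) * a⁻¹ = (a * a) * K.cur i * (a * a)⁻¹ by simp [mul_assoc],
      h2 a ha, one_mul, inv_one, mul_one] at h6
    rw [K.cur_inj h5 hi h6.symm]; simp
  have hIcomm : ∀ e ∈ I, ∀ f ∈ I, sylComm e f = true := by
    intro e he f hf
    obtain ⟨a, ha, rfl⟩ := Finset.mem_image.1 he
    obtain ⟨b, hb, rfl⟩ := Finset.mem_image.1 hf
    rw [Set.Finite.mem_toFinset, SetLike.mem_coe] at ha hb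
    simp only [sylComm, List.all_eq_true, List.mem_range]
    intro i hi
    obtain ⟨b1, b2⟩ := hacts b hb i hi
    obtain ⟨a1, a2⟩ := hacts a ha i hi
    obtain ⟨c1, c2⟩ := hacts a ha _ b1
    obtain ⟨d1, d2⟩ := hacts b hb _ a1
    rw [← b2, show a * (b * K.cur i * b⁻¹) * a⁻¹ = (a * b) * K.cur i * (a * b)⁻¹ by simp [mul_assoc],
      (hab a ha b hb).eq, show (b * a) * K.cur i * (b * a)⁻¹ = b * (a * K.cur i * a⁻¹) * b⁻¹ by simp [mul_assoc],
      a2, d2] at c2
    rw [K.cur_inj d1 c1 c2]; simp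
  have hBfix : ∀ e ∈ I, ∀ m < 1024, K.ev m ∈ B → m &&& 511 ∈ sylFix e := by
    intro e he m hm hmB
    obtain ⟨a, ha, rfl⟩ := Finset.mem_image.1 he
    rw [Set.Finite.mem_toFinset, SetLike.mem_coe] at ha
    rw [hB, Subgroup.mem_inf] at hmB
    have k := K.ev_app hc (hacts a ha) hm
    rw [(hab a ha _ hmB.1).eq, mul_inv_cancel_right] at k
    have k' := (K.ev_inj hm (K.app_lt hc (hacts a ha) 10 le_rfl m hm) k).symm
    simp only [sylFix, List.mem_filter, List.mem_range]
    refine ⟨Nat.lt_of_le_of_lt Nat.and_le_right (by norm_num), ?_⟩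
    have hlin : ∀ x, app codes1 (sylPerm (ix a)) x &&& 511 = app codes (sylPerm (ix a)) x &&& 511 := fun x => by
      refine lin_low _ _ ?_ x
      rw [imgOf, imgOf, List.map_map, List.map_map]
      refine List.map_congr_left fun j hj => ?_
      have hj' : j < 21 := by
        have h := plane_ok
        simp only [Bool.and_eq_true, List.all_eq_true] at h
        exact Nat.le_of_ble_eq_true (h.1.2 j hj)
      exact (hlow _ (Nat.lt_succ_of_lt ((sylPerm_spec (hix a ha)).2.2 j hj').1)).symm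
    have hsplit : app codes (sylPerm (ix a)) (m &&& 511) &&& 511 = m &&& 511 := by
      have hm2 : m = (m &&& 511) ^^^ (m &&& 512) := (and_split m hm).1
      have e512 : app codes (sylPerm (ix a)) (m &&& 512) &&& 511 = 0 := by
        have := (and_split m hm).2
        have hl : (imgOf codes (sylPerm (ix a))).length = 9 := by rw [imgOf, List.length_map, free_len]
        rcases this with e | e <;> rw [e, app]
        · have := lin_xor (imgOf codes (sylPerm (ix a))) 0 0
          rw [Nat.xor_self, Nat.xor_self] at this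
          rw [this]; rfl
        · rw [lin_two_pow _ 9 (by omega), hl, if_neg (by omega)]; rfl
      have h9 : app codes (sylPerm (ix a)) m &&& 511 =
          (app codes (sylPerm (ix a)) (m &&& 511) &&& 511) ^^^ (app codes (sylPerm (ix a)) (m &&& 512) &&& 511) := by
        conv_lhs => rw [hm2, app, lin_xor, Nat.and_xor_distrib_right]
        rfl
      rw [e512, Nat.xor_zero, k'] at h9
      exact h9.symm
    show (app codes1 (sylPerm (ix a)) (m &&& 511) &&& 511).beq (m &&& 511) = true
    rw [hlin, hsplit]; simp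
  have hBle : ∀ (l : List ℕ), (∀ m < 1024, K.ev m ∈ B → m &&& 511 ∈ l) → Nat.card B ≤ 2 * l.length := by
    intro l hl
    let f : {m : Fin 1024 // K.ev m ∈ B} → B := fun m => ⟨K.ev m.1, m.2⟩
    have hsurj : Function.Surjective f := by
      rintro ⟨x, hx⟩
      obtain ⟨m, hm, rfl⟩ := (Subgroup.mem_inf.1 hx).2
      exact ⟨⟨⟨m, hm⟩, hx⟩, rfl⟩
    refine (Nat.card_le_card_of_surjective f hsurj).trans ?_
    let g : {m : Fin 1024 // K.ev m ∈ B} → {v : ℕ // v ∈ l} × Bool :=
      fun m => (⟨(m.1 : ℕ) &&& 511, hl _ m.1.2 m.2⟩, (m.1 : ℕ).testBit 9)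
    have hg : Function.Injective g := fun m n h => by
      obtain ⟨h1, h2⟩ := Prod.mk.inj h
      have h1' := congrArg Subtype.val h1
      refine Subtype.ext (Fin.ext (Nat.eq_of_testBit_eq fun i => ?_))
      rcases Nat.lt_or_ge i 9 with hi | hi
      · have k1 := congrArg (fun x => Nat.testBit x i) h1'
        have k2 : Nat.testBit 511 i = true := by interval_cases i <;> rfl
        simp only [Nat.testBit_and, k2, Bool.and_true] at k1
        exact k1
      · rcases Nat.eq_or_lt_of_le hi with rfl | hi'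
        · exact h2
        · rw [Nat.testBit_lt_two_pow (lt_of_lt_of_le m.1.2 (Nat.pow_le_pow_right (by norm_num : 2 > 0) hi')),
            Nat.testBit_lt_two_pow (lt_of_lt_of_le n.1.2 (Nat.pow_le_pow_right (by norm_num : 2 > 0) hi'))]
    refine (Nat.card_le_card_of_injective g hg).trans ?_
    rw [Nat.card_prod, Nat.card_eq_fintype_card (α := Bool), Fintype.card_bool, mul_comm]
    refine Nat.mul_le_mul_left 2 ?_
    refine (Nat.card_le_card_of_surjective (fun i : Fin l.length => (⟨l[i], List.getElem_mem i.2⟩ : {v : ℕ // v ∈ l}))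
      fun v => ?_).trans (by rw [Nat.card_fin])
    obtain ⟨i, hi, e⟩ := List.getElem_of_mem v.2
    exact ⟨⟨i, hi⟩, Subtype.ext e⟩
  by_cases hI0 : ∀ e ∈ I, e = 0
  · have hle : A ≤ K.eSub := fun a ha =>
      (hsame a ha).1 (hI0 _ (Finset.mem_image_of_mem _ (by simpa using ha)))
    exact Subgroup.eq_of_le_of_card_ge hle (by rw [K.card_eSub]; exact hcard)
  exfalso
  push Not at hI0
  obtain ⟨e, he, he0⟩ := hI0
  have hel := elem_ok
  simp only [chkElem, List.all_eq_true, Bool.and_eq_true, Bool.or_eq_true] at hel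
  have hfx : ∀ e ∈ I, e ≠ 0 → (sylFix e).length ≤ 32 := fun e he he0 =>
    Nat.le_of_ble_eq_true (hel e (hInz e he he0)).1.1
  by_cases hI2 : ∀ f ∈ I, f = 0 ∨ f = e
  · have hIc : I.card ≤ 2 := (Finset.card_le_card (t := {0, e}) fun f hf => by simpa using hI2 f hf).trans
      (Finset.card_le_two)
    have := hBle (sylFix e) fun m hm hB' => hBfix e he m hm hB'
    have := hfx e he he0
    nlinarith
  push Not at hI2
  obtain ⟨f, hf, hf0, hfe⟩ := hI2
  have hpair : Nat.card B ≤ 32 := by
    have h16 := (hel e (hInz e he he0)).2 f (hInz f hf hf0)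
    rcases h16 with (k | k) | k
    · exact absurd (Nat.eq_of_beq_eq_true k).symm hfe
    · rw [hIcomm e he f hf] at k; exact absurd k (by decide)
    · exact (hBle _ fun m hm hB' => List.mem_filter.2 ⟨hBfix e he m hm hB',
        List.contains_iff_mem.2 (hBfix f hf m hm hB')⟩).trans
          (Nat.mul_le_mul_left 2 (Nat.le_of_ble_eq_true k))
  have hI16 : I.card ≤ 16 := by
    have hsub : ∀ (l : List ℕ), (∀ g ∈ I, g ≠ 0 → g ∈ l) → l.length ≤ 15 → I.card ≤ 16 := fun l hl hlen => by
      have h1 := Finset.card_le_card (s := I) (t := insert 0 l.toFinset) fun g hg => by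
        by_cases g0 : g = 0
        · simp [g0]
        · simp [hl g hg g0]
      have h2 := Finset.card_insert_le 0 l.toFinset
      have h3 := List.toFinset_card_le l
      omega
    by_cases hcen : ∀ g ∈ I, g ≠ 0 → (sylInvol.filter (sylComm g)).length > 15
    · obtain ⟨-, hc3⟩ := (hel e (hInz e he he0)).1
      rcases hc3 with k | k
      · have := hcen e he he0; have := Nat.le_of_ble_eq_true k; omega
      · refine hsub (sylInvol.filter fun f => sylInvol.all (sylComm f)) (fun g hg g0 => List.mem_filter.2 ⟨hInz g hg g0, ?_⟩)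
          ((Nat.le_of_ble_eq_true k.1).trans (by norm_num))
        rcases (hel g (hInz g hg g0)).1.2 with k' | k'
        · have := hcen g hg g0; have := Nat.le_of_ble_eq_true k'; omega
        · exact List.all_eq_true.2 k'.2
    · push Not at hcen
      obtain ⟨g, hg, g0, hlen⟩ := hcen
      exact hsub _ (fun h hh h0 => List.mem_filter.2 ⟨hInz h hh h0, hIcomm g hg h hh⟩) hlen
  nlinarith

end Cov

end Cfsg.Agent.Block.FischerTypes.M22Recog
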