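import Cfsg.Agent.Lib.Block.FischerTypes.M22Recog.Split
import Cfsg.Agent.Lib.Block.FischerTypes.M22Recog.Elem

/-! The tested facts of a case with a nonzero sign, and the meaning of the tests. -/

set_option autoImplicit false
set_option maxRecDepth 100000
set_option linter.style.haveILetI false
set_option linter.unusedSectionVars false

namespace Cfsg.Agent.Block.FischerTypes.M22Recog

open Cfsg U6Code Cfsg.Agent.Spor.USixTwo

/-- No `n` members of the list have sum `s`. -/
def noFive : List ℕ → ℕ → ℕ → Bool
  | _, 0, s => !(Nat.beq s 0)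
  | [], _ + 1, _ => true
  | p :: ps, n + 1, s => noFive ps n (s ^^^ p) && noFive ps (n + 1) s

theorem noFive_spec {q l : List ℕ} (hs : q.Sublist l) : ∀ (s : ℕ), noFive l q.length s = true →
    q.foldl (fun r e => r ^^^ e) s ≠ 0 := by
  induction hs with
  | slnil =>
    intro s h e
    simp only [List.foldl_nil] at e
    subst e
    simp [noFive] at h
  | @cons l₁ l₂ a _ ih =>
    intro s h
    refine ih s ?_
    cases hl : l₁.length with
    | zero =>
      rw [hl] at h
      cases l₂ <;> simpa [noFive] using h
    | succ n =>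
      rw [hl] at h
      simp only [noFive, Bool.and_eq_true] at h
      exact h.2
  | @cons_cons l₁ l₂ a _ ih =>
    intro s h
    simp only [List.length_cons, noFive, Bool.and_eq_true] at h
    exact ih _ h.1

theorem opts_mem {s ps : List (List ℕ)} (hs : s.Sublist ps) : s.flatten ∈ opts ps s.flatten.length := by
  induction hs with
  | slnil => simp [opts]
  | cons a _ ih => exact List.mem_append_right _ ih
  | @cons_cons l₁ l₂ a _ ih =>
    simp only [opts, List.flatten_cons, List.length_append]
    refine List.mem_append_left _ ?_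
    rw [show Nat.ble a.length (a.length + l₁.flatten.length) = true from Nat.ble_eq_true_of_le (Nat.le_add_right _ _),
      Nat.add_sub_cancel_left, cond_true]
    exact List.mem_map_of_mem ih

theorem maskOf_testBit (l : List ℕ) (i : ℕ) : (maskOf l).testBit i = decide (i ∈ l) := by
  have key : ∀ (l : List ℕ) (m : ℕ), (l.foldl (fun m e => m ||| 2 ^ e) m).testBit i = (m.testBit i || decide (i ∈ l)) := by
    intro l
    induction l with
    | nil => simp
    | cons a l ih =>
      intro m
      rw [List.foldl_cons, ih, Nat.testBit_or, Nat.testBit_two_pow]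
      by_cases h : i = a
      · simp [h]
      · simp [h, Ne.symm h]
  rw [maskOf, key]
  simp

theorem cover_mem {l : List ℕ} {v : ℕ}
    (h : Nat.beq (maskOf l ||| 1 ||| 2 ^ v) (2 ^ 1024 - 1) = true) {e : ℕ} (he : e < 1024) :
    e = 0 ∨ e = v ∨ e ∈ l := by
  have k := congrArg (·.testBit e) (Nat.eq_of_beq_eq_true h)
  simp only [Nat.testBit_or, maskOf_testBit, Nat.testBit_two_pow_sub_one, he, decide_true, Nat.testBit_two_pow,
    Bool.or_eq_true, decide_eq_true_eq] at k
  rcases k with (k | k) | k
  · exact Or.inr (Or.inr k)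
  · exact Or.inl (Nat.testBit_one_eq_true_iff_self_eq_zero.1 k)
  · exact Or.inr (Or.inl k.symm)

theorem cover_lt {l : List ℕ} {v : ℕ}
    (h : Nat.beq (maskOf l ||| 1 ||| 2 ^ v) (2 ^ 1024 - 1) = true) {e : ℕ} (he : e ∈ l) : e < 1024 := by
  by_contra hlt
  have k := congrArg (·.testBit e) (Nat.eq_of_beq_eq_true h)
  simp only [Nat.testBit_or, maskOf_testBit, Nat.testBit_two_pow_sub_one, he, decide_true, Bool.true_or,
    decide_eq_false hlt] at k
  exact absurd k (by decide)

theorem tree_induct {imgs : List (List ℕ)} {P : ℕ → Prop}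
    (hstep : ∀ j < imgs.length, ∀ e, P e → P (lin (imgs.getD j []) e)) {r : ℕ × ℕ × ℕ} {l : List (ℕ × ℕ × ℕ)}
    (h : chkTree imgs (r :: l) = true) (hr : P r.1) : ∀ x ∈ entries (r :: l), P x := by
  have key : ∀ (l : List (ℕ × ℕ × ℕ)) (m : ℕ), growTree imgs l m = true → (∀ i, m.testBit i = true → P i) →
      ∀ e ∈ l, P e.1 := by
    intro l
    induction l with
    | nil => simp
    | cons a l ih =>
      intro m hm hP
      simp only [growTree, Bool.and_eq_true] at hm
      obtain ⟨⟨⟨h1, h2⟩, h3⟩, h5⟩ := hm
      have ha : P a.1 := Nat.eq_of_beq_eq_true h3 ▸ hstep _ (Nat.le_of_ble_eq_true h2) _ (hP _ h1)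
      intro e he
      rcases List.mem_cons.1 he with rfl | he
      · exact ha
      · refine ih _ h5 (fun i hi => ?_) e he
        rw [Nat.testBit_or, Nat.testBit_two_pow, Bool.or_eq_true, decide_eq_true_eq] at hi
        rcases hi with hi | rfl
        exacts [hP i hi, ha]
  intro x hx
  simp only [entries, List.map_cons, List.mem_cons, List.mem_map] at hx
  rcases hx with rfl | ⟨e, he, rfl⟩
  · exact hr
  · refine key l _ h (fun i hi => ?_) e he
    rw [Nat.testBit_two_pow, decide_eq_true_eq] at hi
    exact hi ▸ hr

/-- The tested facts. -/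
structure CaseOK (codes : List ℕ) (imgs : List (List ℕ)) (orbs : List (List (ℕ × ℕ × ℕ)))
    (tri : List (ℕ × ℕ × ℕ)) (x p q y : VecData) : Prop where
  orb : chkOrbs codes imgs orbs = true
  places : chkPlaces codes orbs tri = true
  roots : chkRoots orbs x p q y = true
  partsX : chkParts codes x = true
  partsP : chkParts codes p = true
  partsQ : chkParts codes q = true
  partsY : chkParts codes y = true
  unionsX : chkUnions (goodSet codes) x = true
  unionsP : chkUnions [] p = true
  unionsQ : chkUnions [] q = true
  unionsY : chkUnions [] y = true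
  five : noFive (codes.take 21) 5 0 = true
  lens : ∀ d ∈ [x, p, q, y], (d.2.2.2.1.map entries).flatten.length = 1022
  size : codes.length = 22
  big : (entries (orbs.getD 3 [])).Nodup
  low : ∀ i < 22, codes.getD i 0 &&& 511 = codes1.getD i 0 &&& 511

theorem five1 : noFive (codes1.take 21) 5 0 = true := by decide +kernel
theorem five2 : noFive (codes2.take 21) 5 0 = true := by decide +kernel
theorem five3 : noFive (codes3.take 21) 5 0 = true := by decide +kernel

theorem ok1 : CaseOK codes1 imgs1 orbs1 tri1 vec1x vec1p vec1q vec1y :=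
  ⟨case1_orbs, case1_places, case1_roots, case1_parts_x, case1_parts_p, case1_parts_q, case1_parts_y,
    case1_unions_x, case1_unions_p, case1_unions_q, case1_unions_y, five1, by decide +kernel, by decide +kernel,
    (distinct_spec (show distinct (entries (orbs1.getD 3 [])) 0 = true by decide +kernel)).1,
    fun _ _ => rfl⟩

theorem ok2 : CaseOK codes2 imgs2 orbs2 tri2 vec2x vec2p vec2q vec2y :=
  ⟨case2_orbs, case2_places, case2_roots, case2_parts_x, case2_parts_p, case2_parts_q, case2_parts_y,
    case2_unions_x, case2_unions_p, case2_unions_q, case2_unions_y, five2, by decide +kernel, by decide +kernel,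
    (distinct_spec (show distinct (entries (orbs2.getD 3 [])) 0 = true by decide +kernel)).1,
    fun i hi => (low_codes i hi).2.1⟩

theorem ok3 : CaseOK codes3 imgs3 orbs3 tri3 vec3x vec3p vec3q vec3y :=
  ⟨case3_orbs, case3_places, case3_roots, case3_parts_x, case3_parts_p, case3_parts_q, case3_parts_y,
    case3_unions_x, case3_unions_p, case3_unions_q, case3_unions_y, five3, by decide +kernel, by decide +kernel,
    (distinct_spec (show distinct (entries (orbs3.getD 3 [])) 0 = true by decide +kernel)).1,
    fun i hi => (low_codes i hi).2.2⟩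

namespace Cov

variable {C : Type*} [Group C] [Finite C] (K : Cov C)

/-- The sign case of the group. -/
theorem exists_case : ∃ codes imgs orbs tri x p q y, K.Coords codes ∧ CaseOK codes imgs orbs tri x p q y := by
  obtain ⟨s, t, hs, ht, hr⟩ := K.signs
  interval_cases s <;> interval_cases t
  · exact (K.not_split (K.case_split ⟨rfl, rfl⟩ hr)).elim
  · exact ⟨_, _, _, _, _, _, _, _, K.coords hr case1_codes, ok1⟩
  · exact ⟨_, _, _, _, _, _, _, _, K.coords hr case2_codes, ok2⟩
  · exact ⟨_, _, _, _, _, _, _, _, K.coords hr case3_codes, ok3⟩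

end Cov

end Cfsg.Agent.Block.FischerTypes.M22Recog
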