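import Cfsg.Agent.Lib.Block.FischerTypes.M22Recog.Defs

/-! The tests on the four sign cases evaluated. -/

set_option autoImplicit false
set_option maxRecDepth 100000
set_option maxHeartbeats 4000000

namespace Cfsg.Agent.Block.FischerTypes.M22Recog

open U6Code

theorem case0_ok : (chkCodes 0 0 codes0 combs0 &&
    Nat.blt psi0 1024 && psi0.testBit 9 && (List.range 21).all fun i =>
      Nat.beq ((List.range 10).countP (fun k => (codes0.getD i 0 &&& psi0).testBit k) % 2) 1) = true := by
  decide +kernel

theorem case1_codes : chkCodes 0 1 codes1 combs1 = true := by decide +kernel

theorem case1_orbs : chkOrbs codes1 imgs1 orbs1 = true := by decide +kernel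

theorem case1_places : chkPlaces codes1 orbs1 tri1 = true := by decide +kernel

theorem case1_roots : chkRoots orbs1 vec1x vec1p vec1q vec1y = true := by decide +kernel

theorem case1_parts_x : chkParts codes1 vec1x = true := by decide +kernel

theorem case1_parts_p : chkParts codes1 vec1p = true := by decide +kernel

theorem case1_parts_q : chkParts codes1 vec1q = true := by decide +kernel

theorem case1_parts_y : chkParts codes1 vec1y = true := by decide +kernel

theorem case1_unions_x : chkUnions (goodSet codes1) vec1x = true := by decide +kernel

theorem case1_unions_p : chkUnions [] vec1p = true := by decide +kernel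

theorem case1_unions_q : chkUnions [] vec1q = true := by decide +kernel

theorem case1_unions_y : chkUnions [] vec1y = true := by decide +kernel

theorem case2_codes : chkCodes 1 0 codes2 combs2 = true := by decide +kernel

theorem case2_orbs : chkOrbs codes2 imgs2 orbs2 = true := by decide +kernel

theorem case2_places : chkPlaces codes2 orbs2 tri2 = true := by decide +kernel

theorem case2_roots : chkRoots orbs2 vec2x vec2p vec2q vec2y = true := by decide +kernel

theorem case2_parts_x : chkParts codes2 vec2x = true := by decide +kernel

theorem case2_parts_p : chkParts codes2 vec2p = true := by decide +kernel

theorem case2_parts_q : chkParts codes2 vec2q = true := by decide +kernel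

theorem case2_parts_y : chkParts codes2 vec2y = true := by decide +kernel

theorem case2_unions_x : chkUnions (goodSet codes2) vec2x = true := by decide +kernel

theorem case2_unions_p : chkUnions [] vec2p = true := by decide +kernel

theorem case2_unions_q : chkUnions [] vec2q = true := by decide +kernel

theorem case2_unions_y : chkUnions [] vec2y = true := by decide +kernel

theorem case3_codes : chkCodes 1 1 codes3 combs3 = true := by decide +kernel

theorem case3_orbs : chkOrbs codes3 imgs3 orbs3 = true := by decide +kernel

theorem case3_places : chkPlaces codes3 orbs3 tri3 = true := by decide +kernel

theorem case3_roots : chkRoots orbs3 vec3x vec3p vec3q vec3y = true := by decide +kernel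

theorem case3_parts_x : chkParts codes3 vec3x = true := by decide +kernel

theorem case3_parts_p : chkParts codes3 vec3p = true := by decide +kernel

theorem case3_parts_q : chkParts codes3 vec3q = true := by decide +kernel

theorem case3_parts_y : chkParts codes3 vec3y = true := by decide +kernel

theorem case3_unions_x : chkUnions (goodSet codes3) vec3x = true := by decide +kernel

theorem case3_unions_p : chkUnions [] vec3p = true := by decide +kernel

theorem case3_unions_q : chkUnions [] vec3q = true := by decide +kernel

theorem case3_unions_y : chkUnions [] vec3y = true := by decide +kernel

end Cfsg.Agent.Block.FischerTypes.M22Recog
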