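import Cfsg.Agent.Lib.Block.FischerTypes.M22Recog.Defs

/-! The tests on the tables evaluated. -/

set_option autoImplicit false
set_option maxRecDepth 100000
set_option maxHeartbeats 4000000

namespace Cfsg.Agent.Block.FischerTypes.M22Recog

open U6Code

theorem plane_ok : (Nat.beq plane.length 21 && Nat.beq freeIdx.length 9 && plane.all isPt &&
    ((List.range 21).all fun i => (List.range i).all fun j =>
      !(Nat.beq (plane.getD i 0) (plane.getD j 0))) &&
    (plane.all fun x => plane.all fun y => adj x y) && plane.contains b0 && plane.contains b1 &&
    plane.contains b2 && freeIdx.all (fun i => Nat.blt i 21) &&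
    ptList.all fun z => plane.contains z || plane.any fun x => !(adj z x)) = true := by decide +kernel

theorem line_ok : (baseLine.all isPt && Nat.beq baseLine.length 5 &&
    (baseLine.all fun p => plane.contains p) && (ptList.all fun x => Nat.beq (act baseLine x) x) &&
    Nat.beq lineData.length 21 &&
    lineData.all fun l => l.2.all isPt &&
      let im := baseLine.map (act l.2)
      ((im.all fun y => plane.contains y) &&
        Nat.beq (xsum (im.map fun y => 2 ^ placeOf y)) l.1 &&
        ((List.range 5).all fun i => (List.range i).all fun j => !(Nat.beq (im.getD i 0) (im.getD j 0))))) = true := by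
  decide +kernel

theorem hex_ok : (Nat.beq hexData.length 2 && hexData.all fun h =>
    (h.2.all fun y => plane.contains y) && Nat.beq h.2.length 6 &&
      Nat.beq (xsum (h.2.map fun y => 2 ^ placeOf y)) h.1 &&
      ((List.range 6).all fun i => (List.range i).all fun j => !(Nat.beq (h.2.getD i 0) (h.2.getD j 0))) &&
      ptList.all fun x => Nat.beq (act h.2 x) x) = true := by decide +kernel

theorem gens_ok : (Nat.beq planeGens.length 3 && Nat.beq planePerms.length 3 &&
    (List.range 3).all fun k => (planeGens.getD k []).all isPt && Nat.beq (planePerms.getD k []).length 21 &&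
      (List.range 21).all fun i => Nat.blt ((planePerms.getD k []).getD i 21) 21 &&
        Nat.beq (act (planeGens.getD k []) (plane.getD i 0)) (plane.getD ((planePerms.getD k []).getD i 21) 0)) = true := by
  decide +kernel

theorem sep_ok : (sepPts.all isPt &&
    distinct (ptList.map sig) 0) = true := by decide +kernel

theorem test_ok : (testPts.all isPt && (List.range 512).all fun m =>
    Nat.beq m 0 || testPts.any fun x => !(Nat.beq (act (qWord m) x) x)) = true := by decide +kernel

theorem syl_ok : chkSyl = true := by decide +kernel

theorem elem_ok : chkElem = true := by decide +kernel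

theorem fix_single : (ptList.all fun x => !(Nat.beq (act [b0] x) x) || adj x b0) = true := by decide +kernel

theorem fix_pair : (ptList.all fun x => !(Nat.beq (act [b0, b1] x) x) || (adj x b0 && adj x b1)) = true := by
  decide +kernel

theorem fix_triple : (ptList.all fun x => !(Nat.beq (act [b0, b1, b2] x) x) ||
    (adj x b0 && adj x b1 && adj x b2)) = true := by decide +kernel

end Cfsg.Agent.Block.FischerTypes.M22Recog
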