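import Cfsg.Agent.Lib.Block.FischerTypes.M22Recog.Graph
import Cfsg.Agent.Lib.Block.FischerTypes.M22Double

/-! The component of `d` generates a group with the standing facts of type M(22). -/

set_option autoImplicit false
set_option linter.style.haveILetI false
set_option linter.unusedSectionVars false

namespace Cfsg.Agent.Block.FischerTypes

open Cfsg.Agent.Spor.ThreeTrans

/-- The standing facts from one model in a perfect group. -/
theorem M22.ctx_of_model {K : Type*} [Group K] [Finite K] {E : Set K} (h : IsThreeTranspositionClass E)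
    (hperf : commutator K = ⊤) (hcen : Subgroup.center K = ⊥) {d c : K} (hd : d ∈ E) (hc : c ∈ E)
    (hdc : ¬ Commute d c) (hF : HasModel E d) : M22.Ctx E := by
  haveI : Fact (Nat.Prime 2) := ⟨Nat.prime_two⟩
  haveI : Fact (Nat.Prime 3) := ⟨Nat.prime_three⟩
  have hmod : ∀ a ∈ E, HasModel E a := fun a ha => by
    obtain ⟨g, rfl⟩ := transitive h hd ha
    exact hasModel_conj h g hF
  obtain ⟨hs, hnc⟩ := simple_of_hasModel hF
  have htf := twinFree_of_perpQuot h hd (pCore_eq_bot_of_simple 2 hs hnc) (exists_perp_noncommute hnc)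
  obtain ⟨h2, h3⟩ := cores_bot h hcen htf hmod
  have H : Hyp E := hyp_of h hcen h2 h3 ⟨d, hd, c, hc, hdc⟩ fun a _ b _ => by
    rw [hperf, ← commutator_def, hperf]
    exact Subgroup.mem_top _
  have S : Setting E := ⟨h, H, htf, fun a ha => perp_nonempty H ha,
    fun a ha => pCore_eq_bot_of_simple 2 (simple_of_hasModel (hmod a ha)).1 (simple_of_hasModel (hmod a ha)).2,
    fun a ha => pCore_eq_bot_of_simple 3 (simple_of_hasModel (hmod a ha)).1 (simple_of_hasModel (hmod a ha)).2⟩
  exact M22.ctx_of_parts S hcen hmod ⟨d, hd, perp_nonempty H hd⟩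

namespace M22Recog

open Cfsg U6Code Cfsg.Agent.Spor.USixTwo

variable {G : Type*} [Group G] [Finite G] {d : G} {K : Cov ↥(CC d)}

/-- The component of `d`. -/
def comp (d : G) : Set G := {x | Joined (conjugatesOf d) d x}

/-- The group it generates. -/
abbrev G0 (d : G) : Subgroup G := Subgroup.closure (comp d)

/-- The component inside that group. -/
def cls0 (d : G) : Set ↥(G0 d) := {x | (x : G) ∈ comp d}

variable (H : Hyp d K)
include H

omit H in
theorem d_comp : d ∈ comp d := Relation.ReflTransGen.refl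

theorem comp_sub {x : G} (hx : x ∈ comp d) : x ∈ conjugatesOf d :=
  (framed H).joined_mem mem_conjugatesOf_self hx

omit H in
theorem comp_perp {x y : G} (hx : x ∈ comp d) (hy : y ∈ perp (conjugatesOf d) x) : y ∈ comp d :=
  Relation.ReflTransGen.tail hx hy

theorem joined_comp {x y : G} (hx : x ∈ comp d) (hy : y ∈ comp d) : Joined (conjugatesOf d) x y :=
  ((framed H).joined_symm mem_conjugatesOf_self hx).trans hy

omit H in
theorem comp_le : comp d ⊆ G0 d := Subgroup.subset_closure

theorem centralizer_le {x : G} (hx : x ∈ comp d) : CC x ≤ G0 d := by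
  rw [← centralizer_perp H (comp_sub H hx), Subgroup.closure_le]
  exact fun y hy => comp_le (comp_perp hx hy)

theorem joined_map (g : G) {x y : G} (h : Joined (conjugatesOf d) x y) :
    Joined (conjugatesOf d) (g * x * g⁻¹) (g * y * g⁻¹) := by
  induction h with
  | refl => exact .refl
  | tail _ hbc ih => exact ih.tail (perp_map (fun g => conjugates_inv g) g hbc)

theorem comp_conj {g : G} (hg : g ∈ G0 d) {x : G} (hx : x ∈ comp d) : g * x * g⁻¹ ∈ comp d := by
  induction hg using Subgroup.closure_induction generalizing x with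
  | mem u hu =>
    have e : u * u * u⁻¹ = u := by simp
    have := joined_map H u (joined_comp H hu hx)
    rw [e] at this
    exact Relation.ReflTransGen.trans hu this
  | one => simpa using hx
  | mul a b _ _ iha ihb =>
    have := iha (ihb hx)
    simpa [mul_assoc] using this
  | inv a _ iha =>
    haveI : Finite ↥(comp d) := Subtype.finite
    obtain ⟨⟨y, hy⟩, hxy⟩ := Finite.surjective_of_injective
      (f := fun y : ↥(comp d) => (⟨a * (y : G) * a⁻¹, iha y.2⟩ : ↥(comp d)))
      (fun u v e => Subtype.ext (by simpa using congrArg Subtype.val e)) ⟨x, hx⟩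
    have e := congrArg Subtype.val hxy
    simp only at e
    rw [← e]
    simpa [mul_assoc] using hy

/-- Two adjacent members are conjugate by the centraliser of a third. -/
theorem adj_conj {x y : G} (hx : x ∈ comp d) (hy : y ∈ perp (conjugatesOf d) x) :
    ∃ g ∈ G0 d, g * x * g⁻¹ = y := by
  classical
  have F := framed H
  have hxD := comp_sub H hx
  obtain ⟨M₀⟩ := F.model x hxD
  obtain ⟨M, rfl⟩ := exists_point F.inv M₀ (fun z hz => F.sq hz) hy
  obtain ⟨c, hc, hcne, hcadj⟩ : ∃ c, isPt c = true ∧ c ≠ b0 ∧ adj c b0 = true :=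
    ⟨b1, Model.pt_b1, by decide, by decide +kernel⟩
  have hz := M.mem c hc
  have hzb : Commute (M.pt c) (M.pt b0) := (M.comm _ _ hc Model.pt_b0).2 hcadj
  have hxz : x ∈ perp (conjugatesOf d) (M.pt c) := Framed.perp_sym hxD hz
  have hbz : M.pt b0 ∈ perp (conjugatesOf d) (M.pt c) :=
    ⟨hy.1, fun e => hcne (M.inj _ _ hc Model.pt_b0 e.symm), hzb⟩
  obtain ⟨N₀⟩ := F.model _ hz.1
  obtain ⟨N, hN⟩ := exists_point F.inv N₀ (fun z hz => F.sq hz) hxz
  obtain ⟨e, he, heq⟩ := N.surj _ hbz
  have ht := tr0_ok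
  simp only [chkTr, Bool.and_eq_true, List.all_eq_true, List.any_eq_true] at ht
  obtain ⟨t, ht', hte⟩ := ht.2 e (mem_ptList.2 he)
  obtain ⟨hf, hact⟩ := ht.1 t ht'
  simp only [fixes, List.all_eq_true, Bool.and_eq_true] at hf
  obtain ⟨g, hg, hgx⟩ := word_fix F.inv N (fun z hz => F.sq hz) t.2 fun p hp => (hf p hp).1
  refine ⟨g, centralizer_le H (comp_perp hx hz) (Subgroup.mem_centralizer_singleton_iff.2 hg.eq), ?_⟩
  have k := (hgx b0 Model.pt_b0).2
  rw [Nat.eq_of_beq_eq_true hact, Nat.eq_of_beq_eq_true hte, heq, hN] at k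
  exact k

theorem comp_transitive {x : G} (hx : x ∈ comp d) : ∃ g ∈ G0 d, g * d * g⁻¹ = x := by
  induction (show Joined (conjugatesOf d) d x from hx) with
  | refl => exact ⟨1, one_mem _, by simp⟩
  | tail h1 hbc ih =>
    obtain ⟨g, hg, e⟩ := ih h1
    obtain ⟨k, hk, e'⟩ := adj_conj H h1 hbc
    exact ⟨k * g, mul_mem hk hg, by rw [← e', ← e]; simp [mul_assoc]⟩

theorem cls0_class : IsThreeTranspositionClass (cls0 d) := by
  have F := framed H
  refine ⟨⟨fun x hx => ?_, fun x hx y hy => ?_⟩, ⟨⟨d, comp_le d_comp⟩, d_comp, ?_⟩, ?_⟩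
  · rw [← Subgroup.orderOf_coe]; exact F.two _ (comp_sub H hx)
  · rcases F.order_joined (comp_sub H hx) (joined_comp H hx hy) with k | k
    · exact Or.inl (Subtype.ext (by simpa using k))
    · exact Or.inr (Subtype.ext (by simpa using k))
  · ext x
    constructor
    · intro hx
      obtain ⟨g, hg, e⟩ := comp_transitive H hx
      exact isConj_iff.2 ⟨⟨g, hg⟩, Subtype.ext e⟩
    · intro hx
      obtain ⟨g, rfl⟩ := isConj_iff.1 (show IsConj (⟨d, comp_le d_comp⟩ : ↥(G0 d)) x from hx)
      exact comp_conj H g.2 d_comp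
  · rw [eq_top_iff]
    rintro ⟨x, hx⟩ -
    induction hx using Subgroup.closure_induction with
    | mem u hu => exact Subgroup.subset_closure hu
    | one => exact one_mem _
    | mul a b _ _ iha ihb => exact mul_mem iha ihb
    | inv a _ iha => exact inv_mem iha

theorem center_CC : Subgroup.center ↥(CC d) = K.π.ker := by
  refine le_antisymm (fun g hg => ?_) K.ker_center
  rw [MonoidHom.mem_ker, ← Subgroup.mem_bot, ← psu_center, Subgroup.mem_center_iff]
  intro x
  obtain ⟨x, rfl⟩ := K.surj x
  rw [← map_mul, ← map_mul, Subgroup.mem_center_iff.mp hg x]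

theorem perp0_map : (PerpGroup (cls0 d) ⟨d, comp_le d_comp⟩).map (G0 d).subtype = CC d := by
  rw [← closure_perp_base H, PerpGroup, MonoidHom.map_closure]
  congr 1
  ext u
  constructor
  · rintro ⟨v, ⟨hv, hne, hc⟩, rfl⟩
    exact ⟨comp_sub H hv, fun e => hne (Subtype.ext e), congrArg Subtype.val hc.eq⟩
  · intro hu
    have hc := comp_perp d_comp hu
    exact ⟨⟨u, comp_le hc⟩, ⟨hc, fun e => hu.2.1 (congrArg Subtype.val e), Subtype.ext hu.2.2.eq⟩, rfl⟩

theorem model0 : HasModel (cls0 d) ⟨d, comp_le d_comp⟩ := by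
  let σ : ↥(PerpGroup (cls0 d) ⟨d, comp_le d_comp⟩) ≃* ↥(CC d) :=
    (Subgroup.equivMapOfInjective _ (G0 d).subtype Subtype.val_injective).trans
      (MulEquiv.subgroupCongr (perp0_map H))
  refine ⟨K4, inferInstance, inferInstance, h4, ⟨((QuotientGroup.congr _ K.π.ker σ ?_)).trans
    (QuotientGroup.quotientKerEquivOfSurjective K.π K.surj)⟩⟩
  rw [← center_CC H]
  ext x
  simp only [Subgroup.mem_map, MulEquiv.coe_toMonoidHom]
  constructor
  · rintro ⟨y, hy, rfl⟩
    exact Subgroup.mem_center_iff.mpr fun z => by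
      simpa using congrArg σ (Subgroup.mem_center_iff.mp hy (σ.symm z))
  · intro hx
    refine ⟨σ.symm x, Subgroup.mem_center_iff.mpr fun z => ?_, σ.apply_symm_apply x⟩
    simpa using congrArg σ.symm (Subgroup.mem_center_iff.mp hx (σ z))

omit H in
theorem perfect_map {A B : Type*} [Group A] [Group B] (f : A →* B) (h : commutator A = ⊤) :
    f.range ≤ commutator B := by
  rw [MonoidHom.range_eq_map, ← h, commutator_def, Subgroup.map_commutator, commutator_def]
  exact Subgroup.commutator_mono le_top le_top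

theorem g0_perfect : commutator ↥(G0 d) = ⊤ := by
  have hle : CC d ≤ G0 d := centralizer_le H d_comp
  rw [eq_top_iff, ← (cls0_class H).2.2, Subgroup.closure_le]
  intro x hx
  obtain ⟨g, hg, e⟩ := comp_transitive H hx
  have hd : (⟨d, comp_le d_comp⟩ : ↥(G0 d)) ∈ commutator ↥(G0 d) :=
    perfect_map (Subgroup.inclusion hle) K.perfect ⟨K.z, Subtype.ext H.hz⟩
  have : (⟨g, hg⟩ : ↥(G0 d)) * ⟨d, comp_le d_comp⟩ * (⟨g, hg⟩ : ↥(G0 d))⁻¹ = x := Subtype.ext e
  rw [← this]
  exact Subgroup.Normal.conj_mem inferInstance _ hd _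

theorem exists_apart_comp : ∃ c ∈ comp d, ¬ Commute d c := by
  by_contra hall
  push Not at hall
  have M := baseModel H
  have hp := M.mem b0 Model.pt_b0
  have hc := M.mem c0 Model.pt_c0
  -- the members beside `pt b0` would all commute with `d`
  obtain ⟨g, hg, e⟩ := comp_transitive H (comp_perp d_comp hp)
  have hcen : ∀ x ∈ comp d, Commute (M.pt b0) x := fun x hx => by
    have := hall (g⁻¹ * x * g) (by simpa using comp_conj H (inv_mem hg) hx)
    rw [← commute_conj_iff g, e] at this
    simpa [mul_assoc] using this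
  have hk := (M.comm _ _ Model.pt_b0 Model.pt_c0).1 (hcen _ (comp_perp d_comp hc))
  revert hk
  decide +kernel

theorem ctx : M22.Ctx (cls0 d) := by
  obtain ⟨c, hc, hdc⟩ := exists_apart_comp H
  refine M22.ctx_of_model (cls0_class H) (g0_perfect H) ?_ (d := ⟨d, comp_le d_comp⟩) d_comp
    (c := ⟨c, comp_le hc⟩) hc (fun k => hdc (congrArg Subtype.val k.eq)) (model0 H)
  rw [Subgroup.eq_bot_iff_forall]
  intro x hx
  have hcomm : ∀ y ∈ G0 d, (x : G) * y = y * x := fun y hy =>
    (congrArg Subtype.val (Subgroup.mem_center_iff.mp hx ⟨y, hy⟩)).symm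
  have hxC : (x : G) ∈ CC d := Subgroup.mem_centralizer_singleton_iff.2 (hcomm d (comp_le d_comp))
  have hxz : (⟨(x : G), hxC⟩ : ↥(CC d)) ∈ K.π.ker := by
    rw [← center_CC H, Subgroup.mem_center_iff]
    exact fun y => Subtype.ext (hcomm y (centralizer_le H d_comp y.2)).symm
  rcases (K.kerEq _).1 hxz with k | k
  · exact Subtype.ext (congrArg Subtype.val k : _)
  · exact absurd (show Commute d c from (hcomm c (comp_le hc) : (x : G) * c = c * x) |> fun e => by
      rwa [show (x : G) = d from (congrArg Subtype.val k).trans H.hz] at e) hdc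

end M22Recog

end Cfsg.Agent.Block.FischerTypes
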