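import Cfsg.Agent.Lib.Block.FischerTypes.M22Recog.Fusion

/-! The conjugates of `d` in the centraliser of `d` are `d` and the lifts; in the plane group they
are twenty-two, permuted transitively by the normaliser. -/

set_option autoImplicit false
set_option maxRecDepth 100000
set_option linter.style.haveILetI false
set_option linter.unusedSectionVars false

namespace Cfsg.Agent.Block.FischerTypes.M22Recog

open Cfsg U6Code Cfsg.Agent.Spor.USixTwo

theorem fold_split : ∀ (l : List ℕ) (r : ℕ), l.foldl (fun r e => r ^^^ e) r = r ^^^ xsum l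
  | [], r => by simp [xsum]
  | a :: l, r => by
    rw [List.foldl_cons, fold_split l (r ^^^ a), show xsum (a :: l) = List.foldl (fun r e => r ^^^ e) (0 ^^^ a) l from rfl,
      fold_split l (0 ^^^ a), Nat.zero_xor, Nat.xor_assoc]

theorem xsum_cons (a : ℕ) (l : List ℕ) : xsum (a :: l) = a ^^^ xsum l := by
  rw [xsum, List.foldl_cons, fold_split, Nat.zero_xor]

/-- The codes of the plane and the central involution are distinct. -/
theorem CaseOK.codes_nd {C : Type*} [Group C] [Finite C] {K : Cov C} {codes : List ℕ} (hc : K.Coords codes)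
    {i j : ℕ} (hi : i < 21) (hj : j < 22) (h : codes.getD i 0 = codes.getD j 0) : i = j := by
  have e : K.cur i = K.cur j := by rw [← (hc i (by omega)).2, ← (hc j hj).2, h]
  rcases (show j < 21 ∨ j = 21 by omega) with k | rfl
  · exact K.cur_inj hi k e
  · exfalso
    rw [K.cur_last, K.cur_lt hi] at e
    have := congrArg K.π e
    rw [K.π_lift (plane_pt (pp_mem hi)), K.proj] at this
    have k := (U6.roots_class h4).1.1 _ (rho_mem (plane_pt (pp_mem hi)))
    rw [this, orderOf_one] at k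
    exact absurd k (by norm_num)

section

variable {G : Type*} [Group G] [Finite G] {d : G} {K : Cov ↥(CC d)}

theorem head_mem {codes : List ℕ} {imgs : List (List ℕ)} {orbs : List (List (ℕ × ℕ × ℕ))}
    (h : chkOrbs codes imgs orbs = true) (k : ℕ) (hk : k < 5) :
    ∃ r l, orbs.getD k [] = r :: l ∧ r.1 < 1024 ∧ chkTree imgs (r :: l) = true ∧ imgs = planePerms.map (imgOf codes) := by
  simp only [chkOrbs, Bool.and_eq_true, List.all_eq_true, beq_iff_eq] at h
  obtain ⟨⟨⟨h1, h2⟩, h3⟩, h5⟩ := h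
  have hlen := Nat.eq_of_beq_eq_true h3
  have hm : orbs.getD k [] ∈ orbs := by rw [List.getD_eq_getElem _ _ (by omega)]; exact List.getElem_mem _
  have ht := h2 _ hm
  match e : orbs.getD k [], ht with
  | [], ht => simp [chkTree] at ht
  | r :: l, ht =>
    refine ⟨r, l, rfl, cover_lt h5 (List.mem_flatten.2 ⟨_, List.mem_map_of_mem hm, ?_⟩), ht, h1⟩
    rw [e]; simp [entries]

/-- The main facts. -/
theorem plane_conj (H : Hyp d K) : ∃ codes : List ℕ, K.Coords codes ∧
    (∀ i < 22, codes.getD i 0 &&& 511 = codes1.getD i 0 &&& 511) ∧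
    ∀ e < 1024, IsConj d ((K.ev e : ↥(CC d)) : G) ↔ ∃ i < 22, e = codes.getD i 0 := by
  classical
  obtain ⟨codes, imgs, orbs, tri, vx, vp, vq, vy, hc, ok⟩ := K.exists_case
  refine ⟨codes, hc, ok.low, ?_⟩
  have hpl := ok.places
  simp only [chkPlaces, Bool.and_eq_true, List.all_eq_true, List.mem_range, Bool.not_eq_true'] at hpl
  obtain ⟨⟨⟨⟨⟨⟨⟨⟨⟨⟨⟨hp0, hr0⟩, hsum⟩, hdP⟩, hT0⟩, hrT⟩, hq1⟩, hq2⟩, hq3⟩, hn12⟩, hn13⟩, hn23⟩ := hpl
  have hsum := Nat.eq_of_beq_eq_true hsum
  have hroots := ok.roots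
  simp only [chkRoots, Bool.and_eq_true] at hroots
  obtain ⟨⟨⟨hx0, hp1⟩, hq2'⟩, hy4⟩ := hroots
  have orbit : ∀ k < 5, ∀ e ∈ entries (orbs.getD k []), e < 1024 ∧
      (IsConj d ((K.ev e : ↥(CC d)) : G) ↔
        IsConj d ((K.ev ((entries (orbs.getD k [])).headD 0) : ↥(CC d)) : G)) := by
    intro k hk e he
    obtain ⟨r, l, ek, hr, ht, himg⟩ := head_mem ok.orb k hk
    rw [ek] at he ⊢
    obtain ⟨g, p, -, hg, rfl⟩ := K.orbit_reach hc himg ht hr e he
    exact ⟨K.app_lt hc hg 10 le_rfl _ hr, (conj_app hc hg hr).symm⟩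
  have bad : ∀ (v : VecData), chkParts codes v = true → chkUnions [] v = true →
      (v.2.2.2.1.map entries).flatten.length = 1022 → ∀ k < 5, v.1 = (entries (orbs.getD k [])).headD 0 →
      ¬ IsConj d ((K.ev ((entries (orbs.getD k [])).headD 0) : ↥(CC d)) : G) := by
    intro v h1 h2 h3 k hk hv hcj
    have hlt : v.1 < 1024 := by
      obtain ⟨r, l, ek, hr, -⟩ := head_mem ok.orb k hk
      rw [hv, ek]; exact hr
    obtain ⟨h, hh, hm⟩ := exists_norm hc ok.low (mem_EE.2 ⟨v.1, hlt, rfl⟩) (hv ▸ hcj)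
    exact (moved_set H hc hlt hh hm h1 h3 [] h2 ok.five ok.size hsum).1 rfl
  have bad1 := bad vp ok.partsP ok.unionsP (ok.lens _ (by simp)) 1 (by norm_num) (Nat.eq_of_beq_eq_true hp1)
  have bad2 := bad vq ok.partsQ ok.unionsQ (ok.lens _ (by simp)) 2 (by norm_num) (Nat.eq_of_beq_eq_true hq2')
  have bad4 := bad vy ok.partsY ok.unionsY (ok.lens _ (by simp)) 4 (by norm_num) (Nat.eq_of_beq_eq_true hy4)
  have hd512 : IsConj d ((K.ev 512 : ↥(CC d)) : G) := by rw [K.ev_z, H.hz]
  have cases5 : ∀ e < 1024, e = 0 ∨ e = 512 ∨ ∃ k < 5, e ∈ entries (orbs.getD k []) := by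
    intro e he
    have h := ok.orb
    simp only [chkOrbs, Bool.and_eq_true] at h
    obtain ⟨⟨-, h3⟩, h5⟩ := h
    rcases cover_mem h5 he with k | k | k
    · exact Or.inl k
    · exact Or.inr (Or.inl k)
    · obtain ⟨P, hP, heP⟩ := List.mem_flatten.1 k
      obtain ⟨p, hp, rfl⟩ := List.mem_map.1 hP
      obtain ⟨j, hj, rfl⟩ := List.getElem_of_mem hp
      refine Or.inr (Or.inr ⟨j, by rw [← Nat.eq_of_beq_eq_true h3]; exact hj, ?_⟩)
      rw [List.getD_eq_getElem _ _ hj]; exact heP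
  have only : ∀ e < 1024, IsConj d ((K.ev e : ↥(CC d)) : G) →
      e = 512 ∨ e ∈ entries (orbs.getD 0 []) ∨ e ∈ entries (orbs.getD 3 []) := by
    intro e he hcj
    rcases cases5 e he with rfl | rfl | ⟨k, hk, hek⟩
    · rw [K.ev_zero, Subgroup.coe_one] at hcj
      exact absurd (isConj_one_left.1 hcj) (d_ne H)
    · exact Or.inl rfl
    · have h := ((orbit k hk e hek).2).1 hcj
      interval_cases k
      exacts [Or.inr (Or.inl hek), absurd h bad1, absurd h bad2, Or.inr (Or.inr hek), absurd h bad4]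
  obtain ⟨r0, l0, ek0, hr0lt, ht0, himg⟩ := head_mem ok.orb 0 (by norm_num)
  obtain ⟨r3, l3, ek3, hr3lt, ht3, -⟩ := head_mem ok.orb 3 (by norm_num)
  have hPlt : ∀ i < 22, codes.getD i 0 < 1024 := fun i hi => (hc i hi).1
  have hX : IsConj d ((K.ev (codes.getD 0 0) : ↥(CC d)) : G) := by
    rw [← Nat.eq_of_beq_eq_true hr0]
    by_contra hX
    have hX' : ∀ e < 1024, IsConj d ((K.ev e : ↥(CC d)) : G) → e = 512 ∨ e ∈ entries (orbs.getD 3 []) := by
      intro e he hcj
      rcases only e he hcj with k | k | k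
      exacts [Or.inl k, absurd (((orbit 0 (by norm_num) e k).2).1 hcj) hX, Or.inr k]
    obtain ⟨g, hgC, hgne⟩ := H.other
    obtain ⟨c, hcE⟩ := K.invol_conj hc (y := ⟨g * d * g⁻¹, hgC⟩) (Subtype.ext (isConj_sq H (isConj_iff.2 ⟨g, rfl⟩)))
    obtain ⟨e0, he0, hev⟩ := hcE
    have hcd : (c : G) * d = d * c := Subgroup.mem_centralizer_singleton_iff.1 c.2
    have he0G : ((K.ev e0 : ↥(CC d)) : G) = (c : G) * (g * d * g⁻¹) * (c : G)⁻¹ := by rw [hev]; rfl
    have hconj0 : IsConj d ((K.ev e0 : ↥(CC d)) : G) :=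
      he0G ▸ (isConj_iff.2 ⟨g, rfl⟩ : IsConj d (g * d * g⁻¹)).trans (isConj_iff.2 ⟨c, rfl⟩)
    have hne512 : e0 ≠ 512 := fun e => hgne (by
      subst e
      have k : (c : G) * (g * d * g⁻¹) * (c : G)⁻¹ = (c : G) * d * (c : G)⁻¹ := by
        rw [← he0G, K.ev_z, H.hz, hcd, mul_inv_cancel_right]
      exact mul_left_cancel (mul_right_cancel k))
    have he03 := (hX' e0 he0 hconj0).resolve_left hne512
    have hT : ∀ e ∈ entries (orbs.getD 3 []), IsConj d ((K.ev e : ↥(CC d)) : G) := fun e he =>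
      ((orbit 3 (by norm_num) e he).2).2 (((orbit 3 (by norm_num) e0 he03).2).1 hconj0)
    obtain ⟨h, hh, hm⟩ := exists_norm hc ok.low (mem_EE.2 ⟨e0, he0, rfl⟩) hconj0
    set W := 512 :: (entries (orbs.getD 3 [])).dedup with hW
    have hWlt : ∀ e ∈ W, e < 1024 := by
      intro e he
      rcases List.mem_cons.1 he with rfl | he
      · norm_num
      · exact (orbit 3 (by norm_num) e (List.mem_dedup.1 he)).1
    have h512T : 512 ∉ entries (orbs.getD 3 []) := fun k => by
      have hk := ((orbit 3 (by norm_num) 512 k).2)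
      have hh1 := orbit 3 (by norm_num) e0 he03
      have := ok.orb
      simp only [chkOrbs, Bool.and_eq_true] at this
      obtain ⟨g', p', -, hg', hp'⟩ := K.orbit_reach hc himg ht3 hr3lt 512 (ek3 ▸ k)
      obtain ⟨g'', p'', -, hg'', hp''⟩ := K.orbit_reach hc himg ht3 hr3lt e0 (ek3 ▸ he03)
      have e1 := K.ev_app hc hg' hr3lt
      rw [hp', K.ev_z, mul_inv_eq_iff_eq_mul, (K.central g').eq] at e1
      have e2 := K.ev_app hc hg'' hr3lt
      rw [hp'', mul_left_cancel e1, ← (K.central g'').eq, mul_inv_cancel_right] at e2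
      exact hne512 (K.ev_inj he0 (by norm_num) (e2.symm.trans K.ev_z.symm))
    have hWnd : W.Nodup := List.nodup_cons.2 ⟨fun k => h512T (List.mem_dedup.1 k), List.nodup_dedup _⟩
    have hmemW : ∀ e < 1024, IsConj d ((K.ev e : ↥(CC d)) : G) ↔ e ∈ W := by
      intro e he
      rw [hW, List.mem_cons, List.mem_dedup]
      exact ⟨hX' e he, fun k => k.elim (fun k => k ▸ hd512) (hT e)⟩
    have hperm : ((W.map fun e => ((K.ev e : ↥(CC d)) : G)).map (MulAut.conj h)).Perm
        (W.map fun e => ((K.ev e : ↥(CC d)) : G)) := by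
      have hinj : ∀ x ∈ W, ∀ y ∈ W, ((K.ev x : ↥(CC d)) : G) = (K.ev y : ↥(CC d)) → x = y :=
        fun x hx y hy e => ev_inj' (hWlt x hx) (hWlt y hy) e
      refine List.Subperm.perm_of_length_le (List.subperm_of_subset ?_ ?_) (by simp)
      · exact (hWnd.map_on hinj).map (MulAut.conj h).injective
      · intro x hx
        obtain ⟨_, hy, rfl⟩ := List.mem_map.1 hx
        obtain ⟨e, he, rfl⟩ := List.mem_map.1 hy
        obtain ⟨f, hf, hfe⟩ := norm_ev hh (hWlt e he)
        refine List.mem_map.2 ⟨f, (hmemW f hf).1 ?_, hfe⟩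
        rw [hfe]
        exact ((hmemW e (hWlt e he)).2 he).trans (isConj_iff.2 ⟨h, rfl⟩)
    have hprod : ((W.map fun e => ((K.ev e : ↥(CC d)) : G))).prod = d := by
      rw [show (W.map fun e => ((K.ev e : ↥(CC d)) : G)) = (W.map fun e => K.ev (id e)).map (CC d).subtype by
        rw [List.map_map]; rfl, ← map_list_prod, ← K.ev_xsum, List.map_id, hW, xsum_cons,
        show xsum (entries (orbs.getD 3 [])).dedup = 0 from ?_, Nat.xor_zero, Subgroup.subtype_apply, K.ev_z, H.hz]
      rw [List.dedup_eq_self.2 ?_]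
      · exact Nat.eq_of_beq_eq_true hT0
      · exact ok.big
    have key : h * d * h⁻¹ = d := by
      have hcm : ∀ x ∈ (W.map fun e => ((K.ev e : ↥(CC d)) : G)).map (MulAut.conj h),
          ∀ y ∈ (W.map fun e => ((K.ev e : ↥(CC d)) : G)).map (MulAut.conj h), Commute x y := by
        intro x hx y hy
        obtain ⟨a, -, rfl⟩ := List.mem_map.1 (hperm.mem_iff.1 hx)
        obtain ⟨b, -, rfl⟩ := List.mem_map.1 (hperm.mem_iff.1 hy)
        exact (K.ev_comm a b).map (CC d).subtype
      have := hperm.prod_eq' (List.pairwise_iff_getElem.2 fun i j hi hj _ => hcm _ (List.getElem_mem hi) _ (List.getElem_mem hj))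
      rwa [← map_list_prod, hprod, MulAut.conj_apply] at this
    exact hne512 (ev_inj' he0 (by norm_num) (by rw [← hm, key, K.ev_z, H.hz]))
  have hPconj : ∀ i < 22, IsConj d ((K.ev (codes.getD i 0) : ↥(CC d)) : G) := by
    intro i hi
    rcases (show i < 21 ∨ i = 21 by omega) with k | rfl
    · have hm := hp0 i k
      rw [maskOf_testBit, decide_eq_true_eq] at hm
      rw [(orbit 0 (by norm_num) _ hm).2, Nat.eq_of_beq_eq_true hr0]
      exact hX
    · have e : codes.getD 21 0 = 512 := K.ev_inj (hPlt 21 hi) (by norm_num) (by rw [(hc 21 hi).2, K.cur_last, K.ev_z])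
      rw [e]; exact hd512
  have hx1 : vx.1 = codes.getD 0 0 := (Nat.eq_of_beq_eq_true hx0).trans (Nat.eq_of_beq_eq_true hr0)
  obtain ⟨h, hh, hm⟩ := exists_norm hc ok.low (mem_EE.2 ⟨vx.1, hx1 ▸ hPlt 0 (by norm_num), rfl⟩) (hx1 ▸ hX)
  obtain ⟨-, hgood⟩ := moved_set H hc (hx1 ▸ hPlt 0 (by norm_num)) hh hm ok.partsX (ok.lens _ (by simp))
    (goodSet codes) ok.unionsX ok.five ok.size hsum
  have hmap : ∀ i < 21, ∃ j, j < 22 ∧ j ≠ 0 ∧
      h * ((K.cur i : ↥(CC d)) : G) * h⁻¹ = ((K.cur j : ↥(CC d)) : G) := by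
    intro i hi
    obtain ⟨f, hf, e⟩ := hgood i hi
    simp only [goodSet, List.mem_filter, Bool.not_eq_true'] at hf
    obtain ⟨j, hj, rfl⟩ := List.getElem_of_mem hf.1
    rw [ok.size] at hj
    refine ⟨j, hj, fun k => ?_, ?_⟩
    · subst k
      rw [← List.getD_eq_getElem _ 0] at hf
      simp at hf
    · rw [← e, ← List.getD_eq_getElem _ 0, (hc j hj).2]
  choose! tg htg1 htg0 htg using hmap
  have tginj : ∀ i < 21, ∀ j < 21, tg i = tg j → i = j := fun i hi j hj e => by
    have k := htg i hi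
    rw [e, ← htg j hj] at k
    exact K.cur_inj hi hj (Subtype.ext (mul_left_cancel (mul_right_cancel k)))
  obtain ⟨i0, hi0, hi0e⟩ : ∃ i < 21, tg i = 21 := by
    by_contra hno
    push Not at hno
    have := Finset.card_le_card_of_injOn tg (s := Finset.range 21) (t := (Finset.range 21).erase 0)
      (fun i hi => by
        have hi := Finset.mem_range.1 hi
        simp only [Finset.coe_erase, Finset.coe_range, Set.mem_sdiff, Set.mem_Iio, Set.mem_singleton_iff]
        have := htg1 i hi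
        have := hno i hi
        exact ⟨by omega, htg0 i hi⟩)
      (fun i hi j hj e => tginj i (Finset.mem_range.1 hi) j (Finset.mem_range.1 hj) e)
    simp at this
  have hnoT : ∀ e ∈ entries (orbs.getD 3 []), ¬ IsConj d ((K.ev e : ↥(CC d)) : G) := by
    intro e he hcj
    have hroot := ((orbit 3 (by norm_num) e he).2).1 hcj
    rw [Nat.eq_of_beq_eq_true hrT] at hroot
    obtain ⟨⟨a, b, c⟩, hq⟩ : ∃ q, q = tri.getD 0 (0, 0, 0) := ⟨_, rfl⟩
    rw [← hq] at hroot hq1 hq2 hq3 hn12 hn13 hn23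
    have ha : a < 21 := Nat.le_of_ble_eq_true hq1
    have hb : b < 21 := Nat.le_of_ble_eq_true hq2
    have hc3 : c < 21 := Nat.le_of_ble_eq_true hq3
    -- carry the first member of the triple to `i0`
    have reach : ∀ i < 21, ∃ g : ↥(CC d), ∃ p : List ℕ, p.length = 21 ∧ K.Acts g p ∧
        app codes p (codes.getD 0 0) = codes.getD i 0 := by
      intro i hi
      have hm := hp0 i hi
      rw [maskOf_testBit, decide_eq_true_eq, ek0] at hm
      have hh0 : r0.1 = codes.getD 0 0 := by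
        have := Nat.eq_of_beq_eq_true hr0
        rw [ek0] at this
        simpa [entries] using this
      rw [← hh0]
      exact K.orbit_reach hc himg ht0 hr0lt _ hm
    obtain ⟨g1, p1, -, hg1, hp1'⟩ := reach a ha
    obtain ⟨g2, p2, -, hg2, hp2'⟩ := reach i0 hi0
    obtain ⟨g, hgdef⟩ : ∃ g, g = g2 * g1⁻¹ := ⟨_, rfl⟩
    have hnorm : ∀ x ∈ K.eSub, g * x * g⁻¹ ∈ K.eSub := fun x hx =>
      (Subgroup.mem_normalizer_iff.1 (hgdef ▸ mul_mem (K.acts_normalizer hc hg2) (inv_mem (K.acts_normalizer hc hg1))) x).1 hx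
    have hga : g * K.cur a * g⁻¹ = K.cur i0 := by
      rw [← (hc a (by omega)).2, ← hp1', ← (hc i0 (by omega)).2, ← hp2', ← K.ev_app hc hg1 (hPlt 0 (by norm_num)),
        ← K.ev_app hc hg2 (hPlt 0 (by norm_num)), hgdef]
      simp [mul_assoc]
    obtain ⟨b', hb', hgb⟩ := K.norm_cur hc hnorm hb
    obtain ⟨c', hc', hgc⟩ := K.norm_cur hc hnorm hc3
    have hdist : ∀ x y, x < 21 → y < 21 → ∀ x', g * K.cur x * g⁻¹ = K.cur x' → g * K.cur y * g⁻¹ = K.cur x' → x = y :=
      fun x y hx hy x' e1 e2 => K.cur_inj hx hy (mul_left_cancel (mul_right_cancel (e1.trans e2.symm)))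
    have nb : b' ≠ i0 := fun e => by
      have := hdist b a hb ha i0 (e ▸ hgb) hga
      rw [this] at hn12; simp at hn12
    have nc : c' ≠ i0 := fun e => by
      have := hdist c a hc3 ha i0 (e ▸ hgc) hga
      rw [this] at hn13; simp at hn13
    have nbc : b' ≠ c' := fun e => by
      have := hdist b c hb hc3 c' (e ▸ hgb) hgc
      rw [this] at hn23; simp at hn23
    have htb : tg b' < 21 := by
      have := htg1 b' hb'
      have : tg b' ≠ 21 := fun e => nb (tginj b' hb' i0 hi0 (e.trans hi0e.symm))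
      omega
    have htc : tg c' < 21 := by
      have := htg1 c' hc'
      have : tg c' ≠ 21 := fun e => nc (tginj c' hc' i0 hi0 (e.trans hi0e.symm))
      omega
    have htbc : tg b' ≠ tg c' := fun e => nbc (tginj b' hb' c' hc' e)
    refine bad2 ?_
    have hmem : codes.getD (tg b') 0 ^^^ codes.getD (tg c') 0 ^^^ 512 ∈ entries (orbs.getD 2 []) := by
      rcases Nat.lt_or_gt_of_ne htbc with k | k
      · have := hdP (tg c') htc (tg b') k
        rw [maskOf_testBit, decide_eq_true_eq, Nat.xor_comm (codes.getD (tg c') 0)] at this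
        exact this
      · have := hdP (tg b') htb (tg c') k
        rwa [maskOf_testBit, decide_eq_true_eq] at this
    refine ((orbit 2 (by norm_num) _ hmem).2).1 ?_
    have e2 : K.ev (codes.getD (tg b') 0 ^^^ codes.getD (tg c') 0 ^^^ 512) = K.cur (tg i0) * K.cur (tg b') * K.cur (tg c') := by
      rw [K.ev_xor, K.ev_xor, (hc (tg b') (by omega)).2, (hc (tg c') (by omega)).2, K.ev_z, hi0e, K.cur_last,
        ← (K.central _).eq, mul_assoc]
    rw [e2]
    have hu : IsConj d ((g * K.ev (codes.getD a 0 ^^^ codes.getD b 0 ^^^ codes.getD c 0) * g⁻¹ : ↥(CC d)) : G) :=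
      hroot.trans (isConj_iff.2 ⟨(g : G), by simp⟩)
    rw [show g * K.ev (codes.getD a 0 ^^^ codes.getD b 0 ^^^ codes.getD c 0) * g⁻¹ =
        K.cur i0 * K.cur b' * K.cur c' by
      rw [K.ev_xor, K.ev_xor, (hc a (by omega)).2, (hc b (by omega)).2, (hc c (by omega)).2, ← hga, ← hgb, ← hgc]
      simp [mul_assoc]] at hu
    refine hu.trans (isConj_iff.2 ⟨h, ?_⟩)
    simp only [Subgroup.coe_mul]
    rw [← htg i0 hi0, ← htg b' hb', ← htg c' hc']
    simp [mul_assoc]
  intro e he
  constructor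
  · intro hcj
    rcases only e he hcj with rfl | k | k
    · exact ⟨21, by norm_num, K.ev_inj (by norm_num) (hPlt 21 (by norm_num))
        (by rw [(hc 21 (by norm_num)).2, K.cur_last, K.ev_z])⟩
    · have hi : ∃ i < 21, e = codes.getD i 0 := by
        obtain ⟨g, p, -, hg, hp⟩ := K.orbit_reach hc himg ht0 hr0lt e (ek0 ▸ k)
        have hh0 : r0.1 = codes.getD 0 0 := by
          have := Nat.eq_of_beq_eq_true hr0
          rw [ek0] at this
          simpa [entries] using this
        obtain ⟨h1, h2⟩ := hg 0 (by norm_num)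
        refine ⟨p.getD 0 0, h1, ?_⟩
        refine K.ev_inj he (hPlt _ (by omega)) ?_
        rw [← hp, hh0, ← K.ev_app hc hg (hPlt 0 (by norm_num)), (hc 0 (by norm_num)).2, h2, (hc _ (by omega)).2]
      obtain ⟨i, hi, rfl⟩ := hi
      exact ⟨i, by omega, rfl⟩
    · exact absurd hcj (hnoT e k)
  · rintro ⟨i, hi, rfl⟩
    exact hPconj i hi

end

end Cfsg.Agent.Block.FischerTypes.M22Recog
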