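import Cfsg.Agent.Lib.Block.FischerTypes.U6Code.Checks
import Cfsg.Agent.Lib.Block.FischerTypes.M22Recog.Data

/-! Tests on the tables for the recognition of groups of type M(22). Sets of places are masks below
`2^22`, the last place standing for the central involution; codes are masks below `2^10` over the
independent places and that one. -/

set_option autoImplicit false

namespace Cfsg.Agent.Block.FischerTypes.M22Recog

open U6Code

/-- The place of a code bit. -/
def bitPlace (k : ℕ) : ℕ := (freeIdx ++ [21]).getD k 0

/-- The places of a code. -/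
def expand (c : ℕ) : ℕ :=
  (List.range 10).foldl (fun r k => cond (c.testBit k) (r ^^^ 2 ^ bitPlace k) r) 0

/-- The relations in the case with signs `s` and `t`. -/
def rels (s t : ℕ) : List ℕ :=
  (lineData.map fun l => l.1 ||| 2 ^ 21) ++ [(hexData.getD 0 (0, [])).1 ||| s <<< 21, (hexData.getD 1 (0, [])).1 ||| t <<< 21]

/-- The sum of the selected entries. -/
def select (l : List ℕ) (c : ℕ) : ℕ :=
  (List.range l.length).foldl (fun r k => cond (c.testBit k) (r ^^^ l.getD k 0) r) 0

/-- Each place is its code modulo the relations. -/
def chkCodes (s t : ℕ) (codes combs : List ℕ) : Bool :=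
  Nat.beq codes.length 22 && (List.range 22).all fun i =>
    Nat.blt (codes.getD i 0) 1024 && Nat.beq (select (rels s t) (combs.getD i 0)) (2 ^ i ^^^ expand (codes.getD i 0))

/-- The images of the independent places. -/
def imgOf (codes g : List ℕ) : List ℕ := freeIdx.map fun i => codes.getD (g.getD i 0) 0

/-- The linear extension of the images of the lowest bits; the top bit is fixed. -/
def lin : List ℕ → ℕ → ℕ
  | [], e => e <<< 9
  | v :: vs, e => cond (e.testBit 0) v 0 ^^^ (lin vs (e >>> 1))

/-- A permutation of the places on codes. -/
def app (codes g : List ℕ) (e : ℕ) : ℕ := lin (imgOf codes g) e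

/-- The composite of the generators along a word. -/
def permOf (w : List ℕ) : List ℕ :=
  w.foldl (fun g k => g.map fun i => (planePerms.getD k []).getD i 0) (List.range 21)

/-- Each entry after the root is the image of an earlier one; `m` is the set of earlier entries. -/
def growTree (imgs : List (List ℕ)) : List (ℕ × ℕ × ℕ) → ℕ → Bool
  | [], _ => true
  | e :: es, m => m.testBit e.2.1 && Nat.blt e.2.2 imgs.length &&
      Nat.beq (lin (imgs.getD e.2.2 []) e.2.1) e.1 && growTree imgs es (m ||| 2 ^ e.1)

/-- A tree carrying its root to each entry by the given maps. -/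
def chkTree (imgs : List (List ℕ)) : List (ℕ × ℕ × ℕ) → Bool
  | [] => false
  | e :: es => growTree imgs es (2 ^ e.1)

/-- The set of a list of codes. -/
def maskOf (l : List ℕ) : ℕ := l.foldl (fun m e => m ||| 2 ^ e) 0

/-- No entry lies in the set `m` or is repeated. -/
def distinct : List ℕ → ℕ → Bool
  | [], _ => true
  | a :: l, m => !(m.testBit a) && distinct l (m ||| 2 ^ a)

theorem distinct_spec : ∀ {l : List ℕ} {m : ℕ}, distinct l m = true → l.Nodup ∧ ∀ a ∈ l, m.testBit a = false
  | [], _, _ => by simp
  | a :: l, m, h => by
    simp only [distinct, Bool.and_eq_true, Bool.not_eq_true'] at h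
    obtain ⟨h1, h2⟩ := distinct_spec h.2
    refine ⟨List.nodup_cons.2 ⟨fun k => by simpa [Nat.testBit_or] using h2 a k, h1⟩, fun e he => ?_⟩
    rcases List.mem_cons.1 he with rfl | he
    · exact h.1
    · have := h2 e he
      rw [Nat.testBit_or, Bool.or_eq_false_iff] at this
      exact this.1

/-- The entries of a tree. -/
def entries (p : List (ℕ × ℕ × ℕ)) : List ℕ := p.map fun e => e.1

/-- The unions of members with the given total size. -/
def opts : List (List ℕ) → ℕ → List (List ℕ)
  | [], n => cond (Nat.beq n 0) [[]] []
  | p :: ps, n => (cond (Nat.ble p.length n) ((opts ps (n - p.length)).map fun u => p ++ u) []) ++ opts ps n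

/-- The sum of a list of codes. -/
def xsum (l : List ℕ) : ℕ := l.foldl (fun r e => r ^^^ e) 0

/-- Five different members with sum zero. -/
def isFive (u q : List ℕ) : Bool :=
  Nat.beq q.length 5 && Nat.beq (xsum q) 0 && (q.all fun e => u.contains e) &&
    (List.range 5).all fun i => (List.range i).all fun j => !(Nat.beq (q.getD i 0) (q.getD j 0))

/-- The data at a representative. -/
abbrev VecData := ℕ × List (List ℕ) × List (List ℕ) × List (List (ℕ × ℕ × ℕ)) × List (List ℕ)

/-- The stabiliser words of a representative and their orbits. -/
def chkParts (codes : List ℕ) (d : VecData) : Bool :=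
  Nat.beq d.2.1.length d.2.2.1.length &&
    ((List.range d.2.1.length).all fun j =>
      ((d.2.1.getD j []).all fun k => Nat.blt k 3) &&
        (d.2.2.1.getD j []) == imgOf codes (permOf (d.2.1.getD j [])) &&
        Nat.beq (lin (d.2.2.1.getD j []) d.1) d.1) &&
    (d.2.2.2.1.all fun p => chkTree d.2.2.1 p) &&
    Nat.beq (maskOf ((d.2.2.2.1.map entries).flatten) ||| 1 ||| 2 ^ d.1) (2 ^ 1024 - 1)

/-- The small orbits at a representative. -/
def smallParts (d : VecData) : List (List ℕ) :=
  (d.2.2.2.1.map entries).filter fun p => Nat.ble p.length 21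

/-- Each union of twenty-one codes with the right sum has a dependent quintuple or is the given one. -/
def chkUnions (good : List ℕ) (d : VecData) : Bool :=
  (opts (smallParts d) 21).all fun u => !(Nat.beq (xsum u) d.1) ||
    ((d.2.2.2.2.any fun q => isFive u q) || (!(good.isEmpty) && u.all fun e => good.contains e))

/-- The orbit trees of a case. -/
def chkOrbs (codes : List ℕ) (imgs : List (List ℕ)) (orbs : List (List (ℕ × ℕ × ℕ))) : Bool :=
  imgs == planePerms.map (imgOf codes) && (orbs.all fun p => chkTree imgs p) && Nat.beq orbs.length 5 &&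
    Nat.beq (maskOf ((orbs.map entries).flatten) ||| 1 ||| 2 ^ 512) (2 ^ 1024 - 1)

/-- The places of the orbits of a case. -/
def chkPlaces (codes : List ℕ) (orbs : List (List (ℕ × ℕ × ℕ))) (tri : List (ℕ × ℕ × ℕ)) : Bool :=
  let m0 := maskOf (entries (orbs.getD 0 []))
  let m2 := maskOf (entries (orbs.getD 2 []))
  let q := tri.getD 0 (0, 0, 0)
  ((List.range 21).all fun i => m0.testBit (codes.getD i 0)) &&
    Nat.beq ((entries (orbs.getD 0 [])).headD 0) (codes.getD 0 0) &&
    Nat.beq (xsum ((List.range 21).map fun i => codes.getD i 0)) 512 &&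
    ((List.range 21).all fun i => (List.range i).all fun j =>
      m2.testBit (codes.getD i 0 ^^^ codes.getD j 0 ^^^ 512)) &&
    Nat.beq (xsum (entries (orbs.getD 3 []))) 0 &&
    Nat.beq ((entries (orbs.getD 3 [])).headD 0) (codes.getD q.1 0 ^^^ codes.getD q.2.1 0 ^^^ codes.getD q.2.2 0) &&
    Nat.blt q.1 21 && Nat.blt q.2.1 21 && Nat.blt q.2.2 21 &&
    !(Nat.beq q.1 q.2.1) && !(Nat.beq q.1 q.2.2) && !(Nat.beq q.2.1 q.2.2)

/-- The expected union at a plane representative. -/
def goodSet (codes : List ℕ) : List ℕ := codes.filter fun e => !(Nat.beq e (codes.getD 0 0))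

/-- The representatives are the roots of the orbits. -/
def chkRoots (orbs : List (List (ℕ × ℕ × ℕ))) (x p q y : VecData) : Bool :=
  let root := fun k => (entries (orbs.getD k [])).headD 0
  Nat.beq x.1 (root 0) && Nat.beq p.1 (root 1) && Nat.beq q.1 (root 2) && Nat.beq y.1 (root 4)

/-- The pattern of orthogonality to the separating points. -/
def sig (x : ℕ) : ℕ := U6Code.key sepPts x

/-- The image of the separating points. -/
def imS (w : List ℕ) : List ℕ := sepPts.map (act w)

/-- The word of an element of the plane group. -/
def qWord (m : ℕ) : List ℕ :=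
  ((List.range 9).filter fun k => m.testBit k).map fun k => plane.getD (freeIdx.getD k 0) 0

/-- The permutation of the places by a word. -/
def placeOf (x : ℕ) : ℕ := plane.idxOf x

/-- The quotient words act on the plane and close up under the generators. -/
def chkSyl : Bool :=
  Nat.beq sylWords.length 64 && Nat.beq sylGens.length 4 && Nat.beq sylMul.length 64 &&
  (sylWords.all fun w => w.all isPt && plane.all fun x => plane.contains (act w x)) &&
  ((List.range 64).all fun i => (List.range i).all fun j =>
    !(plane.all fun x => Nat.beq (act (sylWords.getD i []) x) (act (sylWords.getD j []) x))) &&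
  (sylGens.all fun g => g.all isPt && plane.all fun x => plane.contains (act g x)) &&
  Nat.beq (sylWords.getD 0 [0]).length 0 &&
  (List.range 64).all fun e => (List.range 4).all fun g =>
    let d := (sylMul.getD e []).getD g (512, 64)
    Nat.blt d.1 512 && Nat.blt d.2 64 &&
      sepPts.all fun x => Nat.beq (act (sylWords.getD e [] ++ sylGens.getD g []) x)
        (act (qWord d.1 ++ sylWords.getD d.2 []) x)

/-- The codes in a complement fixed by a quotient word. -/
def sylFix (e : ℕ) : List ℕ :=
  let g := plane.map fun x => placeOf (act (sylWords.getD e []) x)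
  (List.range 512).filter fun m => Nat.beq (app codes1 g m &&& 511) m

/-- Composites of quotient words on places. -/
def sylPerm (e : ℕ) : List ℕ := plane.map fun x => placeOf (act (sylWords.getD e []) x)

/-- The words inducing involutions. -/
def sylInvol : List ℕ :=
  (List.range 64).filter fun e => !(Nat.beq e 0) &&
    (let g := sylPerm e; (List.range 21).all fun i => Nat.beq (g.getD (g.getD i 0) 0) i)

/-- Do two quotient words commute on the places? -/
def sylComm (e f : ℕ) : Bool :=
  let g := sylPerm e
  let h := sylPerm f
  (List.range 21).all fun i => Nat.beq (g.getD (h.getD i 0) 0) (h.getD (g.getD i 0) 0)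

/-- Elementary groups outside the plane group are small. -/
def chkElem : Bool :=
  sylInvol.all fun e => Nat.ble (sylFix e).length 32 &&
    (Nat.ble (sylInvol.filter (sylComm e)).length 15 ||
      Nat.ble (sylInvol.filter fun f => sylInvol.all (sylComm f)).length 3 &&
        sylInvol.all (sylComm e)) &&
    sylInvol.all fun f => Nat.beq e f || !(sylComm e f) ||
      Nat.ble ((sylFix e).filter fun m => (sylFix f).contains m).length 16

end Cfsg.Agent.Block.FischerTypes.M22Recog
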