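import Cfsg.Agent.Lib.Block.FischerTypes.M22Recog.Case

/-! Conjugates of the central involution in its centraliser: the involution and one class of lifts
of transvections. -/

set_option autoImplicit false
set_option maxRecDepth 100000
set_option linter.style.haveILetI false
set_option linter.unusedSectionVars false

namespace Cfsg.Agent.Block.FischerTypes.M22Recog

open Cfsg U6Code Cfsg.Agent.Spor.USixTwo

theorem fold_lt : ∀ (l : List ℕ) (r : ℕ), (∀ i ∈ l, i < 1024) → r < 1024 → l.foldl (fun r e => r ^^^ e) r < 1024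
  | [], _, _, h => h
  | a :: l, r, h1, h2 => fold_lt l _ (fun i hi => h1 i (List.mem_cons_of_mem _ hi))
      (Nat.xor_lt_two_pow (n := 10) h2 (h1 a List.mem_cons_self))

theorem xor_rc (z a b : ℕ) : (z ^^^ a) ^^^ b = (z ^^^ b) ^^^ a := by
  rw [Nat.xor_assoc, Nat.xor_comm a b, Nat.xor_assoc]

namespace Cov

variable {C : Type*} [Group C] [Finite C] (K : Cov C)

theorem ev_xsum (f : ℕ → ℕ) (l : List ℕ) : K.ev (xsum (l.map f)) = (l.map fun i => K.ev (f i)).prod := by
  rw [xsum, List.foldl_map, ev, bval_fold K.ev_elem, bval_zero, one_mul]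
  rfl

variable {codes : List ℕ} (hc : K.Coords codes)
include hc

/-- Every involution is conjugate into the plane group. -/
theorem invol_conj {y : C} (hy : y * y = 1) : ∃ g : C, g * y * g⁻¹ ∈ K.eSub := by
  obtain ⟨g, L, hL, hg⟩ := inv_normal (u := K.π y) (by rw [← map_mul, hy, map_one])
  obtain ⟨g, rfl⟩ := K.surj g
  have hm := mem_plane_of_std hL
  refine ⟨g, K.pre_eSub (y := (L.reverse.map K.lift).prod) (list_prod_mem fun x hx => ?_) ?_⟩
  · obtain ⟨p, hp, rfl⟩ := List.mem_map.1 hx
    have hp' := hm p (List.mem_reverse.1 hp)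
    rw [← K.cur_placeOf hp']
    exact K.cur_mem hc (Nat.lt_succ_of_lt (placeOf_lt hp'))
  · rw [map_mul, map_mul, map_inv, hg, wordP, map_list_prod, List.map_map]
    exact congrArg _ (List.map_congr_left fun p hp => (K.π_lift (plane_pt (hm p (List.mem_reverse.1 hp)))).symm)

/-- An elementary subgroup of order at least `2^10` is conjugate to the plane group. -/
theorem elem_conj (hlow : ∀ i < 22, codes.getD i 0 &&& 511 = codes1.getD i 0 &&& 511) {A : Subgroup C}
    (h2 : ∀ a ∈ A, a * a = 1) (hab : ∀ a ∈ A, ∀ b ∈ A, Commute a b) (hcard : 1024 ≤ Nat.card A) :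
    ∃ g : C, A.map (MulAut.conj g).toMonoidHom = K.eSub := by
  haveI : Fact (Nat.Prime 2) := ⟨Nat.prime_two⟩
  have hP : IsPGroup 2 A := fun a => ⟨1, Subtype.ext (by simpa [pow_two] using h2 a a.2)⟩
  obtain ⟨S, hS⟩ := hP.exists_le_sylow
  obtain ⟨T, hT⟩ := K.sylT_sylow hc
  obtain ⟨g, hg⟩ := MulAction.exists_smul_eq C S T
  have hST : (S : Subgroup C).map (MulAut.conj g).toMonoidHom = K.sylT := by rw [← hT, ← hg]; rfl
  refine ⟨g, K.elem_le hc ((Subgroup.map_mono hS).trans hST.le) ?_ ?_ ?_ hlow⟩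
  · rintro _ ⟨a, ha, rfl⟩
    rw [← map_mul, h2 a ha, map_one]
  · rintro _ ⟨a, ha, rfl⟩ _ ⟨b, hb, rfl⟩
    exact (hab a ha b hb).map _
  · rwa [Subgroup.card_map_of_injective (MulAut.conj g).injective]

/-- A normaliser of the plane group permutes the plane lifts. -/
theorem norm_cur {n : C} (hn : ∀ x ∈ K.eSub, n * x * n⁻¹ ∈ K.eSub) {i : ℕ} (hi : i < 21) :
    ∃ j < 21, n * K.cur i * n⁻¹ = K.cur j := by
  have hpi := plane_pt (pp_mem hi)
  obtain ⟨q, hq, e⟩ := rho_surj (Spor.ThreeTrans.conj_mem (U6.roots_class h4) (K.π n) (rho_mem hpi))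
  have hl : n * K.cur i * n⁻¹ = K.lift q := by rw [K.cur_lt hi]; exact K.lift_conj hpi hq e.symm
  have hmem := hn _ (K.cur_mem hc (Nat.lt_succ_of_lt hi))
  have hq' : q ∈ plane := plane_max hq fun x hx => by
    obtain ⟨m, -, hm⟩ := hmem
    obtain ⟨m', -, hm'⟩ := K.cur_mem hc (Nat.lt_succ_of_lt (placeOf_lt hx))
    rw [← K.lift_comm hq (plane_pt hx), ← hl, ← hm, ← K.cur_placeOf hx, ← hm']
    exact K.ev_comm _ _
  exact ⟨_, placeOf_lt hq', by rw [hl, K.cur_placeOf hq']⟩

variable {imgs : List (List ℕ)}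

/-- The generators on the codes. -/
theorem gen_img (himg : imgs = planePerms.map (imgOf codes)) {j : ℕ} (hj : j < imgs.length) :
    ∃ g : C, ∃ p : List ℕ, p.length = 21 ∧ K.Acts g p ∧ imgs.getD j [] = imgOf codes p := by
  have h3 : planePerms.length = 3 := by decide +kernel
  have hj' : j < 3 := by rw [himg, List.length_map, h3] at hj; exact hj
  obtain ⟨g, hg, hl⟩ := K.exists_gen hj'
  exact ⟨g, _, hl, hg, by rw [himg, List.getD_eq_getElem _ _ (by rw [List.length_map, h3]; exact hj'),
    List.getElem_map, ← List.getD_eq_getElem _ []]⟩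

theorem app_zero (p : List ℕ) : app codes p 0 = 0 := by
  have := lin_xor (imgOf codes p) 0 0
  rwa [Nat.xor_self, Nat.xor_self] at this

theorem app_comp {g g' : C} {p p' : List ℕ} (hg : K.Acts g p) (hg' : K.Acts g' p') (hl : p.length = 21) {e : ℕ}
    (he : e < 1024) : app codes (p.map fun i => p'.getD i 0) e = app codes p' (app codes p e) := by
  refine K.ev_inj (K.app_lt hc (K.acts_mul hg hg' hl) 10 le_rfl e he)
    (K.app_lt hc hg' 10 le_rfl _ (K.app_lt hc hg 10 le_rfl e he)) ?_
  rw [← K.ev_app hc (K.acts_mul hg hg' hl) he, ← K.ev_app hc hg' (K.app_lt hc hg 10 le_rfl e he), ← K.ev_app hc hg he]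
  simp [mul_assoc]

/-- Each entry of an orbit tree is the image of its root. -/
theorem orbit_reach (himg : imgs = planePerms.map (imgOf codes)) {r : ℕ × ℕ × ℕ} {l : List (ℕ × ℕ × ℕ)}
    (h : chkTree imgs (r :: l) = true) (hr : r.1 < 1024) : ∀ x ∈ entries (r :: l),
    ∃ g : C, ∃ p : List ℕ, p.length = 21 ∧ K.Acts g p ∧ app codes p r.1 = x := by
  refine tree_induct (P := fun x => ∃ g : C, ∃ p : List ℕ, p.length = 21 ∧ K.Acts g p ∧ app codes p r.1 = x)
    (fun j hj e he => ?_) h ?_
  · obtain ⟨g, p, hl, hg, rfl⟩ := he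
    obtain ⟨g', p', -, hg', hp'⟩ := K.gen_img hc himg hj
    exact ⟨g' * g, _, by rw [List.length_map, hl], K.acts_mul hg hg' hl, by
      rw [K.app_comp hc hg hg' hl hr, hp']; rfl⟩
  · obtain ⟨g, hg, hl⟩ := K.exists_permOf [] (by simp)
    refine ⟨g, permOf [], hl, hg, ?_⟩
    refine K.ev_inj (K.app_lt hc hg 10 le_rfl _ hr) hr ?_
    have h1 : K.Acts (1 : C) (permOf []) := fun i hi => by simp [permOf, hi]
    rw [← K.ev_app hc h1 hr]; simp

end Cov

section

variable {G : Type*} [Group G] [Finite G] {d : G}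

/-- The centraliser. -/
abbrev CC (d : G) : Subgroup G := Subgroup.centralizer ({d} : Set G)

/-- The setting: a cover structure on the centraliser whose central involution is `d`, some other
conjugate of which commutes with it. -/
structure Hyp (d : G) (K : Cov ↥(CC d)) : Prop where
  hz : (K.z : G) = d
  other : ∃ g : G, g * d * g⁻¹ ∈ CC d ∧ g * d * g⁻¹ ≠ d

variable {K : Cov ↥(CC d)} (H : Hyp d K)

/-- The plane group in the whole group. -/
noncomputable abbrev EE (K : Cov ↥(CC d)) : Subgroup G := K.eSub.map (CC d).subtype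

theorem mem_EE {x : G} : x ∈ EE K ↔ ∃ e < 1024, ((K.ev e : ↥(CC d)) : G) = x := by
  constructor
  · rintro ⟨_, ⟨e, he, rfl⟩, rfl⟩; exact ⟨e, he, rfl⟩
  · rintro ⟨e, he, rfl⟩; exact ⟨_, ⟨e, he, rfl⟩, rfl⟩

theorem d_sq (H : Hyp d K) : d * d = 1 := by rw [← H.hz, ← Subgroup.coe_mul, K.sq, Subgroup.coe_one]

theorem d_ne (H : Hyp d K) : d ≠ 1 := fun e => K.ne (Subtype.ext (by rw [H.hz, e]; rfl))

theorem isConj_sq (H : Hyp d K) {x : G} (hx : IsConj d x) : x * x = 1 := by
  obtain ⟨g, rfl⟩ := isConj_iff.1 hx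
  rw [show g * d * g⁻¹ * (g * d * g⁻¹) = g * (d * d) * g⁻¹ by simp [mul_assoc], d_sq H]; simp

/-- The conjugates in the plane group are those in the orbit of `d` under its normaliser. -/
theorem exists_norm {codes : List ℕ} (hc : K.Coords codes)
    (hlow : ∀ i < 22, codes.getD i 0 &&& 511 = codes1.getD i 0 &&& 511) {x : G} (hx : x ∈ EE K)
    (hconj : IsConj d x) : ∃ h ∈ Subgroup.normalizer (EE K : Set G), h * d * h⁻¹ = x := by
  obtain ⟨g, hg⟩ := isConj_iff.1 hconj
  have hcomm : ∀ y ∈ EE K, Commute x y := by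
    intro y hy
    obtain ⟨a, -, rfl⟩ := mem_EE.1 hx
    obtain ⟨b, -, rfl⟩ := mem_EE.1 hy
    exact (K.ev_comm a b).map (CC d).subtype
  have hin : ∀ y ∈ EE K, g⁻¹ * y * g ∈ CC d := fun y hy => by
    rw [Subgroup.mem_centralizer_singleton_iff]
    have k := (Spor.ThreeTrans.commute_conj_iff g⁻¹ x y).2 (hcomm y hy)
    rw [inv_inv, show g⁻¹ * x * g = d by rw [← hg]; simp [mul_assoc]] at k
    exact k.eq.symm
  let A : Subgroup ↥(CC d) := ((EE K).map (MulAut.conj g⁻¹).toMonoidHom).subgroupOf (CC d)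
  have hA : ∀ a : ↥(CC d), a ∈ A → ∃ y ∈ EE K, g⁻¹ * y * g = (a : G) := by
    intro a ha
    obtain ⟨y, hy, e⟩ := Subgroup.mem_subgroupOf.1 ha
    exact ⟨y, hy, by simpa using e⟩
  have h2 : ∀ y ∈ EE K, y * y = 1 := by
    intro y hy
    obtain ⟨b, -, rfl⟩ := mem_EE.1 hy
    rw [← Subgroup.coe_mul, K.ev_self, Subgroup.coe_one]
  obtain ⟨c, hcA⟩ := K.elem_conj hc hlow (A := A) (fun a ha => by
      obtain ⟨y, hy, e⟩ := hA a ha
      refine Subtype.ext ?_
      rw [Subgroup.coe_mul, Subgroup.coe_one, ← e, show g⁻¹ * y * g * (g⁻¹ * y * g) = g⁻¹ * (y * y) * g by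
        simp [mul_assoc], h2 y hy]
      simp) (fun a ha b hb => by
      obtain ⟨y, hy, ey⟩ := hA a ha
      obtain ⟨y', hy', ey'⟩ := hA b hb
      obtain ⟨m, -, rfl⟩ := mem_EE.1 hy
      obtain ⟨n, -, rfl⟩ := mem_EE.1 hy'
      have k := (Spor.ThreeTrans.commute_conj_iff g⁻¹ _ _).2 ((K.ev_comm m n).map (CC d).subtype)
      refine Subtype.ext ?_
      rw [Subgroup.coe_mul, Subgroup.coe_mul, ← ey, ← ey']
      simpa using k.eq) (by
      let f : ↥(EE K) → A := fun y => ⟨⟨g⁻¹ * y * g, hin y y.2⟩, Subgroup.mem_subgroupOf.2 ⟨y, y.2, by simp⟩⟩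
      have hf : Function.Injective f := fun a b h => Subtype.ext (mul_left_cancel (mul_right_cancel
        (congrArg (fun t : A => ((t : ↥(CC d)) : G)) h)))
      refine le_trans (le_of_eq ?_) (Nat.card_le_card_of_injective f hf)
      rw [Subgroup.card_map_of_injective (CC d).subtype_injective, K.card_eSub])
  have hsub : ∀ y ∈ EE K, (c : G) * (g⁻¹ * y * g) * (c : G)⁻¹ ∈ EE K := fun y hy => by
    refine ⟨c * ⟨g⁻¹ * y * g, hin y hy⟩ * c⁻¹, ?_, rfl⟩
    rw [SetLike.mem_coe, ← hcA]
    exact ⟨⟨g⁻¹ * y * g, hin y hy⟩, Subgroup.mem_subgroupOf.2 ⟨y, hy, by simp⟩, rfl⟩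
  refine ⟨g * (c : G)⁻¹, ?_, ?_⟩
  · rw [← inv_mem_iff, Subgroup.mem_normalizer_iff]
    intro y
    have key : ∀ y ∈ EE K, (g * (c : G)⁻¹)⁻¹ * y * ((g * (c : G)⁻¹)⁻¹)⁻¹ ∈ EE K := fun y hy => by
      simpa [mul_assoc] using hsub y hy
    refine ⟨key y, fun hy => ?_⟩
    let f : ↥(EE K) → ↥(EE K) := fun y => ⟨_, key y y.2⟩
    have hf : Function.Injective f := fun a b h =>
      Subtype.ext (mul_left_cancel (mul_right_cancel (congrArg Subtype.val h)))
    obtain ⟨z, hz⟩ := (Finite.injective_iff_surjective.1 hf) ⟨_, hy⟩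
    exact (mul_left_cancel (mul_right_cancel (congrArg Subtype.val hz)) : (z : G) = y) ▸ z.2
  · have hcd : (c : G) * d = d * c := Subgroup.mem_centralizer_singleton_iff.1 c.2
    rw [show g * (c : G)⁻¹ * d * (g * (c : G)⁻¹)⁻¹ = g * ((c : G)⁻¹ * (d * c)) * g⁻¹ by simp [mul_assoc], ← hcd,
      inv_mul_cancel_left, hg]

theorem norm_ev {h : G} (hh : h ∈ Subgroup.normalizer (EE K : Set G)) {e : ℕ} (he : e < 1024) :
    ∃ f < 1024, ((K.ev f : ↥(CC d)) : G) = h * (K.ev e : ↥(CC d)) * h⁻¹ :=
  mem_EE.1 ((Subgroup.mem_normalizer_iff.1 hh _).1 (mem_EE.2 ⟨e, he, rfl⟩))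

theorem ev_inj' {a b : ℕ} (ha : a < 1024) (hb : b < 1024)
    (h : ((K.ev a : ↥(CC d)) : G) = (K.ev b : ↥(CC d))) : a = b := K.ev_inj ha hb (Subtype.ext h)

section Orbit

variable {codes : List ℕ} (hc : K.Coords codes) {imgs : List (List ℕ)}
include hc

theorem conj_app {g : ↥(CC d)} {p : List ℕ} (hg : K.Acts g p) {e : ℕ} (he : e < 1024) :
    IsConj d (K.ev e : ↥(CC d)) ↔ IsConj d ((K.ev (app codes p e) : ↥(CC d)) : G) := by
  rw [← K.ev_app hc hg he]
  simp only [Subgroup.coe_mul, Subgroup.coe_inv]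
  have k : IsConj ((K.ev e : ↥(CC d)) : G) ((g : G) * (K.ev e : ↥(CC d)) * (g : G)⁻¹) := isConj_iff.2 ⟨_, rfl⟩
  exact ⟨fun h => h.trans k, fun h => h.trans k.symm⟩

include H in
/-- The images of the plane lifts under a normalising element moving `d` to a given member form an
admissible union. -/
theorem moved_set {v : VecData} (hv : v.1 < 1024) {h : G} (hh : h ∈ Subgroup.normalizer (EE K : Set G))
    (hmove : h * d * h⁻¹ = (K.ev v.1 : ↥(CC d))) (hparts : chkParts codes v = true)
    (hlen : (v.2.2.2.1.map entries).flatten.length = 1022) (good : List ℕ) (hu : chkUnions good v = true)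
    (hfive : noFive (codes.take 21) 5 0 = true) (hsize : codes.length = 22)
    (hsum : xsum ((List.range 21).map fun i => codes.getD i 0) = 512) :
    good ≠ [] ∧ ∀ i < 21, ∃ f ∈ good, ((K.ev f : ↥(CC d)) : G) = h * (K.cur i : ↥(CC d)) * h⁻¹ := by
  classical
  have hU : ∀ i, ∃ f, i < 21 → f < 1024 ∧ ((K.ev f : ↥(CC d)) : G) = h * (K.cur i : ↥(CC d)) * h⁻¹ := by
    intro i
    by_cases hi : i < 21
    · obtain ⟨h1, h2⟩ := hc i (by omega)
      obtain ⟨f, hf, e⟩ := norm_ev hh h1
      exact ⟨f, fun _ => ⟨hf, by rw [e, h2]⟩⟩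
    · exact ⟨0, fun k => absurd k hi⟩
  choose u hu' using hU
  set U := (Finset.range 21).image u with hUdef
  have uinj : ∀ i < 21, ∀ j < 21, u i = u j → i = j := fun i hi j hj e => by
    have := (hu' i hi).2
    rw [e, (hu' j hj).2] at this
    exact (K.cur_inj hi hj (Subtype.ext (mul_left_cancel (mul_right_cancel this)).symm))
  have hUc : U.card = 21 := by
    rw [hUdef, Finset.card_image_of_injOn fun i hi j hj e =>
      uinj i (Finset.mem_range.1 hi) j (Finset.mem_range.1 hj) e, Finset.card_range]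
  have hU0 : ∀ f ∈ U, f < 1024 ∧ f ≠ 0 ∧ f ≠ v.1 := by
    intro f hf
    obtain ⟨i, hi, rfl⟩ := Finset.mem_image.1 hf
    have hi := Finset.mem_range.1 hi
    obtain ⟨h1, h2⟩ := hu' i hi
    refine ⟨h1, fun e => ?_, fun e => ?_⟩
    · rw [e, K.ev_zero, Subgroup.coe_one, eq_comm, conj_eq_one_iff] at h2
      have h3 : K.cur i = 1 := Subtype.ext h2
      have := congrArg K.π h3
      rw [K.cur_lt hi, K.π_lift (plane_pt (pp_mem hi)), map_one] at this
      exact U6.roots_class h4 |>.1.1 _ (rho_mem (plane_pt (pp_mem hi))) |> fun k => by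
        rw [this, orderOf_one] at k; exact absurd k (by norm_num)
    · rw [e, ← hmove] at h2
      have h3 : K.cur i = K.z := Subtype.ext (by rw [H.hz]; exact (mul_left_cancel (mul_right_cancel h2)).symm)
      have := congrArg K.π h3
      rw [K.cur_lt hi, K.π_lift (plane_pt (pp_mem hi)), K.proj] at this
      exact U6.roots_class h4 |>.1.1 _ (rho_mem (plane_pt (pp_mem hi))) |> fun k => by
        rw [this, orderOf_one] at k; exact absurd k (by norm_num)
  simp only [chkParts, Bool.and_eq_true, List.all_eq_true, List.mem_range, beq_iff_eq] at hparts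
  obtain ⟨⟨⟨hlenw, hw⟩, htrees⟩, hcov⟩ := hparts
  have hlw : v.2.2.1.length = v.2.1.length := (Nat.eq_of_beq_eq_true hlenw).symm
  have hinv : ∀ j < v.2.2.1.length, ∀ e, e ∈ U ↔ (e < 1024 ∧ lin (v.2.2.1.getD j []) e ∈ U) := by
    intro j hj
    obtain ⟨⟨hwk, himgj⟩, hfix⟩ := hw j (by omega)
    obtain ⟨g, hg, hgl⟩ := K.exists_permOf (v.2.1.getD j []) fun k hk => Nat.le_of_ble_eq_true (hwk k hk)
    rw [himgj]
    have hfix' : app codes (permOf (v.2.1.getD j [])) v.1 = v.1 := by
      rw [himgj] at hfix; exact Nat.eq_of_beq_eq_true hfix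
    have hgE : (g : G) ∈ Subgroup.normalizer (EE K : Set G) := by
      have := K.acts_normalizer hc hg
      rw [Subgroup.mem_normalizer_iff]
      intro y
      constructor
      · rintro ⟨x, hx, rfl⟩
        exact ⟨g * x * g⁻¹, (Subgroup.mem_normalizer_iff.1 this x).1 hx, rfl⟩
      · rintro ⟨x, hx, hxy⟩
        refine ⟨g⁻¹ * x * g, ?_, ?_⟩
        · refine (Subgroup.mem_normalizer_iff.1 this _).2 ?_
          simpa [mul_assoc] using hx
        · show ((g⁻¹ * x * g : ↥(CC d)) : G) = y
          rw [Subgroup.coe_mul, Subgroup.coe_mul, Subgroup.coe_inv, show (x : G) = (g : G) * y * (g : G)⁻¹ from hxy]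
          simp [mul_assoc]
    obtain ⟨nG, hnG⟩ : ∃ n : G, n = h⁻¹ * g * h := ⟨_, rfl⟩
    have hnd : nG ∈ CC d := by
      have k : Commute (g : G) (h * d * h⁻¹) := by
        rw [hmove]
        have := K.ev_app hc hg hv
        rw [hfix', mul_inv_eq_iff_eq_mul] at this
        exact congrArg Subtype.val this
      have k2 := (Spor.ThreeTrans.commute_conj_iff h⁻¹ _ _).2 k
      rw [inv_inv, show h⁻¹ * (h * d * h⁻¹) * h = d by simp [mul_assoc], ← hnG] at k2
      exact Subgroup.mem_centralizer_singleton_iff.2 k2.eq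
    have hnE : nG ∈ Subgroup.normalizer (EE K : Set G) := hnG ▸ mul_mem (mul_mem (inv_mem hh) hgE) hh
    have hn : ∀ x ∈ K.eSub, (⟨nG, hnd⟩ : ↥(CC d)) * x * (⟨nG, hnd⟩ : ↥(CC d))⁻¹ ∈ K.eSub := fun x hx => by
      obtain ⟨y, hy, e⟩ := (Subgroup.mem_normalizer_iff.1 hnE _).1 ⟨x, hx, rfl⟩
      rwa [show (⟨nG, hnd⟩ : ↥(CC d)) * x * (⟨nG, hnd⟩ : ↥(CC d))⁻¹ = y from Subtype.ext e.symm]
    have hfwd : ∀ e ∈ U, e < 1024 ∧ lin (imgOf codes (permOf (v.2.1.getD j []))) e ∈ U := by
      intro e he
      obtain ⟨i, hi, rfl⟩ := Finset.mem_image.1 he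
      have hi := Finset.mem_range.1 hi
      obtain ⟨h1, h2⟩ := hu' i hi
      obtain ⟨i', hi', h3⟩ := K.norm_cur hc hn hi
      refine ⟨h1, Finset.mem_image.2 ⟨i', Finset.mem_range.2 hi', ?_⟩⟩
      refine ev_inj' (K := K) (hu' i' hi').1 (K.app_lt hc hg 10 le_rfl _ h1) ?_
      rw [(hu' i' hi').2, ← h3]
      have := congrArg Subtype.val (K.ev_app hc hg h1)
      simp only [Subgroup.coe_mul, Subgroup.coe_inv] at this
      simp only [app] at this
      rw [← this, h2]
      simp only [Subgroup.coe_mul, Subgroup.coe_inv, hnG]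
      simp [mul_assoc]
    intro e
    refine ⟨hfwd e, fun ⟨he, he'⟩ => ?_⟩
    have hsurj := Finset.surj_on_of_inj_on_of_card_le
      (fun a (_ : a ∈ U) => lin (imgOf codes (permOf (v.2.1.getD j []))) a) (fun a ha => (hfwd a ha).2)
      (fun a b ha hb hab => by
        have k1 := K.ev_app hc hg (hfwd a ha).1
        have k2 := K.ev_app hc hg (hfwd b hb).1
        rw [show app codes _ a = app codes _ b from hab, ← k2] at k1
        exact K.ev_inj (hfwd a ha).1 (hfwd b hb).1 (mul_left_cancel (mul_right_cancel k1))) le_rfl _ he'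
    obtain ⟨a, ha, hae⟩ := hsurj
    have k1 := K.ev_app hc hg (hfwd a ha).1
    have k2 := K.ev_app hc hg he
    rw [show app codes _ a = app codes _ e from hae.symm, ← k2] at k1
    rw [← K.ev_inj (hfwd a ha).1 he (mul_left_cancel (mul_right_cancel k1))]
    exact ha
  have hlinlt : ∀ j < v.2.2.1.length, ∀ e < 1024, lin (v.2.2.1.getD j []) e < 1024 := by
    intro j hj e he
    obtain ⟨⟨hwk, himgj⟩, -⟩ := hw j (by omega)
    obtain ⟨g, hg, -⟩ := K.exists_permOf (v.2.1.getD j []) fun k hk => Nat.le_of_ble_eq_true (hwk k hk)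
    rw [himgj]
    exact K.app_lt hc hg 10 le_rfl e he
  set flat := (v.2.2.2.1.map entries).flatten with hflat
  have hcover : ∀ f ∈ U, f ∈ flat := fun f hf => by
    obtain ⟨h1, h2, h3⟩ := hU0 f hf
    rcases cover_mem hcov h1 with k | k | k
    exacts [absurd k h2, absurd k h3, k]
  have hnd : flat.Nodup := by
    have hsub : (Finset.range 1024 \ {0, v.1}) ⊆ flat.toFinset := fun f hf => by
      simp only [Finset.mem_sdiff, Finset.mem_range, Finset.mem_insert, Finset.mem_singleton, not_or] at hf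
      rcases cover_mem hcov hf.1 with k | k | k
      exacts [absurd k hf.2.1, absurd k hf.2.2, List.mem_toFinset.2 k]
    have h1 := Finset.card_le_card hsub
    have h3 := Finset.le_card_sdiff {0, v.1} (Finset.range 1024)
    have h5 : ({0, v.1} : Finset ℕ).card ≤ 2 := Finset.card_le_two
    rw [Finset.card_range] at h3
    rw [List.card_toFinset] at h1
    rw [← (List.dedup_sublist flat).eq_of_length_le (by omega)]
    exact List.nodup_dedup _
  set sel := (smallParts v).filter fun P => decide (∀ e ∈ P, e ∈ U) with hsel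
  have hinside : ∀ p ∈ v.2.2.2.1, ∀ f ∈ entries p, f ∈ U → ∀ e ∈ entries p, e ∈ U := by
    intro p hp
    cases p with
    | nil => simp [entries]
    | cons r l =>
      intro f hf hfU
      refine fun e he => ?_
      have hr : r.1 < 1024 := cover_lt hcov (List.mem_flatten.2 ⟨entries (r :: l), List.mem_map_of_mem hp,
        by simp [entries]⟩)
      have hroot : r.1 ∈ U :=
        (tree_induct (P := fun x => x < 1024 ∧ (x ∈ U → r.1 ∈ U))
          (fun j hj x hx => ⟨hlinlt j hj x hx.1, fun hxU => hx.2 ((hinv j hj x).2 ⟨hx.1, hxU⟩)⟩)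
          (htrees _ hp) ⟨hr, id⟩ f hf).2 hfU
      exact tree_induct (P := fun x => x ∈ U) (fun j hj x hx => ((hinv j hj x).1 hx).2) (htrees _ hp) hroot e he
  have hmemsel : ∀ f, f ∈ sel.flatten ↔ f ∈ U := by
    intro f
    simp only [hsel, List.mem_flatten, List.mem_filter, decide_eq_true_eq]
    constructor
    · rintro ⟨P, ⟨-, hP⟩, hf⟩; exact hP f hf
    · intro hf
      obtain ⟨P, hP, hfP⟩ := List.mem_flatten.1 (hcover f hf)
      obtain ⟨p, hp, rfl⟩ := List.mem_map.1 hP
      have hsubU := hinside p hp f hfP hf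
      refine ⟨_, ⟨List.mem_filter.2 ⟨hP, Nat.ble_eq_true_of_le ?_⟩, hsubU⟩, hfP⟩
      have hnp : (entries p).Nodup := (List.nodup_flatten.1 hnd).1 _ hP
      rw [← List.toFinset_card_of_nodup hnp, ← hUc]
      exact Finset.card_le_card fun x hx => hsubU x (List.mem_toFinset.1 hx)
  have hsub : sel.Sublist (v.2.2.2.1.map entries) := List.filter_sublist.trans List.filter_sublist
  have hselnd : sel.flatten.Nodup := hnd.sublist (List.Sublist.flatten hsub)
  have hfin : sel.flatten.toFinset = U := Finset.ext fun f => by rw [List.mem_toFinset, hmemsel]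
  have hlen21 : sel.flatten.length = 21 := by rw [← List.toFinset_card_of_nodup hselnd, hfin, hUc]
  have hopt := opts_mem (List.filter_sublist : sel.Sublist (smallParts v))
  rw [hlen21] at hopt
  have hperm : sel.flatten.Perm ((List.range 21).map u) := by
    refine List.perm_of_nodup_nodup_toFinset_eq hselnd ?_ ?_
    · exact List.nodup_range.map_on fun i hi j hj => uinj i (List.mem_range.1 hi) j (List.mem_range.1 hj)
    · rw [hfin, hUdef]; ext f; simp
  have hxs : xsum sel.flatten = v.1 := by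
    rw [xsum, hperm.foldl_eq' (fun _ _ _ _ z => xor_rc z _ _) 0, ← xsum]
    have hlt : xsum ((List.range 21).map u) < 1024 := by
      exact fold_lt _ 0 (fun i hi => by
        obtain ⟨j, hj, rfl⟩ := List.mem_map.1 hi
        exact (hu' j (List.mem_range.1 hj)).1) (by norm_num)
    refine ev_inj' (K := K) hlt hv ?_
    have e1 : (K.ev 512 : ↥(CC d)) = ((List.range 21).map fun i => K.cur i).prod := by
      rw [← hsum, K.ev_xsum]
      exact congrArg List.prod (List.map_congr_left fun i hi =>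
        (hc i (Nat.lt_succ_of_lt (List.mem_range.1 hi))).2)
    rw [← hmove, show h * d * h⁻¹ = h * ((K.z : ↥(CC d)) : G) * h⁻¹ by rw [H.hz], ← K.ev_z, e1, K.ev_xsum]
    have e2 : ((((List.range 21).map fun i => K.cur i).prod : ↥(CC d)) : G) =
        ((List.range 21).map fun i => ((K.cur i : ↥(CC d)) : G)).prod := by
      rw [show ((((List.range 21).map fun i => K.cur i).prod : ↥(CC d)) : G) =
        (CC d).subtype ((List.range 21).map fun i => K.cur i).prod from rfl, map_list_prod, List.map_map]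
      rfl
    have e3 : ((((List.range 21).map fun i => K.ev (u i)).prod : ↥(CC d)) : G) =
        ((List.range 21).map fun i => MulAut.conj h ((K.cur i : ↥(CC d)) : G)).prod := by
      rw [show ((((List.range 21).map fun i => K.ev (u i)).prod : ↥(CC d)) : G) =
        (CC d).subtype ((List.range 21).map fun i => K.ev (u i)).prod from rfl, map_list_prod, List.map_map]
      exact congrArg List.prod (List.map_congr_left fun i hi => by
        simpa using (hu' i (List.mem_range.1 hi)).2)
    rw [e2, e3, ← MulAut.conj_apply, map_list_prod, List.map_map]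
    rfl
  simp only [chkUnions, List.all_eq_true, Bool.or_eq_true, Bool.and_eq_true, Bool.not_eq_true',
    List.any_eq_true] at hu
  rcases hu _ hopt with k | ⟨q, -, hq⟩ | ⟨hne, hall⟩
  · rw [hxs] at k; simp at k
  · exfalso
    simp only [isFive, Bool.and_eq_true, List.all_eq_true, List.mem_range, Bool.not_eq_true'] at hq
    obtain ⟨⟨⟨h5, h0⟩, hin⟩, hdist⟩ := hq
    have h5 := Nat.eq_of_beq_eq_true h5
    have hqnd : q.Nodup := by
      rw [List.nodup_iff_injective_getElem]
      intro a b hab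
      simp only at hab
      refine Fin.ext ?_
      by_contra hne'
      rcases Nat.lt_or_gt_of_ne hne' with hlt | hlt
      · have k := hdist b (by omega) a hlt
        rw [List.getD_eq_getElem _ _ b.2, List.getD_eq_getElem _ _ a.2, hab] at k
        simp at k
      · have k := hdist a (by omega) b hlt
        rw [List.getD_eq_getElem _ _ b.2, List.getD_eq_getElem _ _ a.2, hab] at k
        simp at k
    set I := (List.range 21).filter fun i => decide (u i ∈ q) with hI
    have hIperm : (I.map u).Perm q := by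
      refine List.perm_of_nodup_nodup_toFinset_eq ?_ hqnd ?_
      · exact (List.nodup_range.filter _).map_on fun i hi j hj =>
          uinj i (List.mem_range.1 (List.mem_filter.1 hi).1) j (List.mem_range.1 (List.mem_filter.1 hj).1)
      · ext f
        simp only [List.mem_toFinset, List.mem_map, hI, List.mem_filter, List.mem_range, decide_eq_true_eq]
        refine ⟨fun ⟨i, ⟨_, hi⟩, e⟩ => e ▸ hi, fun hf => ?_⟩
        obtain ⟨i, hi, rfl⟩ := Finset.mem_image.1 ((hmemsel f).1 (List.contains_iff_mem.1 (hin f hf)))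
        exact ⟨i, ⟨Finset.mem_range.1 hi, hf⟩, rfl⟩
    have hIlen : I.length = 5 := by rw [← h5, ← hIperm.length_eq, List.length_map]
    have hsubc : (I.map fun i => codes.getD i 0).Sublist (codes.take 21) := by
      have e : (List.range 21).map (fun i => codes.getD i 0) = codes.take 21 := by
        refine List.ext_getElem (by simp [hsize]) fun i h1 h2 => ?_
        simp only [List.length_map, List.length_range] at h1
        rw [List.getElem_map, List.getElem_range, List.getElem_take, List.getD_eq_getElem _ _ (by omega)]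
      rw [← e]
      exact List.filter_sublist.map _
    have := noFive_spec hsubc 0 (by rw [List.length_map, hIlen]; exact hfive)
    apply this
    refine K.ev_inj ?_ (by norm_num) ?_
    · exact fold_lt _ 0 (fun x hx => by
        obtain ⟨i, hi, rfl⟩ := List.mem_map.1 hx
        exact (hc i (Nat.lt_succ_of_lt (List.mem_range.1 (List.mem_filter.1 hi).1))).1) (by norm_num)
    · rw [← xsum, K.ev_xsum, K.ev_zero]
      refine Subtype.ext ?_
      rw [Subgroup.coe_one, ← conj_eq_one_iff (a := h), show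
        ((((I.map fun i => K.ev (codes.getD i 0)).prod : ↥(CC d))) : G) =
          (CC d).subtype (I.map fun i => K.ev (codes.getD i 0)).prod from rfl, map_list_prod, List.map_map,
        ← MulAut.conj_apply, map_list_prod, List.map_map]
      have e4 : (I.map ((MulAut.conj h : G → G) ∘ ((CC d).subtype ∘ fun i => K.ev (codes.getD i 0)))).prod =
          (CC d).subtype (I.map fun i => K.ev (u i)).prod := by
        rw [map_list_prod, List.map_map]
        refine congrArg List.prod (List.map_congr_left fun i hi => ?_)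
        have hi' := List.mem_range.1 (List.mem_filter.1 hi).1
        simp only [Function.comp_apply, Subgroup.subtype_apply, MulAut.conj_apply]
        rw [(hc i (Nat.lt_succ_of_lt hi')).2, (hu' i hi').2]
      rw [e4, ← K.ev_xsum, xsum,
        hIperm.foldl_eq' (fun _ _ _ _ z => xor_rc z _ _) 0,
        ← xsum, Nat.eq_of_beq_eq_true h0, K.ev_zero, map_one]
  · refine ⟨fun e => by rw [e] at hne; simp at hne, fun i hi => ⟨u i, ?_, (hu' i hi).2⟩⟩
    exact List.contains_iff_mem.1 (hall _ (hperm.mem_iff.2 (List.mem_map_of_mem (List.mem_range.2 hi))))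

end Orbit

end

end Cfsg.Agent.Block.FischerTypes.M22Recog
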