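import Cfsg.Agent.Lib.Block.FischerTypes.M22Recog.Whole
import Cfsg.Agent.Lib.Block.FischerTypes.M22Counts

/-! The conjugates of `d` are a class of 3-transpositions with the standing facts of type M(22). -/

set_option autoImplicit false
set_option linter.style.haveILetI false
set_option linter.unusedSectionVars false

namespace Cfsg.Agent.Block.FischerTypes.M22Recog

open Cfsg U6Code Cfsg.Agent.Spor.USixTwo Cfsg.Agent.Spor.ThreeTrans

variable {G : Type*} [Group G] [Finite G] {d : G} {K : Cov ↥(CC d)} (H : Hyp d K)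
include H

theorem cls_all : IsThreeTranspositionClass (conjugatesOf d) := by
  have F := framed H
  refine ⟨⟨F.two, fun x hx y hy => ?_⟩, ⟨d, mem_conjugatesOf_self, rfl⟩, ?_⟩
  · exact F.order_joined hx (joined_comp H (whole H x hx) (whole H y hy))
  · rw [conjugates_eq H]; exact top H

theorem model_all : HasModel (conjugatesOf d) d := by
  let σ : ↥(PerpGroup (conjugatesOf d) d) ≃* ↥(CC d) := MulEquiv.subgroupCongr (closure_perp_base H)
  refine ⟨K4, inferInstance, inferInstance, h4, ⟨((QuotientGroup.congr _ K.π.ker σ ?_)).trans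
    (QuotientGroup.quotientKerEquivOfSurjective K.π K.surj)⟩⟩
  rw [← center_CC H]
  ext x
  simp only [Subgroup.mem_map, MulEquiv.coe_toMonoidHom]
  constructor
  · rintro ⟨y, hy, rfl⟩
    exact Subgroup.mem_center_iff.mpr fun z => by
      simpa using congrArg σ (Subgroup.mem_center_iff.mp hy (σ.symm z))
  · intro hx
    refine ⟨σ.symm x, Subgroup.mem_center_iff.mpr fun z => ?_, σ.apply_symm_apply x⟩
    simpa using congrArg σ.symm (Subgroup.mem_center_iff.mp hx (σ z))

theorem center_bot_all : Subgroup.center G = ⊥ := by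
  rw [Subgroup.eq_bot_iff_forall]
  intro g hg
  have hgG : g ∈ G0 d := top H ▸ Subgroup.mem_top g
  have h : (⟨g, hgG⟩ : ↥(G0 d)) ∈ Subgroup.center ↥(G0 d) :=
    Subgroup.mem_center_iff.2 fun u => Subtype.ext (Subgroup.mem_center_iff.1 hg u)
  rw [(ctx H).cen, Subgroup.mem_bot] at h
  exact congrArg Subtype.val h

theorem ctx_all : M22.Ctx (conjugatesOf d) := by
  obtain ⟨c, hc, hdc⟩ := exists_apart_comp H
  refine M22.ctx_of_model (cls_all H) ?_ (center_bot_all H) mem_conjugatesOf_self (comp_sub H hc) hdc (model_all H)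
  rw [eq_top_iff]
  have h := perfect_map (G0 d).subtype (g0_perfect H)
  rwa [Subgroup.range_subtype, top H] at h

theorem common_card {a c : G} (ha : a ∈ conjugatesOf d) (hc : c ∈ conjugatesOf d) (hac : ¬ Commute a c) :
    (common (conjugatesOf d) a c).ncard = 126 := by
  have C := ctx_all H
  exact (card_apart_common C.set (M22.numbered_ctx C) C.meets).1 a ha c hc hac

end Cfsg.Agent.Block.FischerTypes.M22Recog
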