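import Cfsg.Agent.Lib.Block.FischerTypes.M22Recog.Members
import Cfsg.Agent.Lib.Block.FischerTypes.U6Star

/-! Two members joined by commuting steps are at most two steps apart. -/

set_option autoImplicit false
set_option maxRecDepth 100000
set_option linter.style.haveILetI false
set_option linter.unusedSectionVars false

namespace Cfsg.Agent.Block.FischerTypes.M22Recog

open Cfsg U6Code Cfsg.Agent.Spor.USixTwo Cfsg.Agent.Spor.ThreeTrans

/-- Four points apart from each other as a star, all orthogonal to the basic apart pair. -/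
def chkStar : Bool :=
  (([15, 23, 48, 1071] : List ℕ).all fun c => isPt c && adj b0 c && adj c0 c) &&
    adj 15 48 && adj 15 1071 && !(adj 15 23) && !(adj 23 48) && !(adj 23 1071) && !(adj 48 1071) &&
    adj 23 (refl 48 1071) && Nat.beq (refl b0 c0) (refl c0 b0) && !(Nat.beq b0 c0)

theorem star_ok : chkStar = true := by decide +kernel

variable {G : Type*} [Group G] [Finite G] {D : Set G}

/-- Joined by commuting steps. -/
def Joined (D : Set G) : G → G → Prop := Relation.ReflTransGen fun x y => y ∈ perp D x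

/-- At most two steps apart. -/
def Near (D : Set G) (a b : G) : Prop := a = b ∨ Commute a b ∨ ∃ z, z ∈ perp D a ∧ z ∈ perp D b

/-- Every member has a frame. -/
structure Framed (D : Set G) : Prop where
  inv : ∀ g : G, ∀ x ∈ D, g * x * g⁻¹ ∈ D
  two : ∀ x ∈ D, orderOf x = 2
  model : ∀ x ∈ D, Nonempty (Model D x)

namespace Framed

variable (F : Framed D)
include F

theorem sq {x : G} (hx : x ∈ D) : x * x = 1 := by
  rw [← pow_two, ← F.two x hx]
  exact pow_orderOf_eq_one x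

omit F in
theorem perp_sym {x y : G} (hx : x ∈ D) (hy : y ∈ perp D x) : x ∈ perp D y := ⟨hx, Ne.symm hy.2.1, hy.2.2.symm⟩

/-- The middle of a path can be moved beside both ends. -/
theorem path {a x y b : G} (hx : x ∈ D) (hay : a ∈ perp D x) (hyx : y ∈ perp D x) (hb : b ∈ perp D y)
    (hnay : ¬ Commute a y) (hnab : ¬ Commute a b) : ∃ z, z ∈ perp D a ∧ z ∈ perp D b := by
  obtain ⟨M₀⟩ := F.model x hx
  obtain ⟨M, hMy, hMa⟩ := exists_apart_pair F.inv M₀ (fun z hz => F.sq hz) hyx hay fun k => hnay k.symm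
  have hstar := star_ok
  simp only [chkStar, Bool.and_eq_true, List.all_eq_true, Bool.not_eq_true', List.mem_cons, List.not_mem_nil,
    or_false, forall_eq_or_imp, forall_eq] at hstar
  obtain ⟨⟨⟨⟨⟨⟨⟨⟨⟨hin, hpc⟩, hpd⟩, hpe⟩, hec⟩, hed⟩, hcd⟩, he1⟩, -⟩, -⟩ := hstar
  obtain ⟨⟨⟨p1, p2⟩, p3⟩, ⟨⟨e1, e2⟩, e3⟩, ⟨⟨c1, c2⟩, c3⟩, ⟨⟨d1, d2⟩, d3⟩⟩ := hin
  let U : Set G := {z | z ∈ perp D y ∧ Commute z a}
  have inU : ∀ c, isPt c = true → adj b0 c = true → adj c0 c = true → M.pt c ∈ U := fun c h1 h2 h3 => by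
    have ky : Commute y (M.pt c) := hMy ▸ (M.comm _ _ Model.pt_b0 h1).2 h2
    have ka : Commute a (M.pt c) := hMa ▸ (M.comm _ _ Model.pt_c0 h1).2 h3
    exact ⟨⟨(M.mem c h1).1, fun e => hnay (e ▸ ka), ky⟩, ka.symm⟩
  obtain ⟨N⟩ := F.model y hyx.1
  obtain ⟨p', hp', ep⟩ := N.surj _ (inU 15 p1 p2 p3).1
  obtain ⟨e', he', ee⟩ := N.surj _ (inU 23 e1 e2 e3).1
  obtain ⟨c', hc', ec⟩ := N.surj _ (inU 48 c1 c2 c3).1
  obtain ⟨d', hd', ed⟩ := N.surj _ (inU 1071 d1 d2 d3).1
  have tr : ∀ {u v u' v' : ℕ}, isPt u = true → isPt v = true → isPt u' = true → isPt v' = true →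
      N.pt u' = M.pt u → N.pt v' = M.pt v → (Commute (rho u') (rho v') ↔ adj u v = true) :=
    fun hu hv hu' hv' eu ev => by
      rw [rho_commute hu' hv', ← N.comm _ _ hu' hv', eu, ev, M.comm _ _ hu hv]
  have k1 := (N.conj c' d' hc' hd')
  have k2 := (M.conj 48 1071 c1 d1)
  have hst : U6.IsStar (rho p') (rho e') (rho c') (rho d') := by
    refine ⟨(tr p1 c1 hp' hc' ep ec).2 hpc, (tr p1 d1 hp' hd' ep ed).2 hpd, fun k => ?_, fun k => ?_, fun k => ?_,
      fun k => ?_, ?_⟩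
    · exact Bool.false_ne_true (hpe.symm.trans ((tr p1 e1 hp' he' ep ee).1 k))
    · exact Bool.false_ne_true (hec.symm.trans ((tr e1 c1 he' hc' ee ec).1 k))
    · exact Bool.false_ne_true (hed.symm.trans ((tr e1 d1 he' hd' ee ed).1 k))
    · exact Bool.false_ne_true (hcd.symm.trans ((tr c1 d1 hc' hd' ec ed).1 k))
    · rw [(rho_conj hc' hd').2]
      exact (tr e1 k2.1 he' k1.1 ee (by rw [← k1.2, ec, ed, k2.2])).2 he1
  obtain ⟨w, hw, ew⟩ := N.surj b hb
  obtain ⟨_, ⟨c, hc, hcU, rfl⟩, hcw⟩ := U6.star_meets h4 (U := {r | ∃ c, isPt c = true ∧ N.pt c ∈ U ∧ rho c = r})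
    (p := rho p') (e := rho e') (c₂ := rho c') (c₃ := rho d') (w := rho w)
    (by
      rintro _ ⟨u, hu, huU, rfl⟩ _ ⟨v, hv, hvU, rfl⟩ -
      obtain ⟨h1, h2⟩ := N.conj u v hu hv
      refine ⟨_, h1, ⟨N.mem _ h1, ?_⟩, (rho_conj hu hv).2.symm⟩
      rw [← h2]
      exact (huU.2.mul_left hvU.2).mul_left huU.2)
    (rho_mem hp') (rho_mem he') (rho_mem hc') (rho_mem hd') (rho_mem hw) hst
    ⟨p', hp', ep ▸ inU 15 p1 p2 p3, rfl⟩ ⟨e', he', ee ▸ inU 23 e1 e2 e3, rfl⟩
    ⟨c', hc', ec ▸ inU 48 c1 c2 c3, rfl⟩ ⟨d', hd', ed ▸ inU 1071 d1 d2 d3, rfl⟩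
  have hzb : Commute (N.pt c) b := ew ▸ (N.comm c w hc hw).2 ((rho_commute hc hw).1 hcw)
  refine ⟨N.pt c, ⟨hcU.1.1, fun e => hnab (e ▸ hzb), hcU.2.symm⟩,
    ⟨hcU.1.1, fun e => hnab (e ▸ hcU.2).symm, hzb.symm⟩⟩

/-- A further step keeps the distance at most two. -/
theorem near_step {a y b : G} (ha : a ∈ D) (hy : y ∈ D) (h : Near D a y) (hb : b ∈ perp D y) : Near D a b := by
  by_cases hab : Commute a b
  · exact Or.inr (Or.inl hab)
  have hne : a ≠ b := fun e => hab (e ▸ Commute.refl a)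
  by_cases hay : Commute a y
  · by_cases e : a = y
    · exact absurd (e ▸ hb.2.2) hab
    · exact Or.inr (Or.inr ⟨y, ⟨hy, Ne.symm e, hay⟩, perp_sym hy hb⟩)
  rcases h with rfl | k | ⟨x, hxa, hxy⟩
  · exact absurd (Commute.refl a) hay
  · exact absurd k hay
  · exact Or.inr (Or.inr (F.path hxa.1 (perp_sym ha hxa) (perp_sym hy hxy) hb hay hab))

theorem joined_mem {a b : G} (ha : a ∈ D) (h : Joined D a b) : b ∈ D := by
  induction h with
  | refl => exact ha
  | tail _ hbc _ => exact hbc.1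

theorem joined_near {a b : G} (ha : a ∈ D) (h : Joined D a b) : Near D a b := by
  induction h with
  | refl => exact Or.inl rfl
  | tail h1 hbc ih => exact F.near_step ha (F.joined_mem ha h1) ih hbc

theorem joined_symm {a b : G} (ha : a ∈ D) (h : Joined D a b) : Joined D b a := by
  induction h with
  | refl => exact .refl
  | tail h1 hbc ih => exact Relation.ReflTransGen.head (perp_sym (F.joined_mem ha h1) hbc) ih

/-- Noncommuting joined members generate a dihedral group of order six. -/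
theorem braid_of_common {a b z : G} (ha : a ∈ D) (hb : b ∈ D) (hza : z ∈ perp D a) (hzb : z ∈ perp D b)
    (hnc : ¬ Commute a b) : a * b * a = b * a * b := by
  obtain ⟨M₀⟩ := F.model z hza.1
  obtain ⟨M, rfl, rfl⟩ := exists_apart_pair F.inv M₀ (fun z hz => F.sq hz) (perp_sym ha hza) (perp_sym hb hzb) hnc
  have h := star_ok
  simp only [chkStar, Bool.and_eq_true] at h
  rw [(M.conj _ _ Model.pt_b0 Model.pt_c0).2, (M.conj _ _ Model.pt_c0 Model.pt_b0).2,
    Nat.eq_of_beq_eq_true h.1.2]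

theorem order_joined {a b : G} (ha : a ∈ D) (h : Joined D a b) : (a * b) ^ 2 = 1 ∨ (a * b) ^ 3 = 1 := by
  have hb := F.joined_mem ha h
  by_cases hc : Commute a b
  · left
    rw [hc.mul_pow, pow_two, pow_two, F.sq ha, F.sq hb, one_mul]
  rcases F.joined_near ha h with rfl | k | ⟨z, hza, hzb⟩
  · exact absurd (Commute.refl a) hc
  · exact absurd k hc
  · right
    have hbr := F.braid_of_common ha hb hza hzb hc
    calc (a * b) ^ 3 = a * b * a * (b * a * b) := by simp [pow_succ, mul_assoc]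
      _ = (a * b * a) * (a * b * a) := by rw [hbr]
      _ = a * b * (a * a) * b * a := by simp only [mul_assoc]
      _ = 1 := by rw [F.sq ha, mul_one, mul_assoc a b b, F.sq hb, mul_one, F.sq ha]

end Framed

theorem framed {d : G} {K : Cov ↥(CC d)} (H : Hyp d K) : Framed (conjugatesOf d) where
  inv g := conjugates_inv g
  two x hx := by
    obtain ⟨g, rfl⟩ := isConj_iff.1 (show IsConj d x from hx)
    refine orderOf_eq_prime (by rw [pow_two]; exact conjugates_sq H _ hx) ?_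
    simpa using d_ne H
  model x hx := exists_model_at H hx

end Cfsg.Agent.Block.FischerTypes.M22Recog
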