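import Cfsg.Agent.Lib.Block.FischerTypes.U6Stab
import Cfsg.Agent.Lib.Block.FischerTypes.U6Code.Local
import Cfsg.Agent.Lib.Block.FischerTypes.M22Recog.Checks
import Cfsg.Agent.Lib.Spor.U62Cover

/-! In a perfect double cover of `PSU₆(2)` the transvections lift to one class of involutions with
commutation given by orthogonality, normalised so that the five lifts on a line multiply to the
central involution. -/

set_option autoImplicit false
set_option linter.style.haveILetI false
set_option linter.unusedSectionVars false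

namespace Cfsg.Agent.Block.FischerTypes.M22Recog

open Cfsg U6Code Cfsg.Agent.Classical Cfsg.Agent.Classical.PSUAut Cfsg.Agent.Spor.USixTwo
open Cfsg.Agent.Spor.UnitTwo (card_sq)

/-- The target. -/
abbrev P6 : Type := PSU 6 K4 2

theorem rho_sq {c : ℕ} (hc : isPt c = true) : rho c * rho c = 1 := by
  obtain ⟨h1, h2⟩ := rho_conj hc hc
  rw [refl_of_adj (adj_self hc)] at h2
  calc rho c * rho c = rho c * rho c * rho c * (rho c)⁻¹ := by simp [mul_assoc]
    _ = 1 := by rw [h2, mul_inv_cancel]

theorem rho_inv {c : ℕ} (hc : isPt c = true) : (rho c)⁻¹ = rho c := inv_eq_of_mul_eq_one_right (rho_sq hc)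

/-- The element of a word, the last letter outermost. -/
noncomputable def wordP (w : List ℕ) : P6 := (w.reverse.map rho).prod

theorem wordP_cons (p : ℕ) (w : List ℕ) : wordP (p :: w) = wordP w * rho p := by simp [wordP]

theorem wordP_append : ∀ v w : List ℕ, wordP (v ++ w) = wordP w * wordP v
  | [], w => by simp [wordP]
  | p :: v, w => by rw [List.cons_append, wordP_cons, wordP_append v w, wordP_cons, mul_assoc]

theorem act_pt : ∀ (w : List ℕ), (∀ p ∈ w, isPt p = true) → ∀ x, isPt x = true →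
    isPt (act w x) = true ∧ wordP w * rho x * (wordP w)⁻¹ = rho (act w x)
  | [], _, x, hx => ⟨hx, by simp [wordP, act]⟩
  | p :: w, hw, x, hx => by
    have hp := hw p List.mem_cons_self
    obtain ⟨h1, h2⟩ := rho_conj hp hx
    obtain ⟨h3, h5⟩ := act_pt w (fun q hq => hw q (List.mem_cons_of_mem _ hq)) _ h1
    refine ⟨by simpa [act] using h3, ?_⟩
    rw [show act (p :: w) x = act w (refl p x) by simp [act], ← h5, ← h2, wordP_cons, mul_inv_rev, rho_inv hp]
    simp only [mul_assoc]

theorem psu_center : Subgroup.center P6 = ⊥ := by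
  obtain ⟨hs, x₀, y₀, hxy⟩ := psu_six h4
  haveI := hs
  exact (Subgroup.Normal.eq_bot_or_eq_top inferInstance).resolve_right fun ht =>
    hxy (Subgroup.mem_center_iff.mp (ht ▸ Subgroup.mem_top x₀) y₀).symm

theorem eq_one_of_centralises {g : P6} (h : ∀ c, isPt c = true → g * rho c * g⁻¹ = rho c) : g = 1 := by
  have hg : g ∈ Subgroup.center P6 := by
    rw [Subgroup.mem_center_iff]
    intro x
    have hx : x ∈ Subgroup.closure (U6.roots h4 6) := by
      rw [(U6.roots_class h4).2.2]; exact Subgroup.mem_top x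
    have : Subgroup.closure (U6.roots h4 6) ≤ Subgroup.centralizer {g} := by
      rw [Subgroup.closure_le]
      intro y hy
      obtain ⟨c, hc, rfl⟩ := rho_surj hy
      exact Subgroup.mem_centralizer_singleton_iff.2 (mul_inv_eq_iff_eq_mul.1 (h c hc)).symm
    exact Subgroup.mem_centralizer_singleton_iff.1 (this hx)
  rwa [psu_center, Subgroup.mem_bot] at hg

theorem sig_inj {x y : ℕ} (hx : isPt x = true) (hy : isPt y = true) (h : sig x = sig y) : x = y := by
  have h0 := sep_ok
  simp only [Bool.and_eq_true] at h0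
  exact List.inj_on_of_nodup_map (distinct_spec h0.2).1 (mem_ptList.2 hx) (mem_ptList.2 hy) h

theorem sep_pt {s : ℕ} (hs : s ∈ sepPts) : isPt s = true := by
  have h0 := sep_ok
  simp only [Bool.and_eq_true, List.all_eq_true] at h0
  exact h0.1 s hs

/-- An element fixing the separating points is trivial. -/
theorem eq_one_of_fix {g : P6} (h : ∀ s ∈ sepPts, g * rho s * g⁻¹ = rho s) : g = 1 := by
  refine eq_one_of_centralises fun c hc => ?_
  obtain ⟨d, hd, e⟩ := rho_surj (Spor.ThreeTrans.conj_mem (U6.roots_class h4) g (rho_mem hc))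
  rw [← e]
  congr 1
  refine sig_inj hd hc ?_
  have key : ∀ s ∈ sepPts, adj s d = adj s c := fun s hs => by
    have k := Spor.ThreeTrans.commute_conj_iff g (rho s) (rho c)
    rw [h s hs, ← e, rho_commute (sep_pt hs) hd, rho_commute (sep_pt hs) hc] at k
    exact Bool.eq_iff_iff.2 k
  rw [sig, sig, U6Code.key, U6Code.key]
  exact List.foldl_ext _ _ 0 fun k s hs => by rw [key s hs]

/-- Words agreeing on the separating points give the same element. -/
theorem wordP_ext {v w : List ℕ} (hv : ∀ p ∈ v, isPt p = true) (hw : ∀ p ∈ w, isPt p = true)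
    (h : ∀ s ∈ sepPts, act v s = act w s) : wordP v = wordP w := by
  have : (wordP w)⁻¹ * wordP v = 1 := eq_one_of_fix fun s hs => by
    have e1 := (act_pt v hv s (sep_pt hs)).2
    rw [h s hs, ← (act_pt w hw s (sep_pt hs)).2] at e1
    calc (wordP w)⁻¹ * wordP v * rho s * ((wordP w)⁻¹ * wordP v)⁻¹
        = (wordP w)⁻¹ * (wordP v * rho s * (wordP v)⁻¹) * wordP w := by simp [mul_assoc]
      _ = rho s := by rw [e1]; simp [mul_assoc]
  exact (inv_mul_eq_one.1 this).symm

theorem exists_move {x : ℕ} (hx : isPt x = true) : ∃ g : P6, g * rho b0 * g⁻¹ = rho x := by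
  have ht := tr0_ok
  simp only [chkTr, Bool.and_eq_true, List.all_eq_true, List.any_eq_true] at ht
  obtain ⟨e, he, hec⟩ := ht.2 x (mem_ptList.2 hx)
  obtain ⟨hf, hact⟩ := ht.1 e he
  simp only [fixes, List.all_eq_true, Bool.and_eq_true] at hf
  refine ⟨wordP e.2, ?_⟩
  rw [(act_pt e.2 (fun p hp => (hf p hp).1) b0 Model.pt_b0).2, Nat.eq_of_beq_eq_true hact,
    Nat.eq_of_beq_eq_true hec]

theorem rho_T {c : ℕ} (hc : hermForm 6 K4 2 (vec c) (vec c) = 0) :
    rho c = suToPSU 6 K4 2 (Spor.U62.T (F := K4) (card_sq h4) (vec c) hc) := by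
  rw [rho_eq hc]
  rfl

/-- A perfect double cover of the unitary group. -/
structure Cov (C : Type*) [Group C] where
  /-- The map onto the unitary group. -/
  π : C →* P6
  /-- The central involution. -/
  z : C
  surj : Function.Surjective π
  kerEq : ∀ x, π x = 1 ↔ x = 1 ∨ x = z
  central : ∀ x, Commute z x
  sq : z * z = 1
  ne : z ≠ 1
  perfect : commutator C = ⊤

namespace Cov

variable {C : Type*} [Group C] [Finite C] (K : Cov C)

theorem proj : K.π K.z = 1 := (K.kerEq _).2 (Or.inr rfl)

theorem fibre {x y : C} (e : K.π x = K.π y) : x = y ∨ x = K.z * y := by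
  rcases (K.kerEq (x * y⁻¹)).1 (by rw [map_mul, e, map_inv, mul_inv_cancel]) with k | k
  · exact Or.inl (mul_inv_eq_one.mp k)
  · exact Or.inr (mul_inv_eq_iff_eq_mul.mp k)

theorem ker_center : K.π.ker ≤ Subgroup.center C := fun x hx => by
  rw [Subgroup.mem_center_iff]
  intro y
  rcases (K.kerEq x).1 hx with rfl | rfl
  · simp
  · exact (K.central y).eq.symm

theorem ker_sq : ∀ x ∈ K.π.ker, x * x = 1 := fun x hx => by
  rcases (K.kerEq x).1 hx with rfl | rfl
  · simp
  · exact K.sq

theorem z_inv : K.z⁻¹ = K.z := inv_eq_of_mul_eq_one_right K.sq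

theorem lift_sq_root {c : ℕ} (hc : isPt c = true) {x : C} (hx : K.π x = rho c) : x * x = 1 :=
  Spor.U62.sq_lift (card_sq h4) K.π K.surj K.ker_center K.ker_sq (iso_of_isPt hc)
    (hx.trans (rho_T _))

theorem lift_comm_root {c e : ℕ} (hc : isPt c = true) (he : isPt e = true) (h : adj c e = true) {x y : C}
    (hx : K.π x = rho c) (hy : K.π y = rho e) : Commute x y :=
  Spor.U62.comm_lift (card_sq h4) K.π K.surj K.ker_center K.ker_sq (iso_of_isPt hc) (iso_of_isPt he)
    ((adj_iff c e).1 h) (hx.trans (rho_T _)) (hy.trans (rho_T _))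

/-- Whatever commutes with the root of `b0` commutes with each of its lifts. -/
theorem stab_commute {y g : C} (hy : K.π y = rho b0) (hg : Commute (K.π g) (rho b0)) : Commute g y := by
  have hm := U6.point_stab h4 (rho_mem Model.pt_b0) hg
  have hle : Spor.ThreeTrans.localGroup (U6.roots h4 6) (rho b0) ≤ (Subgroup.centralizer ({y} : Set C)).map K.π := by
    refine (Subgroup.closure_le _).2 ?_
    have key : ∀ c, isPt c = true → adj c b0 = true → rho c ∈ (Subgroup.centralizer ({y} : Set C)).map K.π :=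
      fun c hc h => by
        obtain ⟨x, hx⟩ := K.surj (rho c)
        exact ⟨x, Subgroup.mem_centralizer_singleton_iff.2 (K.lift_comm_root hc Model.pt_b0 h hx hy).eq, hx⟩
    rintro x (rfl | ⟨hx, -, hc⟩)
    · exact key b0 Model.pt_b0 (adj_self Model.pt_b0)
    · obtain ⟨c, hc', rfl⟩ := rho_surj hx
      exact key c hc' ((rho_commute hc' Model.pt_b0).1 hc.symm)
  obtain ⟨k, hk, ek⟩ := hle hm
  have hk' : Commute k y := Subgroup.mem_centralizer_singleton_iff.1 hk
  rcases K.fibre ek.symm with rfl | rfl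
  · exact hk'
  · exact (K.central y).mul_left hk'

/-- A normalised lift of the first root. -/
theorem exists_base_lift : ∃ y : C, K.π y = rho b0 ∧
    ∃ l : List C, l.map K.π = baseLine.map rho ∧ (∀ x ∈ l, ∃ g, x = g * y * g⁻¹) ∧ l.prod = K.z := by
  classical
  have hl := line_ok
  simp only [Bool.and_eq_true, List.all_eq_true] at hl
  obtain ⟨⟨⟨⟨⟨hpt, hlen⟩, hpl⟩, hfix⟩, -⟩, -⟩ := hl
  have hone : (baseLine.map rho).prod = 1 := by
    have h1 : wordP baseLine = 1 := eq_one_of_fix fun s hs => by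
      rw [(act_pt baseLine hpt s (sep_pt hs)).2,
        Nat.eq_of_beq_eq_true (hfix s (mem_ptList.2 (sep_pt hs)))]
    have h2 : ∀ x ∈ baseLine.map rho, x⁻¹ = x := fun x hx => by
      obtain ⟨c, hc, rfl⟩ := List.mem_map.1 hx
      exact rho_inv (hpt c hc)
    rw [wordP, List.map_reverse] at h1
    have h5 := List.prod_inv_reverse (baseLine.map rho)
    rw [List.map_congr_left h2, List.map_id', h1, inv_eq_one] at h5
    exact h5
  obtain ⟨y, hy⟩ := K.surj (rho b0)
  have hg : ∀ c, ∃ g : C, c ∈ baseLine → K.π g * rho b0 * (K.π g)⁻¹ = rho c := fun c => by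
    by_cases hc : c ∈ baseLine
    · obtain ⟨g, hg⟩ := exists_move (hpt c hc)
      obtain ⟨g, rfl⟩ := K.surj g
      exact ⟨g, fun _ => hg⟩
    · exact ⟨1, fun k => absurd k hc⟩
  choose g hg using hg
  have hmap : ∀ y' : C, K.π y' = rho b0 → (baseLine.map fun c => g c * y' * (g c)⁻¹).map K.π = baseLine.map rho :=
    fun y' hy' => by
      rw [List.map_map]
      exact List.map_congr_left fun c hc => by
        rw [Function.comp_apply, map_mul, map_mul, map_inv, hy', hg c hc]
  have hz : ∀ l : List ℕ, (l.map fun c => g c * (K.z * y) * (g c)⁻¹).prod =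
      K.z ^ l.length * (l.map fun c => g c * y * (g c)⁻¹).prod := fun l => by
    induction l with
    | nil => simp
    | cons c l ih =>
      rw [List.map_cons, List.map_cons, List.prod_cons, List.prod_cons, ih, List.length_cons, pow_succ,
        show g c * (K.z * y) * (g c)⁻¹ = K.z * (g c * y * (g c)⁻¹) by
          rw [← mul_assoc (g c), ← (K.central (g c)).eq]; simp [mul_assoc]]
      obtain ⟨w, hw⟩ : ∃ w, w = g c * y * (g c)⁻¹ := ⟨_, rfl⟩
      rw [← hw, mul_assoc K.z w, ← mul_assoc w, ← ((K.central w).pow_left l.length).eq, mul_assoc (K.z ^ l.length) w,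
        ← mul_assoc K.z, ← pow_succ', pow_succ, mul_assoc]
  have hker : K.π (baseLine.map fun c => g c * y * (g c)⁻¹).prod = 1 := by
    rw [map_list_prod, hmap y hy, hone]
  rcases (K.kerEq _).1 hker with e | e
  · refine ⟨K.z * y, by rw [map_mul, K.proj, one_mul, hy], _, hmap (K.z * y) (by rw [map_mul, K.proj, one_mul, hy]),
      fun x hx => ?_, ?_⟩
    · obtain ⟨c, -, rfl⟩ := List.mem_map.1 hx
      exact ⟨g c, rfl⟩
    · rw [hz, e, mul_one, Nat.eq_of_beq_eq_true hlen, show (5 : ℕ) = 2 * 2 + 1 from rfl, pow_succ, pow_mul,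
        pow_two K.z, K.sq, one_pow, one_mul]
  · refine ⟨y, hy, _, hmap y hy, fun x hx => ?_, e⟩
    obtain ⟨c, -, rfl⟩ := List.mem_map.1 hx
    exact ⟨g c, rfl⟩

/-- The normalised lift of the first root. -/
noncomputable def y0 : C := K.exists_base_lift.choose

theorem π_y0 : K.π K.y0 = rho b0 := K.exists_base_lift.choose_spec.1

/-- An element above the movement of the first point. -/
noncomputable def mover (c : ℕ) : C :=
  if hc : isPt c = true then (K.surj (exists_move hc).choose).choose else 1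

theorem π_mover {c : ℕ} (hc : isPt c = true) : K.π (K.mover c) * rho b0 * (K.π (K.mover c))⁻¹ = rho c := by
  rw [mover, dif_pos hc, (K.surj (exists_move hc).choose).choose_spec]
  exact (exists_move hc).choose_spec

/-- The lift of a point. -/
noncomputable def lift (c : ℕ) : C := K.mover c * K.y0 * (K.mover c)⁻¹

theorem π_lift {c : ℕ} (hc : isPt c = true) : K.π (K.lift c) = rho c := by
  rw [lift, map_mul, map_mul, map_inv, K.π_y0, K.π_mover hc]

theorem lift_inv {c : ℕ} (hc : isPt c = true) : (K.lift c)⁻¹ = K.lift c :=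
  inv_eq_of_mul_eq_one_right (K.lift_sq_root hc (K.π_lift hc))

theorem lift_sq {c : ℕ} (hc : isPt c = true) : K.lift c * K.lift c = 1 := K.lift_sq_root hc (K.π_lift hc)

theorem eq_lift {c : ℕ} (hc : isPt c = true) (g : C) (hg : K.π g * rho b0 * (K.π g)⁻¹ = rho c) :
    g * K.y0 * g⁻¹ = K.lift c := by
  have h := K.stab_commute K.π_y0 (g := (K.mover c)⁻¹ * g) (by
    rw [← K.π_mover hc] at hg
    rw [map_mul, map_inv, Commute, SemiconjBy, ← mul_inv_eq_iff_eq_mul]
    calc (K.π (K.mover c))⁻¹ * K.π g * rho b0 * ((K.π (K.mover c))⁻¹ * K.π g)⁻¹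
        = (K.π (K.mover c))⁻¹ * (K.π g * rho b0 * (K.π g)⁻¹) * K.π (K.mover c) := by simp [mul_assoc]
      _ = rho b0 := by rw [hg]; simp [mul_assoc])
  calc g * K.y0 * g⁻¹ = K.mover c * ((K.mover c)⁻¹ * g * K.y0 * ((K.mover c)⁻¹ * g)⁻¹) * (K.mover c)⁻¹ := by
        simp [mul_assoc]
    _ = K.lift c := by rw [mul_inv_eq_iff_eq_mul.2 h.eq, lift]

/-- Conjugation permutes the lifts as the points. -/
theorem lift_conj {c e : ℕ} (hc : isPt c = true) (he : isPt e = true) {g : C}
    (hg : K.π g * rho c * (K.π g)⁻¹ = rho e) : g * K.lift c * g⁻¹ = K.lift e := by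
  rw [lift, ← K.eq_lift he (g * K.mover c) (by
    rw [← hg, ← K.π_mover hc, map_mul]; simp [mul_assoc])]
  simp [mul_assoc]

theorem lift_comm {c e : ℕ} (hc : isPt c = true) (he : isPt e = true) :
    Commute (K.lift c) (K.lift e) ↔ adj c e = true := by
  refine ⟨fun h => ?_, fun h => K.lift_comm_root hc he h (K.π_lift hc) (K.π_lift he)⟩
  have := h.map K.π
  rwa [K.π_lift hc, K.π_lift he, rho_commute hc he] at this

theorem lift_refl {p c : ℕ} (hp : isPt p = true) (hc : isPt c = true) :
    isPt (refl p c) = true ∧ K.lift p * K.lift c * K.lift p = K.lift (refl p c) := by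
  obtain ⟨h1, h2⟩ := rho_conj hp hc
  refine ⟨h1, ?_⟩
  conv_lhs => arg 2; rw [← K.lift_inv hp]
  exact K.lift_conj hc h1 (by rw [K.π_lift hp, rho_inv hp, h2])

theorem base_line : (baseLine.map K.lift).prod = K.z := by
  obtain ⟨-, l, hmap, hconj, hprod⟩ := K.exists_base_lift.choose_spec
  rw [← hprod]
  congr 1
  have hl := line_ok
  simp only [Bool.and_eq_true, List.all_eq_true] at hl
  obtain ⟨⟨⟨⟨⟨hpt, -⟩, -⟩, -⟩, -⟩, -⟩ := hl
  have hlen : l.length = baseLine.length := by simpa using congrArg List.length hmap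
  refine (List.ext_getElem (by simp [hlen]) fun i h1 h2 => ?_).symm
  have hi : i < baseLine.length := by simpa using h2
  obtain ⟨g, hg⟩ := hconj l[i] (List.getElem_mem h1)
  rw [List.getElem_map, hg]
  refine K.eq_lift (hpt _ (List.getElem_mem hi)) g ?_
  have e : (l.map K.π)[i]'(by simpa using h1) = (baseLine.map rho)[i]'(by simpa using hi) := by simp only [hmap]
  rw [List.getElem_map, List.getElem_map, hg, map_mul, map_mul, map_inv] at e
  rwa [show K.π K.exists_base_lift.choose = rho b0 from K.π_y0] at e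

theorem lift_inj {c e : ℕ} (hc : isPt c = true) (he : isPt e = true) (h : K.lift c = K.lift e) : c = e :=
  rho_inj hc he (by rw [← K.π_lift hc, h, K.π_lift he])

theorem lift_ne_z_mul {c e : ℕ} (hc : isPt c = true) (he : isPt e = true) (h : K.lift c = K.z * K.lift e) :
    False := by
  have k := congrArg K.π h
  rw [map_mul, K.proj, one_mul, K.π_lift hc, K.π_lift he] at k
  obtain rfl := rho_inj hc he k
  exact K.ne (mul_eq_right.1 h.symm)

theorem lift_generates : Subgroup.closure {x | ∃ c, isPt c = true ∧ K.lift c = x} = ⊤ := by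
  set L := Subgroup.closure {x | ∃ c, isPt c = true ∧ K.lift c = x} with hL
  have hmap : L.map K.π = ⊤ := by
    rw [hL, MonoidHom.map_closure, ← top_le_iff, ← (U6.roots_class h4).2.2]
    refine Subgroup.closure_mono fun x hx => ?_
    obtain ⟨c, hc, rfl⟩ := rho_surj hx
    exact ⟨K.lift c, ⟨c, hc, rfl⟩, K.π_lift hc⟩
  have hz : K.z ∈ L := by
    rw [← K.base_line]
    have hl := line_ok
    simp only [Bool.and_eq_true, List.all_eq_true] at hl
    obtain ⟨⟨⟨⟨⟨hpt, -⟩, -⟩, -⟩, -⟩, -⟩ := hl
    refine list_prod_mem fun x hx => ?_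
    obtain ⟨c, hc, rfl⟩ := List.mem_map.1 hx
    exact Subgroup.subset_closure ⟨c, hpt c hc, rfl⟩
  rw [eq_top_iff]
  intro x _
  obtain ⟨y, hy, e⟩ := (hmap ▸ Subgroup.mem_top (K.π x) : K.π x ∈ L.map K.π)
  rcases K.fibre e.symm with rfl | rfl
  exacts [hy, mul_mem hz hy]

end Cov

end Cfsg.Agent.Block.FischerTypes.M22Recog
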