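import Cfsg.Agent.Lib.Block.FischerTypes.M22Recog.Conjugates
import Cfsg.Agent.Lib.Block.FischerTypes.U6Code.Local

/-! The conjugates of `d` commuting with a given one, as numbered points. -/

set_option autoImplicit false
set_option linter.style.haveILetI false
set_option linter.unusedSectionVars false

namespace Cfsg.Agent.Block.FischerTypes.M22Recog

open Cfsg U6Code Cfsg.Agent.Spor.USixTwo Cfsg.Agent.Spor.ThreeTrans

section Frames

variable {G : Type*} [Group G] [Finite G] {D : Set G} (hinv : ∀ g : G, ∀ x ∈ D, g * x * g⁻¹ ∈ D)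
include hinv

theorem perp_map (g : G) {a u : G} (hu : u ∈ perp D a) : g * u * g⁻¹ ∈ perp D (g * a * g⁻¹) :=
  ⟨hinv g u hu.1, fun e => hu.2.1 (mul_left_cancel (mul_right_cancel e)), (commute_conj_iff g _ _).2 hu.2.2⟩

theorem perp_map_iff (g : G) {a u : G} : g * u * g⁻¹ ∈ perp D (g * a * g⁻¹) ↔ u ∈ perp D a := by
  refine ⟨fun h => ?_, perp_map hinv g⟩
  have := perp_map hinv g⁻¹ h
  simpa [mul_assoc] using this

variable {a : G}

/-- The numbering carried to a conjugate. -/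
def conjTo (M : Model D a) (g : G) : Model D (g * a * g⁻¹) where
  pt c := g * M.pt c * g⁻¹
  mem c hc := perp_map hinv g (M.mem c hc)
  surj u hu := by
    obtain ⟨c, hc, e⟩ := M.surj (g⁻¹ * u * g) (by
      refine (perp_map_iff hinv g).1 ?_
      simpa [mul_assoc] using hu)
    exact ⟨c, hc, by rw [e]; simp [mul_assoc]⟩
  inj c d hc hd e := M.inj c d hc hd (mul_left_cancel (mul_right_cancel e))
  comm c d hc hd := (commute_conj_iff g _ _).trans (M.comm c d hc hd)
  conj p c hp hc := by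
    obtain ⟨h1, h2⟩ := M.conj p c hp hc
    exact ⟨h1, by rw [← h2]; simp [mul_assoc]⟩

/-- A word of points as an element fixing the centre of the frame. -/
theorem word_fix (M : Model D a) (hsq : ∀ x ∈ D, x * x = 1) : ∀ (w : List ℕ), (∀ p ∈ w, isPt p = true) →
    ∃ g, Commute g a ∧ (∀ x, isPt x = true → isPt (act w x) = true ∧ g * M.pt x * g⁻¹ = M.pt (act w x))
  | [], _ => ⟨1, Commute.one_left a, fun x hx => ⟨hx, by simp [act]⟩⟩
  | p :: w, hw => by
    obtain ⟨g, hg, hgx⟩ := word_fix M hsq w fun q hq => hw q (List.mem_cons_of_mem _ hq)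
    have hp := hw p List.mem_cons_self
    refine ⟨g * M.pt p, hg.mul_left (M.mem p hp).2.2.symm, fun x hx => ?_⟩
    obtain ⟨h1, h2⟩ := M.conj p x hp hx
    obtain ⟨h3, h5⟩ := hgx _ h1
    refine ⟨by simpa [act] using h3, ?_⟩
    rw [show act (p :: w) x = act w (refl p x) by simp [act], ← h5, ← h2, mul_inv_rev,
      inv_eq_of_mul_eq_one_right (hsq _ (M.mem p hp).1)]
    simp [mul_assoc]

theorem exists_point (M : Model D a) (hsq : ∀ x ∈ D, x * x = 1) {u : G} (hu : u ∈ perp D a) :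
    ∃ M' : Model D a, M'.pt b0 = u := by
  obtain ⟨c, hc, rfl⟩ := M.surj u hu
  have ht := tr0_ok
  simp only [chkTr, Bool.and_eq_true, List.all_eq_true, List.any_eq_true] at ht
  obtain ⟨e, he, hec⟩ := ht.2 c (mem_ptList.2 hc)
  obtain ⟨hf, hact⟩ := ht.1 e he
  simp only [fixes, List.all_eq_true, Bool.and_eq_true] at hf
  obtain ⟨g, hg, hgx⟩ := word_fix hinv M hsq e.2 fun p hp => (hf p hp).1
  have ha : g * a * g⁻¹ = a := conj_self_eq hg
  refine ⟨ha ▸ conjTo hinv M g, ?_⟩
  have : ∀ {b : G} (h : g * a * g⁻¹ = b), (h ▸ conjTo hinv M g).pt = fun c => g * M.pt c * g⁻¹ := by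
    intro b h; subst h; rfl
  rw [this ha]
  show g * M.pt b0 * g⁻¹ = M.pt c
  rw [(hgx b0 Model.pt_b0).2, Nat.eq_of_beq_eq_true hact, Nat.eq_of_beq_eq_true hec]

theorem exists_apart_pair (M : Model D a) (hsq : ∀ x ∈ D, x * x = 1) {u v : G} (hu : u ∈ perp D a)
    (hv : v ∈ perp D a) (hnc : ¬ Commute u v) : ∃ M' : Model D a, M'.pt b0 = u ∧ M'.pt c0 = v := by
  obtain ⟨N, rfl⟩ := exists_point hinv M hsq hu
  obtain ⟨c, hc, rfl⟩ := N.surj v hv
  have hcl : c ∈ ptList.filter fun c => !(adj b0 c) := by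
    refine List.mem_filter.2 ⟨mem_ptList.2 hc, ?_⟩
    rw [Bool.eq_false_iff.2 fun k => hnc ((N.comm _ _ Model.pt_b0 hc).2 k)]
    rfl
  have ht := trApart_ok
  simp only [chkTr, Bool.and_eq_true, List.all_eq_true, List.any_eq_true] at ht
  obtain ⟨e, he, hec⟩ := ht.2 c hcl
  obtain ⟨hf, hact⟩ := ht.1 e he
  have hf' := hf
  simp only [fixes, List.all_eq_true, Bool.and_eq_true] at hf'
  obtain ⟨g, hg, hgx⟩ := word_fix hinv N hsq e.2 fun p hp => (hf' p hp).1
  have ha : g * a * g⁻¹ = a := conj_self_eq hg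
  have : ∀ {b : G} (h : g * a * g⁻¹ = b), (h ▸ conjTo hinv N g).pt = fun c => g * N.pt c * g⁻¹ := by
    intro b h; subst h; rfl
  refine ⟨ha ▸ conjTo hinv N g, ?_, ?_⟩
  · rw [this ha]
    show g * N.pt b0 * g⁻¹ = N.pt b0
    rw [(hgx b0 Model.pt_b0).2, Model.act_fix hf List.mem_cons_self]
  · rw [this ha]
    show g * N.pt c0 * g⁻¹ = N.pt c
    rw [(hgx c0 Model.pt_c0).2, Nat.eq_of_beq_eq_true hact, Nat.eq_of_beq_eq_true hec]

end Frames

variable {G : Type*} [Group G] [Finite G] {d : G} {K : Cov ↥(CC d)}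

/-- The conjugates of `d` in its centraliser are `d` and the lifts. -/
theorem mem_iff (H : Hyp d K) (x : ↥(CC d)) :
    IsConj d (x : G) ↔ x = K.z ∨ ∃ c, isPt c = true ∧ K.lift c = x := by
  obtain ⟨codes, hc, -, hiff⟩ := plane_conj H
  have hz : ∀ g : ↥(CC d), g⁻¹ * K.z * g = K.z := fun g => by
    rw [mul_assoc, (K.central g).eq, inv_mul_cancel_left]
  constructor
  · intro hx
    obtain ⟨g, hg⟩ := K.invol_conj hc (y := x) (Subtype.ext (by simpa using isConj_sq H hx))
    obtain ⟨e, he, hev⟩ := hg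
    have hxe : x = g⁻¹ * K.ev e * g := by rw [hev]; simp [mul_assoc]
    obtain ⟨i, hi, rfl⟩ := (hiff e he).1 (by
      rw [hev]
      exact hx.trans (isConj_iff.2 ⟨(g : G), rfl⟩))
    rw [(hc i hi).2] at hxe
    rcases (show i < 21 ∨ i = 21 by omega) with k | rfl
    · refine Or.inr ?_
      have hp := plane_pt (pp_mem k)
      rw [K.cur_lt k] at hxe
      obtain ⟨c, hc', e⟩ := rho_surj (conj_mem (U6.roots_class h4) (K.π g⁻¹) (rho_mem hp))
      refine ⟨c, hc', ?_⟩
      rw [hxe, ← K.lift_conj hp hc' (g := g⁻¹) e.symm, inv_inv]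
    · rw [K.cur_last, hz] at hxe
      exact Or.inl hxe
  · rintro (rfl | ⟨c, hc', rfl⟩)
    · rw [H.hz]
    · have hp := plane_pt (pp_mem (show 0 < 21 by norm_num))
      obtain ⟨g1, h1⟩ := exists_move hp
      obtain ⟨g2, h2⟩ := exists_move hc'
      obtain ⟨g, hg⟩ := K.surj (g2 * g1⁻¹)
      have e : g * K.lift (pp 0) * g⁻¹ = K.lift c := K.lift_conj hp hc' (by
        rw [hg, ← h1, ← h2]; simp [mul_assoc])
      have h0 : IsConj d ((K.cur 0 : ↥(CC d)) : G) := by
        rw [← (hc 0 (by norm_num)).2]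
        exact (hiff _ (hc 0 (by norm_num)).1).2 ⟨0, by norm_num, rfl⟩
      rw [K.cur_lt (by norm_num)] at h0
      rw [← e]
      exact h0.trans (isConj_iff.2 ⟨(g : G), rfl⟩)

theorem mem_perp_iff (H : Hyp d K) {u : G} :
    u ∈ perp (conjugatesOf d) d ↔ ∃ c, isPt c = true ∧ ((K.lift c : ↥(CC d)) : G) = u := by
  constructor
  · rintro ⟨hu, hne, hc⟩
    rcases (mem_iff H ⟨u, Subgroup.mem_centralizer_singleton_iff.2 hc.symm.eq⟩).1 hu with k | ⟨c, hc', k⟩
    · exact absurd ((congrArg Subtype.val k).trans H.hz) hne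
    · exact ⟨c, hc', congrArg Subtype.val k⟩
  · rintro ⟨c, hc, rfl⟩
    refine ⟨(mem_iff H (K.lift c)).2 (Or.inr ⟨c, hc, rfl⟩), fun e => ?_,
      (Subgroup.mem_centralizer_singleton_iff.1 (K.lift c).2).symm⟩
    have k : K.lift c = K.z := Subtype.ext (e.trans H.hz.symm)
    have k' := congrArg K.π k
    rw [K.π_lift hc, K.proj] at k'
    have := (U6.roots_class h4).1.1 _ (rho_mem hc)
    rw [k', orderOf_one] at this
    norm_num at this

/-- The lifts as a numbering. -/
noncomputable def baseModel (H : Hyp d K) : Model (conjugatesOf d) d where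
  pt c := (K.lift c : ↥(CC d))
  mem c hc := (mem_perp_iff H).2 ⟨c, hc, rfl⟩
  surj u hu := by
    obtain ⟨c, hc, e⟩ := (mem_perp_iff H).1 hu
    exact ⟨c, hc, e⟩
  inj c e hc he k := K.lift_inj hc he (Subtype.ext k)
  comm c e hc he := by
    rw [← K.lift_comm hc he]
    exact ⟨fun k => Subtype.ext k.eq, fun k => k.map (CC d).subtype⟩
  conj p c hp hc := by
    obtain ⟨h1, h2⟩ := K.lift_refl hp hc
    exact ⟨h1, congrArg Subtype.val h2⟩

theorem closure_perp_base (H : Hyp d K) : Subgroup.closure (perp (conjugatesOf d) d) = CC d := by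
  have : perp (conjugatesOf d) d = (CC d).subtype '' {x | ∃ c, isPt c = true ∧ K.lift c = x} := by
    ext u
    rw [mem_perp_iff H]
    exact ⟨fun ⟨c, hc, e⟩ => ⟨_, ⟨c, hc, rfl⟩, e⟩, fun ⟨_, ⟨c, hc, e⟩, e'⟩ => ⟨c, hc, by rw [e]; exact e'⟩⟩
  rw [this, ← MonoidHom.map_closure, K.lift_generates, ← MonoidHom.range_eq_map, Subgroup.range_subtype]

theorem conjugates_inv (g : G) : ∀ x ∈ conjugatesOf d, g * x * g⁻¹ ∈ conjugatesOf d :=
  fun _ hx => (show IsConj d _ from hx).trans (isConj_iff.2 ⟨g, rfl⟩)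

theorem conjugates_sq (H : Hyp d K) : ∀ x ∈ conjugatesOf d, x * x = 1 :=
  fun _ hx => isConj_sq H hx

theorem exists_model_at (H : Hyp d K) {x : G} (hx : x ∈ conjugatesOf d) :
    Nonempty (Model (conjugatesOf d) x) := by
  obtain ⟨g, rfl⟩ := isConj_iff.1 (show IsConj d x from hx)
  exact ⟨conjTo (fun g => conjugates_inv g) (baseModel H) g⟩

theorem centralizer_perp (H : Hyp d K) {x : G} (hx : x ∈ conjugatesOf d) :
    Subgroup.closure (perp (conjugatesOf d) x) = CC x := by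
  obtain ⟨g, rfl⟩ := isConj_iff.1 (show IsConj d x from hx)
  have e1 : perp (conjugatesOf d) (g * d * g⁻¹) = (MulAut.conj g).toMonoidHom '' perp (conjugatesOf d) d := by
    ext u
    constructor
    · intro hu
      refine ⟨g⁻¹ * u * g, (perp_map_iff (fun g => conjugates_inv g) g).1 ?_, by simp [mul_assoc]⟩
      simpa [mul_assoc] using hu
    · rintro ⟨v, hv, rfl⟩
      exact perp_map (fun g => conjugates_inv g) g hv
  rw [e1, ← MonoidHom.map_closure, closure_perp_base H]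
  ext u
  simp only [Subgroup.mem_map, CC, Subgroup.mem_centralizer_singleton_iff, MulEquiv.coe_toMonoidHom, MulAut.conj_apply]
  constructor
  · rintro ⟨v, hv, rfl⟩
    exact ((commute_conj_iff g v d).2 hv).eq
  · intro hu
    refine ⟨g⁻¹ * u * g, ((commute_conj_iff g _ _).1 ?_).eq, by simp [mul_assoc]⟩
    simpa [mul_assoc, Commute, SemiconjBy] using hu

end Cfsg.Agent.Block.FischerTypes.M22Recog
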