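import Cfsg.Agent.Lib.Block.FischerTypes.M22Recog.Plane
import Cfsg.Agent.Lib.Block.FischerTypes.U6Invol

/-! Every involution of `PSU₆(2)` is conjugate to a product of roots of the first three points of the
frame; pairwise commuting roots, at most three of them, are conjugate into the plane. -/

set_option autoImplicit false
set_option maxRecDepth 100000
set_option linter.style.haveILetI false

namespace Cfsg.Agent.Block.FischerTypes.M22Recog

open Cfsg U6Code Cfsg.Agent.Spor.USixTwo

theorem pt_base : isPt b0 = true ∧ isPt b1 = true ∧ isPt b2 = true := ⟨Model.pt_b0, Model.pt_b1, Model.pt_b2⟩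

theorem base_in : b0 ∈ plane ∧ b1 ∈ plane ∧ b2 ∈ plane := by decide +kernel

theorem line_in : (ptList.all fun c => !(onLine b0 b1 c) || baseLine.contains c) = true := by decide +kernel

theorem base_sub : ∀ c ∈ baseLine, c ∈ plane := by decide +kernel

/-- A collinear triple is a pair. -/
theorem triple_line : (baseLine.all fun c => Nat.beq c b0 || Nat.beq c b1 ||
    baseLine.any fun e => baseLine.any fun f => !(Nat.beq e f) && adj e f && isPt e && isPt f &&
      sepPts.all fun s => Nat.beq (act [b0, b1, c] s) (act [e, f] s)) = true := by decide +kernel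

theorem wordP_one (p : ℕ) : wordP [p] = rho p := by simp [wordP]

theorem wordP_two (p q : ℕ) : wordP [p, q] = rho q * rho p := by simp [wordP]

theorem wordP_three (p q r : ℕ) : wordP [p, q, r] = rho r * (rho q * rho p) := by simp [wordP]

/-- Conjugation by the element of a transversal word. -/
theorem move {B : List ℕ} {x : ℕ} {tr : List (ℕ × List ℕ)} {cl : List ℕ} (hB : ∀ b ∈ B, isPt b = true)
    (hx : isPt x = true) (ht : chkTr B x tr cl = true) {c : ℕ} (hc : c ∈ cl) :
    ∃ g : P6, g * rho c * g⁻¹ = rho x ∧ ∀ b ∈ B, g * rho b * g⁻¹ = rho b := by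
  simp only [chkTr, Bool.and_eq_true, List.all_eq_true, List.any_eq_true] at ht
  obtain ⟨e, he, hec⟩ := ht.2 c hc
  obtain ⟨hf, hact⟩ := ht.1 e he
  have hw : ∀ p ∈ e.2, isPt p = true := fun p hp => by
    simp only [fixes, List.all_eq_true, Bool.and_eq_true] at hf
    exact (hf p hp).1
  refine ⟨(wordP e.2)⁻¹, ?_, fun b hb => ?_⟩
  · have h := (act_pt e.2 hw x hx).2
    rw [Nat.eq_of_beq_eq_true hact, Nat.eq_of_beq_eq_true hec] at h
    rw [← h]; simp [mul_assoc]
  · have h := (act_pt e.2 hw b (hB b hb)).2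
    rw [Model.act_fix hf hb] at h
    conv_lhs => arg 1; arg 2; rw [← h]
    simp [mul_assoc]

theorem to_base {p : ℕ} (hp : isPt p = true) : ∃ g : P6, g * rho p * g⁻¹ = rho b0 := by
  obtain ⟨g, hg, -⟩ := move (B := []) (by simp) Model.pt_b0 tr0_ok (mem_ptList.2 hp)
  exact ⟨g, hg⟩

theorem to_pair {p q : ℕ} (hp : isPt p = true) (hq : isPt q = true) (h : adj p q = true) (hne : p ≠ q) :
    ∃ g : P6, g * rho p * g⁻¹ = rho b0 ∧ g * rho q * g⁻¹ = rho b1 := by
  obtain ⟨g, hg⟩ := to_base hp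
  obtain ⟨c, hc, ec⟩ := rho_surj (Spor.ThreeTrans.conj_mem (U6.roots_class h4) g (rho_mem hq))
  have hadj : adj b0 c = true := by
    rw [← rho_commute Model.pt_b0 hc, ec, ← hg, Spor.ThreeTrans.commute_conj_iff, rho_commute hp hq]
    exact h
  have hcb : c ≠ b0 := fun e => hne (rho_inj hp hq (by
    rw [e, ← hg] at ec
    exact mul_left_cancel (mul_right_cancel ec)))
  obtain ⟨k, hk, hfix⟩ := move (B := [b0]) (by simp [Model.pt_b0]) Model.pt_b1 tr1_ok (c := c)
    (List.mem_filter.2 ⟨mem_ptList.2 hc, by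
      rw [hadj, Bool.true_and, Bool.not_eq_true', ← Bool.not_eq_true]
      exact fun e => hcb (Nat.eq_of_beq_eq_true e)⟩)
  refine ⟨k * g, ?_, ?_⟩
  · rw [show k * g * rho p * (k * g)⁻¹ = k * (g * rho p * g⁻¹) * k⁻¹ by simp [mul_assoc], hg]
    exact hfix b0 List.mem_cons_self
  · rw [show k * g * rho q * (k * g)⁻¹ = k * (g * rho q * g⁻¹) * k⁻¹ by simp [mul_assoc], ← ec]
    exact hk

/-- Three pairwise orthogonal points: onto the base line, or onto the frame. -/
theorem to_triple {p q r : ℕ} (hp : isPt p = true) (hq : isPt q = true) (hr : isPt r = true)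
    (hpq : adj p q = true) (hpr : adj p r = true) (hqr : adj q r = true) (n1 : p ≠ q) (n2 : p ≠ r) (n3 : q ≠ r) :
    ∃ g : P6, g * rho p * g⁻¹ = rho b0 ∧ g * rho q * g⁻¹ = rho b1 ∧
      ∃ c, isPt c = true ∧ g * rho r * g⁻¹ = rho c ∧ (c ∈ baseLine ∨ c = b2) ∧ c ≠ b0 ∧ c ≠ b1 := by
  obtain ⟨g, hg0, hg1⟩ := to_pair hp hq hpq n1
  obtain ⟨c, hc, ec⟩ := rho_surj (Spor.ThreeTrans.conj_mem (U6.roots_class h4) g (rho_mem hr))
  have h0 : c ≠ b0 := fun e => n2 (rho_inj hp hr (by
    rw [e, ← hg0] at ec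
    exact mul_left_cancel (mul_right_cancel ec)))
  have h1 : c ≠ b1 := fun e => n3 (rho_inj hq hr (by
    rw [e, ← hg1] at ec
    exact mul_left_cancel (mul_right_cancel ec)))
  have a0 : adj b0 c = true := by
    rw [← rho_commute Model.pt_b0 hc, ec, ← hg0, Spor.ThreeTrans.commute_conj_iff, rho_commute hp hr]
    exact hpr
  have a1 : adj b1 c = true := by
    rw [← rho_commute Model.pt_b1 hc, ec, ← hg1, Spor.ThreeTrans.commute_conj_iff, rho_commute hq hr]
    exact hqr
  cases hl : onLine b0 b1 c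
  · obtain ⟨k, hk, hfix⟩ := move (B := [b0, b1]) (by simp [Model.pt_b0, Model.pt_b1]) Model.pt_b2 tr2_ok (c := c)
      (List.mem_filter.2 ⟨mem_ptList.2 hc, by
        simp only [a0, a1, hl, Bool.true_and, Bool.not_false, Bool.and_true, Bool.and_eq_true,
          Bool.not_eq_true', ← Bool.not_eq_true]
        exact ⟨fun e => h0 (Nat.eq_of_beq_eq_true e), fun e => h1 (Nat.eq_of_beq_eq_true e)⟩⟩)
    refine ⟨k * g, ?_, ?_, b2, Model.pt_b2, ?_, Or.inr rfl, by decide, by decide⟩
    · rw [show k * g * rho p * (k * g)⁻¹ = k * (g * rho p * g⁻¹) * k⁻¹ by simp [mul_assoc], hg0]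
      exact hfix b0 (by simp)
    · rw [show k * g * rho q * (k * g)⁻¹ = k * (g * rho q * g⁻¹) * k⁻¹ by simp [mul_assoc], hg1]
      exact hfix b1 (by simp)
    · rw [show k * g * rho r * (k * g)⁻¹ = k * (g * rho r * g⁻¹) * k⁻¹ by simp [mul_assoc], ← ec]
      exact hk
  · refine ⟨g, hg0, hg1, c, hc, ec.symm, Or.inl ?_, h0, h1⟩
    have h := line_in
    simp only [List.all_eq_true, Bool.or_eq_true] at h
    rcases h c (mem_ptList.2 hc) with e | e
    · rw [hl] at e; exact absurd e (by decide)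
    · exact List.contains_iff_mem.1 e

theorem dedup_two {p q : ℕ} (hp : isPt p = true) (e : p = q) : rho q * rho p = 1 := by
  rw [← e]; exact rho_sq hp

/-- The normal forms of involutions. -/
theorem inv_normal {u : P6} (hu : u * u = 1) :
    ∃ (g : P6) (L : List ℕ), (L = [] ∨ L = [b0] ∨ L = [b0, b1] ∨ L = [b0, b1, b2]) ∧ g * u * g⁻¹ = wordP L := by
  obtain ⟨l, hlen, hl, hc, rfl⟩ := U6.involution_roots h4 hu
  have nil : ∀ v : P6, v = 1 → ∃ (g : P6) (L : List ℕ), (L = [] ∨ L = [b0] ∨ L = [b0, b1] ∨ L = [b0, b1, b2]) ∧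
      g * v * g⁻¹ = wordP L := fun v hv => ⟨1, [], Or.inl rfl, by simp [hv, wordP]⟩
  have one : ∀ p, isPt p = true → ∃ (g : P6) (L : List ℕ),
      (L = [] ∨ L = [b0] ∨ L = [b0, b1] ∨ L = [b0, b1, b2]) ∧ g * rho p * g⁻¹ = wordP L := fun p hp => by
    obtain ⟨g, hg⟩ := to_base hp
    exact ⟨g, [b0], Or.inr (Or.inl rfl), by rw [hg, wordP_one]⟩
  have two : ∀ p q, isPt p = true → isPt q = true → adj p q = true → ∃ (g : P6) (L : List ℕ),
      (L = [] ∨ L = [b0] ∨ L = [b0, b1] ∨ L = [b0, b1, b2]) ∧ g * (rho p * rho q) * g⁻¹ = wordP L := by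
    intro p q hp hq h
    by_cases e : p = q
    · exact nil _ (by rw [e]; exact rho_sq hq)
    obtain ⟨g, h0, h1⟩ := to_pair hp hq h e
    refine ⟨g, [b0, b1], Or.inr (Or.inr (Or.inl rfl)), ?_⟩
    rw [wordP_two, ← h1, ← h0, ((rho_commute hp hq).2 h).eq]
    simp [mul_assoc]
  match l, hlen, hl, hc with
  | [], _, _, _ => exact nil _ rfl
  | [r], _, hl, _ =>
    obtain ⟨p, hp, rfl⟩ := rho_surj (hl r (by simp))
    simpa using one p hp
  | [r, s], _, hl, hc =>
    obtain ⟨p, hp, rfl⟩ := rho_surj (hl r (by simp))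
    obtain ⟨q, hq, rfl⟩ := rho_surj (hl s (by simp))
    simpa using two p q hp hq ((rho_commute hp hq).1 (hc _ (by simp) _ (by simp)))
  | [r, s, t], _, hl, hc =>
    obtain ⟨p, hp, rfl⟩ := rho_surj (hl r (by simp))
    obtain ⟨q, hq, rfl⟩ := rho_surj (hl s (by simp))
    obtain ⟨o, ho, rfl⟩ := rho_surj (hl t (by simp))
    have cpq := hc (rho p) (by simp) (rho q) (by simp)
    have cpo := hc (rho p) (by simp) (rho o) (by simp)
    have cqo := hc (rho q) (by simp) (rho o) (by simp)
    rw [show [rho p, rho q, rho o].prod = rho p * (rho q * rho o) by simp]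
    by_cases e1 : p = q
    · rw [← e1, ← mul_assoc, rho_sq hp, one_mul]; exact one o ho
    by_cases e2 : p = o
    · rw [← e2, ← cpq.eq, ← mul_assoc, rho_sq hp, one_mul]; exact one q hq
    by_cases e3 : q = o
    · rw [← e3, rho_sq hq, mul_one]; exact one p hp
    obtain ⟨g, h0, h1, c, hcp, h2, hcl, n0, n1⟩ := to_triple hp hq ho ((rho_commute hp hq).1 cpq)
      ((rho_commute hp ho).1 cpo) ((rho_commute hq ho).1 cqo) e1 e2 e3
    have hconj : g * (rho p * (rho q * rho o)) * g⁻¹ = wordP [b0, b1, c] := by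
      rw [wordP_three, ← h0, ← h1, ← h2, show rho p * (rho q * rho o) = rho o * (rho q * rho p) by
        rw [(cqo.eq : rho q * rho o = _), ← mul_assoc, cpo.eq, mul_assoc, cpq.eq]]
      simp [mul_assoc]
    rcases hcl with hcl | rfl
    · have h := triple_line
      simp only [List.all_eq_true, Bool.or_eq_true] at h
      rcases h c hcl with (k | k) | k
      · exact absurd (Nat.eq_of_beq_eq_true k) n0
      · exact absurd (Nat.eq_of_beq_eq_true k) n1
      · simp only [List.any_eq_true, Bool.and_eq_true, List.all_eq_true] at k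
        obtain ⟨e, -, f, -, ⟨⟨⟨-, haf⟩, he⟩, hf⟩, hs⟩ := k
        have hw : wordP [b0, b1, c] = wordP [e, f] := wordP_ext
          (by simp [Model.pt_b0, Model.pt_b1, hcp]) (by simp [he, hf]) fun s hs' => Nat.eq_of_beq_eq_true (hs s hs')
        obtain ⟨k, L, hL, hk⟩ := two f e hf he (by rw [adj_comm]; exact haf)
        refine ⟨k * g, L, hL, ?_⟩
        rw [← hk, ← wordP_two e f, ← hw, ← hconj]
        simp [mul_assoc]
    · exact ⟨g, [b0, b1, b2], Or.inr (Or.inr (Or.inr rfl)), hconj⟩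
  | _ :: _ :: _ :: _ :: _, hlen, _, _ => exact absurd hlen (by simp)

theorem mem_plane_of_std {L : List ℕ} (hL : L = [] ∨ L = [b0] ∨ L = [b0, b1] ∨ L = [b0, b1, b2]) :
    ∀ p ∈ L, p ∈ plane := by
  obtain ⟨h0, h1, h2⟩ := base_in
  rcases hL with rfl | rfl | rfl | rfl <;> simp [h0, h1, h2]

/-- The roots of points fixed by a standard involution are orthogonal to its points. -/
theorem fixed_adj {L : List ℕ} (hL : L = [] ∨ L = [b0] ∨ L = [b0, b1] ∨ L = [b0, b1, b2]) {x : ℕ}
    (hx : isPt x = true) (hc : Commute (wordP L) (rho x)) : ∀ p ∈ L, adj x p = true := by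
  have hm := mem_plane_of_std hL
  have hpt : ∀ p ∈ L, isPt p = true := fun p hp => plane_pt (hm p hp)
  obtain ⟨h1, h2⟩ := act_pt L hpt x hx
  have e : act L x = x := rho_inj h1 hx (by rw [← h2, hc.eq]; simp)
  rcases hL with rfl | rfl | rfl | rfl
  · simp
  · have h := fix_single
    simp only [List.all_eq_true, Bool.or_eq_true, Bool.not_eq_true'] at h
    rcases h x (mem_ptList.2 hx) with k | k
    · rw [e] at k; simp at k
    · simpa using k
  · have h := fix_pair
    simp only [List.all_eq_true, Bool.or_eq_true, Bool.not_eq_true', Bool.and_eq_true] at h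
    rcases h x (mem_ptList.2 hx) with k | k
    · rw [e] at k; simp at k
    · simpa using k
  · have h := fix_triple
    simp only [List.all_eq_true, Bool.or_eq_true, Bool.not_eq_true', Bool.and_eq_true] at h
    rcases h x (mem_ptList.2 hx) with k | k
    · rw [e] at k; simp at k
    · simpa [and_assoc] using k

end Cfsg.Agent.Block.FischerTypes.M22Recog
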