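import Cfsg.Agent.Lib.Block.FischerTypes.M22Recog.Component
import Cfsg.Agent.Lib.Block.FischerTypes.M22Recog.Case

/-! Facts inside the centraliser of a commuting pair of members. -/

set_option autoImplicit false
set_option maxRecDepth 100000
set_option maxHeartbeats 1000000
set_option linter.style.haveILetI false
set_option linter.unusedSectionVars false

namespace Cfsg.Agent.Block.FischerTypes.M22Recog

open Cfsg U6Code Cfsg.Agent.Spor.USixTwo Cfsg.Agent.Spor.ThreeTrans

/-- The commutator of a fixed element with the product of `b1` and `c`, as a word. -/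
def comWord (c : ℕ) : List ℕ := [b1, c] ++ [1596, 3879] ++ [c, b1] ++ [3879, 1596]

/-- The fixed element and the commutator. -/
def chkPairCore : Bool :=
  isPt 3879 && isPt 1596 && adj 3879 b0 && adj 1596 b0 &&
    (ptList.all fun c => !(adj c b0) || adj c b1 || (
      (sepPts.all fun s => Nat.beq (act (comWord c ++ comWord c ++ comWord c ++ comWord c) s) s) &&
        ptList.any fun p => adj p b0 && !(Nat.beq (act (comWord c) p) p))) &&
    (ptList.all fun a => adj a b0 || (wList.any fun v => !(adj a v)) || Nat.beq a c0 || Nat.beq a (refl b0 c0))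

theorem pairCore_ok : chkPairCore = true := by decide +kernel

/-- Two plane points outside the two hexagons. -/
def offHex : ℕ := (plane.filter fun y => hexData.all fun h => !(h.2.contains y)).headD 0

theorem offHex_ok : (plane.contains offHex && hexData.all fun h => !(h.2.contains offHex)) = true := by
  decide +kernel

namespace Cov

variable {C : Type*} [Group C] [Finite C] (K : Cov C)

/-- Six plane lifts with product the central involution, missing a plane point. -/
theorem six_rel : ∃ l : List ℕ, l.length = 6 ∧ offHex ∉ l ∧ (∀ y ∈ l, y ∈ plane) ∧ (l.map K.lift).prod = K.z := by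
  obtain ⟨s, t, hs, ht, hr⟩ := K.signs
  have key : ∀ j < 2, K.val ((hexData.getD j (0, [])).1 ||| 1 <<< 21) = 1 →
      ∃ l : List ℕ, l.length = 6 ∧ offHex ∉ l ∧ (∀ y ∈ l, y ∈ plane) ∧ (l.map K.lift).prod = K.z := by
    intro j hj hv
    have hlt : ∀ j < 2, (hexData.getD j (0, [])).1 < 2 ^ 21 := by decide +kernel
    have hm : hexData.getD j (0, []) ∈ hexData := by
      rw [List.getD_eq_getElem _ _ (by have : hexData.length = 2 := by decide +kernel
                                       omega)]
      exact List.getElem_mem _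
    have h := hex_ok
    simp only [Bool.and_eq_true, List.all_eq_true] at h
    obtain ⟨⟨⟨⟨hpl, hlen⟩, hsum⟩, -⟩, -⟩ := h.2 _ hm
    have hoff := offHex_ok
    simp only [Bool.and_eq_true, List.all_eq_true, Bool.not_eq_true'] at hoff
    obtain ⟨hd, hhd⟩ : ∃ hd, hd = hexData.getD j (0, []) := ⟨_, rfl⟩
    have hlt' := hhd ▸ hlt j hj
    rw [← hhd] at hpl hlen hsum hv hm
    refine ⟨hd.2, Nat.eq_of_beq_eq_true hlen,
      fun k => by simpa [k] using hoff.2 hd hm, fun y hy => List.contains_iff_mem.1 (hpl y hy), ?_⟩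
    have e' : hd.1 ||| 1 <<< 21 = hd.1 ^^^ 2 ^ 21 := by
      refine Nat.eq_of_testBit_eq fun i => ?_
      rw [Nat.shiftLeft_eq, one_mul, Nat.testBit_or, Nat.testBit_xor, Nat.testBit_two_pow]
      rcases eq_or_ne i 21 with rfl | hi
      · simp [Nat.testBit_lt_two_pow hlt']
      · simp [Ne.symm hi]
    rw [e', K.val_xor, K.val_two_pow (by norm_num), K.cur_last] at hv
    rw [← K.val_list fun y hy => List.contains_iff_mem.1 (hpl y hy), Nat.eq_of_beq_eq_true hsum,
      eq_inv_of_mul_eq_one_left hv, K.z_inv]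
  interval_cases s <;> interval_cases t
  · exact (K.not_split (K.case_split ⟨rfl, rfl⟩ hr)).elim
  · exact key 1 (by norm_num) (hr _ (List.mem_append_right _ (List.mem_cons_of_mem _ List.mem_cons_self)))
  · exact key 0 (by norm_num) (hr _ (List.mem_append_right _ List.mem_cons_self))
  · exact key 0 (by norm_num) (hr _ (List.mem_append_right _ List.mem_cons_self))

end Cov

variable {G : Type*} [Group G] [Finite G] {d : G} {K : Cov ↥(CC d)} (H : Hyp d K)
include H

/-- Six members commuting with `y` have product `x`. -/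
theorem six_members {x y : G} (hx : x ∈ comp d) (hy : y ∈ perp (conjugatesOf d) x) :
    ∃ l : List G, l.length = 6 ∧ (∀ u ∈ l, u ∈ common (conjugatesOf d) x y) ∧ l.prod = x := by
  have F := framed H
  obtain ⟨g, rfl⟩ := isConj_iff.1 (show IsConj d x from comp_sub H hx)
  obtain ⟨l, hlen, hoff, hpl, hprod⟩ := K.six_rel
  have hopl : offHex ∈ plane := by
    have := offHex_ok
    simp only [Bool.and_eq_true] at this
    exact List.contains_iff_mem.1 this.1
  have hy' : g⁻¹ * y * g ∈ perp (conjugatesOf d) d := by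
    refine (perp_map_iff F.inv g).1 ?_
    simpa [mul_assoc] using hy
  obtain ⟨c, hc, ec⟩ := (mem_perp_iff H).1 hy'
  obtain ⟨g1, h1⟩ := exists_move (plane_pt hopl)
  obtain ⟨g2, h2⟩ := exists_move hc
  obtain ⟨k, hk⟩ := K.surj (g2 * g1⁻¹)
  have e : k * K.lift offHex * k⁻¹ = K.lift c := K.lift_conj (plane_pt hopl) hc (by
    rw [hk, ← h1, ← h2]; simp [mul_assoc])
  refine ⟨(l.map K.lift).map ((MulAut.conj (g * (k : G))).toMonoidHom.comp (CC d).subtype),
    by simp [hlen], fun u hu => ?_, ?_⟩
  · obtain ⟨_, hv', rfl⟩ := List.mem_map.1 hu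
    obtain ⟨v, hv, rfl⟩ := List.mem_map.1 hv'
    have hvp := plane_pt (hpl v hv)
    have hkd : Commute (k : G) d := Subgroup.mem_centralizer_singleton_iff.1 k.2
    have hv1 : ((K.lift v : ↥(CC d)) : G) ∈ perp (conjugatesOf d) d := (mem_perp_iff H).2 ⟨v, hvp, rfl⟩
    have hv2 : ((K.lift v : ↥(CC d)) : G) ∈ perp (conjugatesOf d) ((K.lift offHex : ↥(CC d)) : G) := by
      refine ⟨hv1.1, fun e => hoff ?_, ?_⟩
      · rwa [← K.lift_inj hvp (plane_pt hopl) (Subtype.ext e)]
      · exact ((K.lift_comm (plane_pt hopl) hvp).2 (plane_adj hopl (hpl v hv))).map (CC d).subtype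
    simp only [MonoidHom.comp_apply, Subgroup.subtype_apply, MulEquiv.coe_toMonoidHom, MulAut.conj_apply]
    refine ⟨?_, ?_⟩
    · have := perp_map F.inv (g * (k : G)) hv1
      rwa [show g * (k : G) * d * (g * (k : G))⁻¹ = g * ((k : G) * d * (k : G)⁻¹) * g⁻¹ by simp [mul_assoc],
        conj_self_eq hkd] at this
    · have := perp_map F.inv (g * (k : G)) hv2
      rwa [show g * (k : G) * (K.lift offHex : ↥(CC d)) * (g * (k : G))⁻¹ =
        g * ((k * K.lift offHex * k⁻¹ : ↥(CC d)) : G) * g⁻¹ by simp [mul_assoc], e, ec,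
        show g * (g⁻¹ * y * g) * g⁻¹ = y by simp [mul_assoc]] at this
  · rw [← map_list_prod, hprod]
    simp only [MonoidHom.comp_apply, Subgroup.subtype_apply, MulEquiv.coe_toMonoidHom, MulAut.conj_apply, H.hz]
    rw [show g * (k : G) * d * (g * (k : G))⁻¹ = g * ((k : G) * d * (k : G)⁻¹) * g⁻¹ by simp [mul_assoc],
      conj_self_eq (Subgroup.mem_centralizer_singleton_iff.1 k.2 : Commute (k : G) d)]

/-- What commutes with all of `perp x` is central in its centraliser. -/
theorem centre_at {x : G} (hx : x ∈ comp d) {n : G} (hn : Commute n x)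
    (h : ∀ u ∈ perp (conjugatesOf d) x, Commute n u) : n = 1 ∨ n = x := by
  obtain ⟨g, rfl⟩ := isConj_iff.1 (show IsConj d x from comp_sub H hx)
  have hm : g⁻¹ * n * g ∈ CC d := Subgroup.mem_centralizer_singleton_iff.2
    ((commute_conj_iff g _ _).1 (by simpa [mul_assoc] using hn)).eq
  have hle : CC d ≤ Subgroup.centralizer {g⁻¹ * n * g} := by
    rw [← closure_perp_base H, Subgroup.closure_le]
    intro u hu
    refine Subgroup.mem_centralizer_singleton_iff.2 ((commute_conj_iff g _ _).1 ?_).eq
    simpa [mul_assoc] using (h _ (perp_map (fun g => conjugates_inv g) g hu)).symm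
  have hz : (⟨_, hm⟩ : ↥(CC d)) ∈ K.π.ker := by
    rw [← center_CC H, Subgroup.mem_center_iff]
    exact fun u => Subtype.ext (Subgroup.mem_centralizer_singleton_iff.1 (hle u.2))
  rcases (K.kerEq _).1 hz with k | k
  · left
    have k' : g⁻¹ * n * g = 1 := congrArg Subtype.val k
    simpa [mul_assoc] using congrArg (fun u => g * u * g⁻¹) k'
  · right
    have k' : g⁻¹ * n * g = d := (congrArg Subtype.val k).trans H.hz
    simpa [mul_assoc] using congrArg (fun u => g * u * g⁻¹) k'

/-- A subgroup of the centraliser of a pair normalised by its common members and nearly of odd order is trivial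
modulo the pair. -/
theorem pair_core {x y : G} (hx : x ∈ comp d) (hy : y ∈ perp (conjugatesOf d) x) (T : Subgroup G)
    (hT : ∀ n ∈ T, Commute n x ∧ Commute n y)
    (hnorm : ∀ u ∈ common (conjugatesOf d) x y, ∀ n ∈ T, u * n * u⁻¹ ∈ T)
    (htwo : ∀ n ∈ T, ∀ k : ℕ, n ^ 2 ^ k = 1 → n = 1 ∨ n = x * y) :
    ∀ n ∈ T, n = 1 ∨ n = x * y := by
  classical
  have F := framed H
  have hxD := comp_sub H hx
  have hcore := pairCore_ok
  simp only [chkPairCore, Bool.and_eq_true, List.all_eq_true, Bool.or_eq_true, Bool.not_eq_true', List.any_eq_true] at hcore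
  obtain ⟨⟨⟨⟨⟨q1, q2⟩, a1⟩, a2⟩, hcom⟩, hapart⟩ := hcore
  obtain ⟨M₀⟩ := F.model x hxD
  obtain ⟨M, hMy⟩ := exists_point F.inv M₀ (fun z hz => F.sq hz) hy
  have hinvD : ∀ u ∈ conjugatesOf d, u⁻¹ = u := fun u hu => inv_eq_of_mul_eq_one_right (F.sq hu)
  -- the points beside the base normalise `T`
  have hnormP : ∀ c, isPt c = true → adj c b0 = true → ∀ n ∈ T, M.pt c * n * M.pt c ∈ T := by
    intro c hc hcb n hn
    by_cases e : c = b0
    · subst e
      rw [hMy, ← (hT n hn).2.eq, mul_assoc, F.sq hy.1, mul_one]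
      exact hn
    · have hu : M.pt c ∈ common (conjugatesOf d) x y := ⟨M.mem c hc, ⟨(M.mem c hc).1,
        fun k => e (M.inj c b0 hc Model.pt_b0 (k.trans hMy.symm)),
        hMy ▸ ((M.comm c b0 hc Model.pt_b0).2 hcb).symm⟩⟩
      have := hnorm _ hu n hn
      rwa [hinvD _ (M.mem c hc).1] at this
  have hxy : x * y ≠ 1 := fun k => hy.2.1 (by rw [← hinvD y hy.1]; exact (eq_inv_of_mul_eq_one_left k).symm)
  -- products of two distinct points beside the base
  have hcase : ∀ c c', isPt c = true → isPt c' = true → adj c b0 = true → adj c' b0 = true →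
      M.pt c * M.pt c' ∈ T → c' = c := by
    intro c c' hc hc' hcb hcb' hmem
    by_cases hadj : adj c c' = true
    · have hcm := (M.comm c c' hc hc').2 hadj
      have hsq : (M.pt c * M.pt c') ^ 2 ^ 1 = 1 := by
        rw [pow_one, hcm.mul_pow, pow_two, pow_two, F.sq (M.mem c hc).1, F.sq (M.mem c' hc').1, one_mul]
      rcases htwo _ hmem 1 hsq with k | k
      · refine M.inj _ _ hc' hc ?_
        rw [← hinvD _ (M.mem c hc).1]
        exact eq_inv_of_mul_eq_one_right k
      · exfalso
        -- the product would exchange two points apart from the base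
        by_cases e : c = b0
        · subst e
          rw [hMy] at k
          have : M.pt c' = x := by
            have := congrArg (y * ·) k
            simp only [← mul_assoc, F.sq hy.1, one_mul] at this
            rw [this, ← hy.2.2.eq, mul_assoc, F.sq hy.1, mul_one]
          exact (M.mem c' hc').2.1 this
        have hu : M.pt c ∈ common (conjugatesOf d) x y := ⟨M.mem c hc, ⟨(M.mem c hc).1,
          fun k => e (M.inj c b0 hc Model.pt_b0 (k.trans hMy.symm)),
          hMy ▸ ((M.comm c b0 hc Model.pt_b0).2 hcb).symm⟩⟩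
        have C := ctx H
        have hxy' : (⟨y, comp_le (comp_perp hx hy)⟩ : ↥(G0 d)) ∈ cls0 d := comp_perp hx hy
        refine M22.triple_ne_member C (j := ⟨M.pt c', comp_le (comp_perp hx (M.mem c' hc'))⟩)
          (l := [⟨x, comp_le hx⟩, ⟨y, comp_le (comp_perp hx hy)⟩, ⟨M.pt c, comp_le (comp_perp hx (M.mem c hc))⟩])
          ⟨?_, rfl, ?_, ?_, ?_⟩ (comp_perp hx (M.mem c' hc'))
        · simp only [List.nodup_cons, List.mem_cons, List.not_mem_nil, or_false, not_or, List.nodup_nil,
            not_false_eq_true, and_true, Subtype.mk.injEq]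
          exact ⟨⟨Ne.symm hy.2.1, Ne.symm hu.1.2.1⟩, Ne.symm hu.2.2.1⟩
        · simp only [List.mem_cons, List.not_mem_nil, or_false]
          rintro v (rfl | rfl | rfl)
          exacts [hx, hxy', comp_perp hx (M.mem c hc)]
        · simp only [List.mem_cons, List.not_mem_nil, or_false]
          rintro v (rfl | rfl | rfl) w (rfl | rfl | rfl)
          exacts [Commute.refl _, Subtype.ext hy.2.2.eq, Subtype.ext hu.1.2.2.eq, Subtype.ext hy.2.2.symm.eq,
            Commute.refl _, Subtype.ext hu.2.2.2.eq, Subtype.ext hu.1.2.2.symm.eq, Subtype.ext hu.2.2.2.symm.eq,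
            Commute.refl _]
        · refine Subtype.ext ?_
          simp only [List.prod_cons, List.prod_nil, mul_one, Subgroup.coe_mul]
          have h3 : Commute (x * y) (M.pt c) := hu.1.2.2.mul_left hu.2.2.2
          rw [← mul_assoc, h3.eq, ← k, ← mul_assoc, F.sq (M.mem c hc).1, one_mul]
    · exfalso
      obtain ⟨N, hN1, hN2⟩ : ∃ N : Model (conjugatesOf d) x, N.pt b0 = y ∧ N.pt b1 = M.pt c := by
        have ht := tr1_ok
        simp only [chkTr, Bool.and_eq_true, List.all_eq_true, List.any_eq_true] at ht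
        by_cases e : c = b0
        · subst e
          exact absurd (adj_comm c' b0 ▸ hcb') hadj
        obtain ⟨t, ht', htc⟩ := ht.2 c (List.mem_filter.2 ⟨mem_ptList.2 hc, by
          rw [adj_comm, hcb]
          simp only [Bool.true_and, Bool.not_eq_true', ← Bool.not_eq_true]
          exact fun k => e (Nat.eq_of_beq_eq_true k)⟩)
        obtain ⟨hf, hact⟩ := ht.1 t ht'
        have hf' := hf
        simp only [fixes, List.all_eq_true, Bool.and_eq_true] at hf'
        obtain ⟨g, hg, hgx⟩ := word_fix F.inv M (fun z hz => F.sq hz) t.2 fun p hp => (hf' p hp).1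
        have ha : g * x * g⁻¹ = x := conj_self_eq hg
        have ept : ∀ {b : G} (h : g * x * g⁻¹ = b), (h ▸ conjTo F.inv M g).pt = fun c => g * M.pt c * g⁻¹ := by
          intro b h; subst h; rfl
        refine ⟨ha ▸ conjTo F.inv M g, ?_, ?_⟩
        · rw [ept ha]
          show g * M.pt b0 * g⁻¹ = y
          rw [(hgx b0 Model.pt_b0).2, Model.act_fix hf List.mem_cons_self, hMy]
        · rw [ept ha]
          show g * M.pt b1 * g⁻¹ = M.pt c
          rw [(hgx b1 Model.pt_b1).2, Nat.eq_of_beq_eq_true hact, Nat.eq_of_beq_eq_true htc]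
      obtain ⟨c'', hc'', ec''⟩ := N.surj _ (M.mem c' hc')
      have h1 : adj c'' b0 = true := by
        rw [← N.comm _ _ hc'' Model.pt_b0, ec'', hN1, ← hMy, M.comm _ _ hc' Model.pt_b0]; exact hcb'
      have h2 : adj c'' b1 = false := by
        rw [Bool.eq_false_iff, Ne, ← N.comm _ _ hc'' Model.pt_b1, ec'', hN2, M.comm _ _ hc' hc, adj_comm]
        exact hadj
      obtain ⟨hsep, p, hp, hpb, hpmove⟩ := ((hcom c'' (mem_ptList.2 hc'')).resolve_left fun k =>
        k.elim (fun k => Bool.false_ne_true (k.symm.trans h1)) fun k => Bool.false_ne_true (h2.symm.trans k))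
      obtain ⟨τ, hτ⟩ : ∃ τ, τ = N.pt b1 * N.pt c'' := ⟨_, rfl⟩
      have hτT : τ ∈ T := by rw [hτ, hN2, ec'']; exact hmem
      obtain ⟨g, hgdef⟩ : ∃ g, g = N.pt 1596 * N.pt 3879 := ⟨_, rfl⟩
      have hnormN : ∀ c, isPt c = true → adj c b0 = true → ∀ n ∈ T, N.pt c * n * N.pt c ∈ T := by
        intro e he heb n hn
        obtain ⟨e', he', ee⟩ := M.surj _ (N.mem e he)
        rw [← ee]
        refine hnormP e' he' ?_ n hn
        rw [← M.comm _ _ he' Model.pt_b0, ee, hMy, ← hN1, N.comm _ _ he Model.pt_b0]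
        exact heb
      have hu : g * τ * g⁻¹ * τ⁻¹ ∈ T := by
        refine mul_mem ?_ (inv_mem hτT)
        rw [hgdef, mul_inv_rev, hinvD _ (N.mem _ q1).1, hinvD _ (N.mem _ q2).1]
        have := hnormN _ q2 a2 _ (hnormN _ q1 a1 τ hτT)
        simpa [mul_assoc] using this
      -- its action on the points
      have step : ∀ (h : G) (w : List ℕ), (∀ s, isPt s = true → isPt (act w s) = true ∧ h * N.pt s * h⁻¹ = N.pt (act w s)) →
          ∀ e, isPt e = true → ∀ s, isPt s = true →
            isPt (act (w ++ [e]) s) = true ∧ (N.pt e * h) * N.pt s * (N.pt e * h)⁻¹ = N.pt (act (w ++ [e]) s) := by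
        intro h w hw e he s hs
        obtain ⟨h1, h2⟩ := hw s hs
        obtain ⟨h3, h4⟩ := N.conj e _ he h1
        have ea : act (w ++ [e]) s = refl e (act w s) := by simp [act, List.foldl_append]
        refine ⟨ea ▸ h3, ?_⟩
        rw [ea, ← h4, ← h2, mul_inv_rev, hinvD _ (N.mem e he).1]
        simp [mul_assoc]
      have hw0 : ∀ s, isPt s = true → isPt (act [] s) = true ∧ (1 : G) * N.pt s * (1 : G)⁻¹ = N.pt (act [] s) :=
        fun s hs => ⟨hs, by simp [act]⟩
      have hwu : ∀ s, isPt s = true → isPt (act (comWord c'') s) = true ∧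
          (g * τ * g⁻¹ * τ⁻¹) * N.pt s * (g * τ * g⁻¹ * τ⁻¹)⁻¹ = N.pt (act (comWord c'') s) := by
        have e : g * τ * g⁻¹ * τ⁻¹ = N.pt 1596 * (N.pt 3879 * (N.pt b1 * (N.pt c'' * (N.pt 3879 *
            (N.pt 1596 * (N.pt c'' * (N.pt b1 * 1))))))) := by
          rw [hgdef, hτ, mul_inv_rev, mul_inv_rev, hinvD _ (N.mem _ q1).1, hinvD _ (N.mem _ q2).1,
            hinvD _ (N.mem _ Model.pt_b1).1, hinvD _ (N.mem _ hc'').1]
          simp only [mul_assoc, mul_one]
        rw [e]
        exact step _ _ (step _ _ (step _ _ (step _ _ (step _ _ (step _ _ (step _ _ (step _ _ hw0 b1 Model.pt_b1)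
          c'' hc'') 1596 q2) 3879 q1) c'' hc'') b1 Model.pt_b1) 3879 q1) 1596 q2
      obtain ⟨u, hudef⟩ : ∃ u, u = g * τ * g⁻¹ * τ⁻¹ := ⟨_, rfl⟩
      rw [← hudef] at hwu hu
      have h4u : ∀ s, isPt s = true → u ^ 4 * N.pt s * (u ^ 4)⁻¹ =
          N.pt (act (comWord c'' ++ comWord c'' ++ comWord c'' ++ comWord c'') s) ∧
            isPt (act (comWord c'' ++ comWord c'' ++ comWord c'' ++ comWord c'') s) = true := by
        intro s hs
        obtain ⟨r1, t1⟩ := hwu s hs
        obtain ⟨r2, t2⟩ := hwu _ r1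
        obtain ⟨r3, t3⟩ := hwu _ r2
        obtain ⟨r4, t4⟩ := hwu _ r3
        have ea : ∀ v w : List ℕ, act (v ++ w) s = act w (act v s) := fun v w => by simp [act, List.foldl_append]
        rw [ea, ea, ea]
        refine ⟨?_, r4⟩
        rw [← t4, ← t3, ← t2, ← t1]
        simp [pow_succ, mul_assoc]
      have hfixall : ∀ v ∈ perp (conjugatesOf d) x, Commute (u ^ 4) v := by
        intro v hv
        obtain ⟨s, hs, rfl⟩ := N.surj v hv
        obtain ⟨e, he⟩ := h4u s hs
        refine mul_inv_eq_iff_eq_mul.1 ?_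
        rw [e]
        congr 1
        refine sig_inj he hs ?_
        have key : ∀ r ∈ sepPts, adj r (act (comWord c'' ++ comWord c'' ++ comWord c'' ++ comWord c'') s) = adj r s := by
          intro r hr
          have er := (h4u r (sep_pt hr)).1
          rw [Nat.eq_of_beq_eq_true (hsep r hr)] at er
          have k := commute_conj_iff (u ^ 4) (N.pt r) (N.pt s)
          rw [er, e, N.comm _ _ (sep_pt hr) he, N.comm _ _ (sep_pt hr) hs] at k
          exact Bool.eq_iff_iff.2 k
        rw [sig, sig, U6Code.key, U6Code.key]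
        exact List.foldl_ext _ _ 0 fun k s hs => by rw [key s hs]
      have hux : Commute u x := (hT u hu).1
      have h8 : u ^ 4 * u ^ 4 = 1 := by
        rcases centre_at H hx (hux.pow_left 4) hfixall with k | k <;> rw [k]
        exacts [one_mul 1, F.sq hxD]
      obtain ⟨k1, k2⟩ := hwu p (mem_ptList.1 hp)
      have hpfix : Nat.beq (act (comWord c'') p) p = true := by
        have e1 : u * N.pt p * u⁻¹ = N.pt p := by
          rcases htwo u hu 3 (by rw [show (2 : ℕ) ^ 3 = 4 + 4 by norm_num, pow_add, h8]) with e | e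
          · rw [e]; simp
          · rw [e]
            have h5 : Commute (x * y) (N.pt p) := ((N.mem p (mem_ptList.1 hp)).2.2).mul_left
              (hN1 ▸ ((N.comm _ _ (mem_ptList.1 hp) Model.pt_b0).2 hpb).symm)
            exact conj_self_eq h5
        rw [N.inj _ _ k1 (mem_ptList.1 hp) (k2.symm.trans e1)]
        exact Nat.beq_refl p
      rw [hpfix] at hpmove
      exact Bool.noConfusion hpmove
  -- members of `T` fix the points beside the base
  have hfix : ∀ n ∈ T, ∀ c, isPt c = true → adj c b0 = true → n * M.pt c * n⁻¹ = M.pt c := by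
    intro n hn c hc hcb
    have hn' := hT n hn
    have h1 : n * M.pt c * n⁻¹ ∈ perp (conjugatesOf d) x := by
      have := perp_map F.inv n (M.mem c hc)
      rwa [conj_self_eq hn'.1] at this
    obtain ⟨c', hc', ec⟩ := M.surj _ h1
    have hcb' : adj c' b0 = true := by
      rw [← M.comm _ _ hc' Model.pt_b0, ec, hMy, ← conj_self_eq hn'.2, commute_conj_iff, ← hMy,
        M.comm _ _ hc Model.pt_b0]
      exact hcb
    have hmem : M.pt c * M.pt c' ∈ T := by
      rw [ec, ← mul_assoc, ← mul_assoc]
      exact mul_mem (hnormP c hc hcb n hn) (inv_mem hn)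
    rw [← ec, hcase c c' hc hc' hcb hcb' hmem]
  -- hence their squares fix all points
  intro n hn
  have hn' := hT n hn
  refine htwo n hn 2 ?_
  have hsq : ∀ v ∈ perp (conjugatesOf d) x, Commute (n * n) v := by
    intro v hv
    by_cases hvy : Commute y v
    · obtain ⟨c, hc, rfl⟩ := M.surj v hv
      have e := hfix n hn c hc ((M.comm c b0 hc Model.pt_b0).1 (hMy ▸ hvy.symm))
      have k : Commute n (M.pt c) := mul_inv_eq_iff_eq_mul.1 e
      exact k.mul_left k
    obtain ⟨N, hN1, hN2⟩ := exists_apart_pair F.inv M (fun z hz => F.sq hz) hy hv hvy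
    have img : ∀ w ∈ perp (conjugatesOf d) x, ¬ Commute y w → (∀ c ∈ wList, Commute (N.pt c) w) →
        w = N.pt c0 ∨ w = N.pt (refl b0 c0) := by
      intro w hw hwy hwW
      obtain ⟨a, ha, rfl⟩ := N.surj w hw
      rcases hapart a (mem_ptList.2 ha) with ((k | ⟨e, he, k⟩) | k) | k
      · exact absurd (hN1 ▸ ((N.comm a b0 ha Model.pt_b0).2 k).symm) hwy
      · rw [(N.comm a e ha (mem_ptList.1 (List.mem_filter.1 he).1)).1 (hwW e he).symm] at k
        exact Bool.noConfusion k
      · exact Or.inl (by rw [Nat.eq_of_beq_eq_true k])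
      · exact Or.inr (by rw [Nat.eq_of_beq_eq_true k])
    have hWn : ∀ c ∈ wList, n * N.pt c * n⁻¹ = N.pt c := by
      intro c hc
      simp only [wList, List.mem_filter, Bool.and_eq_true] at hc
      have hcp := mem_ptList.1 hc.1
      obtain ⟨c', hc', e⟩ := M.surj _ (N.mem c hcp)
      rw [← e]
      refine hfix n hn c' hc' ?_
      rw [← M.comm _ _ hc' Model.pt_b0, e, hMy, ← hN1, N.comm _ _ hcp Model.pt_b0, adj_comm]
      exact hc.2.1
    have move : ∀ w ∈ perp (conjugatesOf d) x, ¬ Commute y w → (∀ c ∈ wList, Commute (N.pt c) w) →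
        n * w * n⁻¹ = N.pt c0 ∨ n * w * n⁻¹ = N.pt (refl b0 c0) := by
      intro w hw hwy hwW
      refine img _ ?_ (fun k => hwy ?_) fun c hc => ?_
      · have := perp_map F.inv n hw
        rwa [conj_self_eq hn'.1] at this
      · rwa [← conj_self_eq hn'.2, commute_conj_iff] at k
      · rw [← hWn c hc, commute_conj_iff]
        exact hwW c hc
    have hvW : ∀ c ∈ wList, Commute (N.pt c) v := by
      intro c hc
      simp only [wList, List.mem_filter, Bool.and_eq_true] at hc
      rw [← hN2, N.comm _ _ (mem_ptList.1 hc.1) Model.pt_c0, adj_comm]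
      exact hc.2.2
    refine mul_inv_eq_iff_eq_mul.1 ?_
    rw [show n * n * v * (n * n)⁻¹ = n * (n * v * n⁻¹) * n⁻¹ by simp [mul_assoc]]
    rcases move v hv hvy hvW with k | k
    · rw [k, hN2]
      exact k.trans hN2
    · rw [k]
      have hp := (N.conj b0 c0 Model.pt_b0 Model.pt_c0)
      have e2 : N.pt b0 * v * (N.pt b0)⁻¹ = N.pt (refl b0 c0) := by
        rw [← hp.2, hN2, hinvD _ (N.mem _ Model.pt_b0).1]
      have nc : ¬ Commute y (N.pt (refl b0 c0)) := fun k' => hvy (by
        rw [← e2, ← hN1] at k'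
        rw [← hN1]
        refine (commute_conj_iff (N.pt b0) _ _).1 ?_
        simpa using k')
      have wc : ∀ c ∈ wList, Commute (N.pt c) (N.pt (refl b0 c0)) := fun c hc => by
        have hc' := hc
        simp only [wList, List.mem_filter, Bool.and_eq_true] at hc
        have hcp := mem_ptList.1 hc.1
        have hb : Commute (N.pt b0) (N.pt c) := (N.comm _ _ Model.pt_b0 hcp).2 hc.2.1
        rw [← e2, ← conj_self_eq hb, commute_conj_iff]
        exact hvW c hc'
      rcases move _ (N.mem _ hp.1) nc wc with k2 | k2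
      · rw [k2, hN2]
      · exfalso
        have := mul_left_cancel (mul_right_cancel (k.trans k2.symm))
        rw [← hN2] at this
        exact absurd (N.inj _ _ Model.pt_c0 hp.1 this) (by decide +kernel)
  have h4n : n * n = 1 ∨ n * n = x := centre_at H hx (hn'.1.mul_left hn'.1) hsq
  rw [show (2 : ℕ) ^ 2 = 2 + 2 by norm_num, pow_add, pow_two]
  rcases h4n with k | k <;> rw [k]
  exacts [one_mul 1, F.sq hxD]

end Cfsg.Agent.Block.FischerTypes.M22Recog
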