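import Cfsg.Agent.Lib.Block.FischerTypes.M22Recog.Lifts
import Cfsg.Agent.Lib.Block.FischerTypes.M22Recog.Bits
import Cfsg.Agent.Lib.Block.FischerTypes.M22Recog.CaseChecks

/-! The elementary group of order `2^10` above a plane, its coordinates, and the action of the
stabiliser of the plane on the coordinates. -/

set_option autoImplicit false
set_option linter.style.haveILetI false
set_option linter.unusedSectionVars false

namespace Cfsg.Agent.Block.FischerTypes.M22Recog

open Cfsg U6Code Cfsg.Agent.Spor.USixTwo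

/-- The point at a place. -/
abbrev pp (i : ℕ) : ℕ := plane.getD i 0

theorem plane_len : plane.length = 21 := by decide +kernel

theorem free_len : freeIdx.length = 9 := by decide +kernel

theorem pp_mem {i : ℕ} (hi : i < 21) : pp i ∈ plane := by
  rw [pp, List.getD_eq_getElem _ _ (by rw [plane_len]; exact hi)]
  exact List.getElem_mem _

theorem plane_pt {x : ℕ} (hx : x ∈ plane) : isPt x = true := by
  have h := plane_ok
  simp only [Bool.and_eq_true, List.all_eq_true] at h
  exact h.1.1.1.1.1.1.1.2 x hx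

theorem plane_adj {x y : ℕ} (hx : x ∈ plane) (hy : y ∈ plane) : adj x y = true := by
  have h := plane_ok
  simp only [Bool.and_eq_true, List.all_eq_true] at h
  exact h.1.1.1.1.1.2 x hx y hy

/-- A point orthogonal to the plane is in it. -/
theorem plane_max {z : ℕ} (hz : isPt z = true) (h : ∀ x ∈ plane, adj z x = true) : z ∈ plane := by
  have h0 := plane_ok
  simp only [Bool.and_eq_true, List.all_eq_true, Bool.or_eq_true, List.any_eq_true] at h0
  rcases h0.2 z (mem_ptList.2 hz) with k | ⟨x, hx, k⟩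
  · exact List.contains_iff_mem.1 k
  · rw [h x hx] at k; exact absurd k (by decide)

theorem plane_nodup : plane.Nodup := by decide +kernel

theorem placeOf_lt {x : ℕ} (hx : x ∈ plane) : placeOf x < 21 := plane_len ▸ List.idxOf_lt_length_of_mem hx

theorem pp_placeOf {x : ℕ} (hx : x ∈ plane) : pp (placeOf x) = x := by
  rw [pp, placeOf, List.getD_eq_getElem _ _ (List.idxOf_lt_length_of_mem hx)]
  exact List.getElem_idxOf _

theorem pp_inj {i j : ℕ} (hi : i < 21) (hj : j < 21) (h : pp i = pp j) : i = j := by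
  rw [pp, pp, List.getD_eq_getElem _ _ (by rw [plane_len]; exact hi),
    List.getD_eq_getElem _ _ (by rw [plane_len]; exact hj)] at h
  exact (plane_nodup.getElem_inj_iff).1 h

theorem bitPlace_nine : bitPlace 9 = 21 := by decide +kernel

theorem bitPlace_lt {k : ℕ} : k < 9 → bitPlace k = freeIdx.getD k 0 ∧ freeIdx.getD k 0 < 21 := by
  revert k
  decide +kernel

theorem lin_xor : ∀ (vs : List ℕ) (a b : ℕ), lin vs (a ^^^ b) = lin vs a ^^^ lin vs b
  | [], a, b => by simp [lin, Nat.shiftLeft_xor_distrib]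
  | v :: vs, a, b => by
    simp only [lin, Nat.shiftRight_xor_distrib, lin_xor vs, Nat.testBit_xor]
    cases a.testBit 0 <;> cases b.testBit 0 <;> simp [Nat.xor_comm, Nat.xor_left_comm, Nat.xor_assoc]

theorem lin_two_pow : ∀ (vs : List ℕ) (k : ℕ), k ≤ vs.length →
    lin vs (2 ^ k) = if k < vs.length then vs.getD k 0 else 512
  | [], k, hk => by
    obtain rfl : k = 0 := by simpa using hk
    rfl
  | v :: vs, 0, _ => by
    have hz : ∀ l : List ℕ, lin l 0 = 0 := fun l => by
      have := lin_xor l 0 0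
      rw [Nat.xor_self, Nat.xor_self] at this
      exact this
    simp [lin, hz]
  | v :: vs, k + 1, hk => by
    have h0 : (2 ^ (k + 1)).testBit 0 = false := by simp [Nat.testBit_two_pow]
    simp only [lin, h0, cond_false, Nat.zero_xor]
    rw [show (2 ^ (k + 1)) >>> 1 = 2 ^ k by rw [Nat.shiftRight_eq_div_pow, pow_succ]; simp,
      lin_two_pow vs k (by simpa using hk)]
    simp

theorem wordP_qWord (m : ℕ) : (∀ p ∈ qWord m, p ∈ plane) := by
  intro p hp
  simp only [qWord, List.mem_map, List.mem_filter, List.mem_range] at hp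
  obtain ⟨k, ⟨hk, -⟩, rfl⟩ := hp
  exact pp_mem (bitPlace_lt hk).2

namespace Cov

variable {C : Type*} [Group C] [Finite C] (K : Cov C)

/-- The lift at a place, the central involution at the last. -/
noncomputable def cur (i : ℕ) : C := if i = 21 then K.z else K.lift (pp i)

theorem cur_last : K.cur 21 = K.z := if_pos rfl

theorem cur_lt {i : ℕ} (hi : i < 21) : K.cur i = K.lift (pp i) := if_neg (by omega)

theorem cur_placeOf {x : ℕ} (hx : x ∈ plane) : K.cur (placeOf x) = K.lift x := by
  rw [K.cur_lt (placeOf_lt hx), pp_placeOf hx]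

theorem elem : Elem 22 K.cur := by
  have h : ∀ i, i < 22 → i = 21 ∨ i < 21 := fun i hi => by omega
  intro i hi
  rcases h i hi with rfl | ki
  · rw [K.cur_last]
    exact ⟨K.sq, fun j _ => K.central _⟩
  · rw [K.cur_lt ki]
    refine ⟨K.lift_sq (plane_pt (pp_mem ki)), fun j hj => ?_⟩
    rcases h j hj with rfl | kj
    · rw [K.cur_last]; exact (K.central _).symm
    · rw [K.cur_lt kj]
      exact (K.lift_comm (plane_pt (pp_mem ki)) (plane_pt (pp_mem kj))).2 (plane_adj (pp_mem ki) (pp_mem kj))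

/-- The product at a set of places. -/
noncomputable def val (m : ℕ) : C := bval K.cur 22 m

theorem val_xor (a b : ℕ) : K.val (a ^^^ b) = K.val a * K.val b := bval_xor K.elem a b

theorem val_two_pow {i : ℕ} (hi : i < 22) : K.val (2 ^ i) = K.cur i := bval_two_pow hi

theorem val_fold {α : Type*} (f : α → ℕ) (l : List α) :
    K.val (l.foldl (fun r k => r ^^^ f k) 0) = (l.map fun k => K.val (f k)).prod := by
  rw [val, bval_fold K.elem, bval_zero, one_mul]
  rfl

theorem val_list {l : List ℕ} (hl : ∀ y ∈ l, y ∈ plane) :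
    K.val (xsum (l.map fun y => 2 ^ placeOf y)) = (l.map K.lift).prod := by
  rw [xsum, K.val_fold, List.map_map]
  congr 1
  refine List.map_congr_left fun y hy => ?_
  show K.val (2 ^ placeOf y) = _
  rw [K.val_two_pow (Nat.lt_succ_of_lt (placeOf_lt (hl y hy))), K.cur_placeOf (hl y hy)]

theorem line_rel : ∀ l ∈ lineData, K.val (l.1 ||| 2 ^ 21) = 1 := by
  have hlt : ∀ l ∈ lineData, l.1 < 2 ^ 21 := by decide +kernel
  intro l hl
  have h := line_ok
  simp only [Bool.and_eq_true, List.all_eq_true] at h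
  obtain ⟨⟨⟨⟨⟨hpt, -⟩, -⟩, -⟩, -⟩, hlines⟩ := h
  obtain ⟨hw, ⟨hpl, hsum⟩, -⟩ := hlines l hl
  have e : l.1 ||| 2 ^ 21 = l.1 ^^^ 2 ^ 21 := by
    refine Nat.eq_of_testBit_eq fun i => ?_
    rw [Nat.testBit_or, Nat.testBit_xor, Nat.testBit_two_pow]
    rcases eq_or_ne i 21 with rfl | hi
    · simp [Nat.testBit_lt_two_pow (hlt l hl)]
    · simp [Ne.symm hi]
  rw [e, K.val_xor, ← Nat.eq_of_beq_eq_true hsum,
    K.val_list fun y hy => List.contains_iff_mem.1 (hpl y hy), K.val_two_pow (by norm_num), K.cur_last]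
  obtain ⟨g, hg⟩ := K.surj (wordP l.2)
  have : ((baseLine.map (act l.2)).map K.lift) = (baseLine.map K.lift).map (MulAut.conj g) := by
    rw [List.map_map, List.map_map]
    refine List.map_congr_left fun c hc => ?_
    obtain ⟨h1, h2⟩ := act_pt l.2 hw c (hpt c hc)
    rw [Function.comp_apply, Function.comp_apply, MulAut.conj_apply, K.lift_conj (hpt c hc) h1 (hg ▸ h2)]
  rw [this, ← map_list_prod, K.base_line, MulAut.conj_apply, ← (K.central g).eq]
  simp [mul_assoc, K.sq]

theorem hex_rel : ∀ j < 2, ∃ s, s < 2 ∧ K.val ((hexData.getD j (0, [])).1 ||| s <<< 21) = 1 := by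
  have hlt : ∀ j < 2, (hexData.getD j (0, [])).1 < 2 ^ 21 := by decide +kernel
  intro j hj
  have hm : hexData.getD j (0, []) ∈ hexData := by
    rw [List.getD_eq_getElem _ _ (by have : hexData.length = 2 := by decide +kernel
                                     omega)]
    exact List.getElem_mem _
  have h := hex_ok
  simp only [Bool.and_eq_true, List.all_eq_true] at h
  obtain ⟨⟨⟨⟨hpl, -⟩, hsum⟩, -⟩, hfix⟩ := h.2 _ hm
  obtain ⟨hd, hhd⟩ : ∃ hd, hd = hexData.getD j (0, []) := ⟨_, rfl⟩
  rw [← hhd] at hpl hsum hfix ⊢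
  have hpl' : ∀ y ∈ hd.2, y ∈ plane := fun y hy => List.contains_iff_mem.1 (hpl y hy)
  have hpt : ∀ y ∈ hd.2, isPt y = true := fun y hy => plane_pt (hpl' y hy)
  have hv := K.val_list hpl'
  rw [Nat.eq_of_beq_eq_true hsum] at hv
  have hone : K.π (K.val hd.1) = 1 := by
    have h1 : wordP hd.2 = 1 := eq_one_of_fix fun s hs => by
      rw [(act_pt hd.2 hpt s (sep_pt hs)).2, Nat.eq_of_beq_eq_true (hfix s (mem_ptList.2 (sep_pt hs)))]
    have h2 : ∀ x ∈ hd.2.map rho, x⁻¹ = x := fun x hx => by
      obtain ⟨c, hc, rfl⟩ := List.mem_map.1 hx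
      exact rho_inv (hpt c hc)
    rw [wordP, List.map_reverse] at h1
    have h5 := List.prod_inv_reverse (hd.2.map rho)
    rw [List.map_congr_left h2, List.map_id', h1, inv_eq_one] at h5
    rw [hv, map_list_prod, List.map_map]
    exact (congrArg List.prod (List.map_congr_left fun y hy => K.π_lift (hpt y hy))).trans h5
  rcases (K.kerEq _).1 hone with e | e
  · exact ⟨0, by norm_num, by simpa using e⟩
  · refine ⟨1, by norm_num, ?_⟩
    have e' : hd.1 ||| 1 <<< 21 = hd.1 ^^^ 2 ^ 21 := by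
      refine Nat.eq_of_testBit_eq fun i => ?_
      rw [Nat.shiftLeft_eq, one_mul, Nat.testBit_or, Nat.testBit_xor, Nat.testBit_two_pow]
      rcases eq_or_ne i 21 with rfl | hi
      · simp [Nat.testBit_lt_two_pow (hhd ▸ hlt j hj)]
      · simp [Ne.symm hi]
    rw [e', K.val_xor, e, K.val_two_pow (by norm_num), K.cur_last, K.sq]

theorem signs : ∃ s t, s < 2 ∧ t < 2 ∧ ∀ r ∈ rels s t, K.val r = 1 := by
  obtain ⟨s, hs, h0⟩ := K.hex_rel 0 (by norm_num)
  obtain ⟨t, ht, h1⟩ := K.hex_rel 1 (by norm_num)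
  refine ⟨s, t, hs, ht, fun r hr => ?_⟩
  simp only [rels, List.mem_append, List.mem_map, List.mem_cons, List.not_mem_nil, or_false] at hr
  rcases hr with ⟨l, hl, rfl⟩ | rfl | rfl
  exacts [K.line_rel l hl, h0, h1]

/-- The element with a code. -/
noncomputable def ev (e : ℕ) : C := bval (fun k => K.cur (bitPlace k)) 10 e

theorem ev_elem : Elem 10 fun k => K.cur (bitPlace k) := by
  have h : ∀ k < 10, bitPlace k < 22 := by decide +kernel
  intro k hk
  exact ⟨(K.elem _ (h k hk)).1, fun j hj => (K.elem _ (h k hk)).2 _ (h j hj)⟩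

theorem ev_xor (a b : ℕ) : K.ev (a ^^^ b) = K.ev a * K.ev b := bval_xor K.ev_elem a b

theorem ev_zero : K.ev 0 = 1 := bval_zero _ _

theorem ev_self (a : ℕ) : K.ev a * K.ev a = 1 := bval_self K.ev_elem a

theorem ev_comm (a b : ℕ) : Commute (K.ev a) (K.ev b) := bval_comm K.ev_elem a b

theorem ev_two_pow {k : ℕ} (hk : k < 10) : K.ev (2 ^ k) = K.cur (bitPlace k) := bval_two_pow hk

theorem ev_z : K.ev 512 = K.z := by
  rw [show (512 : ℕ) = 2 ^ 9 by norm_num, K.ev_two_pow (by norm_num), bitPlace_nine, K.cur_last]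

theorem val_expand (e : ℕ) : K.val (expand e) = K.ev e := by
  rw [expand, val, bval_fold_cond K.elem, ev, bval_eq_prod _ 10 e]
  congr 1
  refine List.map_congr_left fun k hk => ?_
  have h : ∀ k < 10, bitPlace k < 22 := by decide +kernel
  rw [bval_two_pow (h k (List.mem_range.1 hk))]

/-- The plane group. -/
noncomputable def eSub : Subgroup C where
  carrier := {x | ∃ e < 1024, K.ev e = x}
  one_mem' := ⟨0, by norm_num, K.ev_zero⟩
  mul_mem' := by
    rintro _ _ ⟨a, ha, rfl⟩ ⟨b, hb, rfl⟩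
    exact ⟨a ^^^ b, Nat.xor_lt_two_pow (n := 10) ha hb, K.ev_xor a b⟩
  inv_mem' := by
    rintro _ ⟨a, ha, rfl⟩
    exact ⟨a, ha, (inv_eq_of_mul_eq_one_right (K.ev_self a)).symm⟩

theorem wordP_q (m : ℕ) : K.π (bval (fun k => K.cur (bitPlace k)) 9 m) = wordP (qWord m) := by
  have hmap : ∀ l : List ℕ, (∀ k ∈ l, k < 9) →
      K.π (l.map fun k => cond (m.testBit k) (K.cur (bitPlace k)) 1).prod =
        (((l.filter fun k => m.testBit k).map fun k => plane.getD (freeIdx.getD k 0) 0).map rho).prod := by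
    intro l
    induction l with
    | nil => simp
    | cons k l ih =>
      intro hl
      rw [List.map_cons, List.prod_cons, map_mul, ih fun j hj => hl j (List.mem_cons_of_mem _ hj)]
      cases hb : m.testBit k
      · rw [cond_false, map_one, one_mul, List.filter_cons_of_neg (by simp [hb])]
      · obtain ⟨h1, h2⟩ := bitPlace_lt (hl k List.mem_cons_self)
        rw [cond_true, List.filter_cons_of_pos (by simp [hb]), List.map_cons, List.map_cons, List.prod_cons, h1,
          K.cur_lt h2, K.π_lift (plane_pt (pp_mem h2))]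
  have e := hmap (List.range 9) fun k hk => List.mem_range.1 hk
  rw [← bval_eq_prod] at e
  change _ = ((qWord m).map rho).prod at e
  rw [e, wordP, List.map_reverse]
  obtain ⟨L, hL⟩ : ∃ L, L = (qWord m).map rho := ⟨_, rfl⟩
  rw [← hL] at e ⊢
  have hL' : ∀ x ∈ L, x⁻¹ = x := fun x hx => by
    rw [hL] at hx
    obtain ⟨c, hc, rfl⟩ := List.mem_map.1 hx
    exact rho_inv (plane_pt (wordP_qWord m c hc))
  have h5 := List.prod_inv_reverse L
  rw [List.map_congr_left hL', List.map_id'] at h5
  rw [← h5, eq_inv_iff_mul_eq_one, ← e, ← map_mul]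
  have h9 : Elem 9 fun k => K.cur (bitPlace k) :=
    fun i hi => ⟨(K.ev_elem i (by omega)).1, fun j hj => (K.ev_elem i (by omega)).2 j (by omega)⟩
  rw [bval_self h9, map_one]

theorem π_ev_low (e : ℕ) : K.π (K.ev e) = wordP (qWord e) := by
  rw [ev, bval, map_mul, K.wordP_q]
  have : K.π (cond (e.testBit 9) (K.cur (bitPlace 9)) 1) = 1 := by
    cases e.testBit 9
    · exact map_one _
    · rw [cond_true, bitPlace_nine, K.cur_last, K.proj]
  rw [this, mul_one]

theorem ev_eq_one {e : ℕ} (he : e < 1024) (h : K.ev e = 1) : e = 0 := by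
  have hq : e % 512 = 0 := by
    by_contra hne
    have ht := test_ok
    simp only [Bool.and_eq_true, List.all_eq_true, Bool.or_eq_true, List.any_eq_true, Bool.not_eq_true'] at ht
    obtain ⟨hpt, ht⟩ := ht
    rcases ht (e % 512) (List.mem_range.2 (Nat.mod_lt _ (by norm_num))) with k | ⟨x, hx, k⟩
    · exact hne (Nat.eq_of_beq_eq_true k)
    · have hq : qWord (e % 512) = qWord e := by
        rw [qWord, qWord]
        congr 1
        refine List.filter_congr fun j hj => ?_
        rw [show (512 : ℕ) = 2 ^ 9 by norm_num, Nat.testBit_mod_two_pow]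
        simp [List.mem_range.1 hj]
      rw [hq] at k
      have h1 : wordP (qWord e) = 1 := by rw [← K.π_ev_low, h, map_one]
      obtain ⟨hp, h2⟩ := act_pt (qWord e) (fun p hp => plane_pt (wordP_qWord e p hp)) x (hpt x hx)
      rw [h1, one_mul, inv_one, mul_one] at h2
      rw [← rho_inj (hpt x hx) hp h2] at k
      simp at k
  rcases (show e = 0 ∨ e = 512 by omega) with rfl | rfl
  · rfl
  · exact absurd (K.ev_z ▸ h) K.ne

theorem ev_inj {a b : ℕ} (ha : a < 1024) (hb : b < 1024) (h : K.ev a = K.ev b) : a = b := by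
  have h' := K.ev_eq_one (Nat.xor_lt_two_pow (n := 10) ha hb) (by rw [K.ev_xor, h, K.ev_self])
  calc a = a ^^^ (b ^^^ b) := by rw [Nat.xor_self, Nat.xor_zero]
    _ = b := by rw [← Nat.xor_assoc, h', Nat.zero_xor]

theorem card_eSub : Nat.card K.eSub = 1024 := by
  rw [← Nat.card_fin 1024]
  refine (Nat.card_eq_of_bijective (fun e : Fin 1024 => (⟨K.ev e, e, e.2, rfl⟩ : K.eSub)) ⟨fun a b h => ?_, ?_⟩).symm
  · exact Fin.ext (K.ev_inj a.2 b.2 (congrArg Subtype.val h))
  · rintro ⟨_, e, he, rfl⟩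
    exact ⟨⟨e, he⟩, rfl⟩

/-- The data of a case agree with the group. -/
def Coords (codes : List ℕ) : Prop :=
  ∀ i < 22, codes.getD i 0 < 1024 ∧ K.ev (codes.getD i 0) = K.cur i

theorem coords {s t : ℕ} (hr : ∀ r ∈ rels s t, K.val r = 1) {codes combs : List ℕ}
    (h : chkCodes s t codes combs = true) : K.Coords codes := by
  simp only [chkCodes, Bool.and_eq_true, List.all_eq_true, List.mem_range] at h
  intro i hi
  obtain ⟨h1, h2⟩ := h.2 i hi
  refine ⟨Nat.le_of_ble_eq_true h1, ?_⟩
  have hsel : K.val (select (rels s t) (combs.getD i 0)) = 1 := by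
    rw [select, val, bval_fold_cond K.elem]
    refine List.prod_eq_one fun x hx => ?_
    obtain ⟨k, hk, rfl⟩ := List.mem_map.1 hx
    cases (combs.getD i 0).testBit k
    · rfl
    · refine hr _ ?_
      rw [List.getD_eq_getElem _ _ (List.mem_range.1 hk)]
      exact List.getElem_mem _
  rw [Nat.eq_of_beq_eq_true h2, K.val_xor, K.val_two_pow hi, K.val_expand, mul_eq_one_iff_eq_inv,
    inv_eq_of_mul_eq_one_right (K.ev_self _)] at hsel
  exact hsel.symm

theorem cur_mem {codes : List ℕ} (hc : K.Coords codes) {i : ℕ} (hi : i < 22) : K.cur i ∈ K.eSub :=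
  ⟨_, (hc i hi).1, (hc i hi).2⟩

/-- An element permuting the places by a table. -/
def Acts (g : C) (p : List ℕ) : Prop :=
  ∀ i < 21, p.getD i 0 < 21 ∧ g * K.cur i * g⁻¹ = K.cur (p.getD i 0)

theorem lin_imgOf_lt {codes : List ℕ} (hc : K.Coords codes) {g : C} {p : List ℕ} (hg : K.Acts g p) :
    ∀ k < 10, lin (imgOf codes p) (2 ^ k) < 1024 ∧
      K.ev (lin (imgOf codes p) (2 ^ k)) = g * K.ev (2 ^ k) * g⁻¹ := by
  intro k hk
  have hlen : (imgOf codes p).length = 9 := by rw [imgOf, List.length_map, free_len]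
  rw [lin_two_pow _ k (by omega), hlen, K.ev_two_pow hk]
  rcases Nat.lt_or_ge k 9 with k9 | k9
  · obtain ⟨e1, e2⟩ := bitPlace_lt k9
    obtain ⟨h1, h2⟩ := hg _ e2
    rw [if_pos k9, e1, h2, imgOf, List.getD_eq_getElem _ _ (by rw [List.length_map, free_len]; exact k9),
      List.getElem_map, ← List.getD_eq_getElem _ 0]
    exact hc _ (by omega)
  · obtain rfl : k = 9 := by omega
    rw [if_neg (by omega), bitPlace_nine, K.cur_last, ← (K.central g).eq, mul_inv_cancel_right]
    exact ⟨by norm_num, K.ev_z⟩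

theorem ev_app {codes : List ℕ} (hc : K.Coords codes) {g : C} {p : List ℕ} (hg : K.Acts g p) {e : ℕ}
    (he : e < 1024) : g * K.ev e * g⁻¹ = K.ev (app codes p e) :=
  (ext_of_xor (f := fun e => g * K.ev e * g⁻¹) (f' := fun e => K.ev (lin (imgOf codes p) e))
    (fun a b => by rw [K.ev_xor]; simp [mul_assoc]) (fun a b => by rw [lin_xor, K.ev_xor]) 10
    (fun k hk => (K.lin_imgOf_lt hc hg k hk).2.symm) e he)

theorem app_lt {codes : List ℕ} (hc : K.Coords codes) {g : C} {p : List ℕ} (hg : K.Acts g p) :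
    ∀ n ≤ 10, ∀ e < 2 ^ n, app codes p e < 1024 := by
  intro n
  induction n with
  | zero =>
    intro _ e he
    obtain rfl : e = 0 := by simpa using he
    have := lin_xor (imgOf codes p) 0 0
    rw [Nat.xor_self, Nat.xor_self] at this
    rw [app, this]; norm_num
  | succ n ih =>
    intro hn e he
    have hlow : ∀ f < 2 ^ (n + 1), f.testBit n = false → f < 2 ^ n := fun f hf hb =>
      Nat.lt_pow_two_of_testBit _ fun i hi => by
        rcases Nat.eq_or_lt_of_le hi with rfl | k
        · exact hb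
        · exact Nat.testBit_lt_two_pow (lt_of_lt_of_le hf (Nat.pow_le_pow_right (by norm_num) k))
    cases hb : e.testBit n
    · exact ih (by omega) e (hlow e he hb)
    · have h2 : e ^^^ 2 ^ n < 2 ^ n := hlow _ (Nat.xor_lt_two_pow he (Nat.pow_lt_pow_right (by norm_num) (by omega)))
        (by simp [hb])
      have e1 : e = (e ^^^ 2 ^ n) ^^^ 2 ^ n := by rw [Nat.xor_assoc, Nat.xor_self, Nat.xor_zero]
      rw [app, e1, lin_xor]
      exact Nat.xor_lt_two_pow (n := 10) (ih (by omega) _ h2) (K.lin_imgOf_lt hc hg n (by omega)).1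

theorem acts_mul {g g' : C} {p p' : List ℕ} (hg : K.Acts g p) (hg' : K.Acts g' p') (hp : p.length = 21) :
    K.Acts (g' * g) (p.map fun i => p'.getD i 0) := by
  intro i hi
  obtain ⟨h1, h2⟩ := hg i hi
  obtain ⟨h3, h5⟩ := hg' _ h1
  rw [List.getD_eq_getElem _ _ (by rw [List.length_map, hp]; exact hi), List.getElem_map,
    ← List.getD_eq_getElem _ 0]
  refine ⟨h3, ?_⟩
  rw [← h5, ← h2]
  simp [mul_assoc]

/-- An element above a word carrying the plane to itself. -/
theorem acts_word {g : C} {w : List ℕ} (hg : K.π g = wordP w) (hw : ∀ p ∈ w, isPt p = true) {p : List ℕ}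
    (h : ∀ i < 21, p.getD i 0 < 21 ∧ act w (pp i) = pp (p.getD i 0)) : K.Acts g p := by
  intro i hi
  obtain ⟨h1, h2⟩ := h i hi
  refine ⟨h1, ?_⟩
  rw [K.cur_lt hi, K.cur_lt h1]
  refine K.lift_conj (plane_pt (pp_mem hi)) (plane_pt (pp_mem h1)) ?_
  rw [hg, (act_pt w hw _ (plane_pt (pp_mem hi))).2, h2]

theorem exists_gen {k : ℕ} (hk : k < 3) : ∃ g : C, K.Acts g (planePerms.getD k []) ∧
    (planePerms.getD k []).length = 21 := by
  have h := gens_ok
  simp only [Bool.and_eq_true, List.all_eq_true, List.mem_range] at h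
  obtain ⟨⟨hw, hlen⟩, hi⟩ := h.2 k hk
  obtain ⟨g, hg⟩ := K.surj (wordP (planeGens.getD k []))
  have hl := Nat.eq_of_beq_eq_true hlen
  refine ⟨g, K.acts_word hg hw fun i hi' => ?_, hl⟩
  obtain ⟨h1, h2⟩ := hi i hi'
  have e : (planePerms.getD k []).getD i 21 = (planePerms.getD k []).getD i 0 := by
    have hlt : i < (planePerms.getD k []).length := by omega
    simp only [List.getD_eq_getElem _ _ hlt]
  rw [e] at h1 h2
  exact ⟨Nat.le_of_ble_eq_true h1, Nat.eq_of_beq_eq_true h2⟩

theorem exists_permOf (w : List ℕ) (hw : ∀ k ∈ w, k < 3) :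
    ∃ g : C, K.Acts g (permOf w) ∧ (permOf w).length = 21 := by
  induction w using List.reverseRecOn with
  | nil =>
    refine ⟨1, fun i hi => ?_, by simp [permOf]⟩
    simp [permOf, hi]
  | append_singleton w k ih =>
    obtain ⟨g, hg, hl⟩ := ih fun j hj => hw j (List.mem_append_left _ hj)
    obtain ⟨g', hg', -⟩ := K.exists_gen (hw k (List.mem_append_right _ List.mem_cons_self))
    have e : permOf (w ++ [k]) = (permOf w).map fun i => (planePerms.getD k []).getD i 0 := by
      simp [permOf]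
    rw [e]
    exact ⟨g' * g, K.acts_mul hg hg' hl, by rw [List.length_map, hl]⟩

/-- The acting elements normalise the plane group. -/
theorem acts_normalizer {codes : List ℕ} (hc : K.Coords codes) {g : C} {p : List ℕ} (hg : K.Acts g p) :
    g ∈ Subgroup.normalizer (K.eSub : Set C) := by
  have hle : ∀ x ∈ K.eSub, g * x * g⁻¹ ∈ K.eSub := by
    rintro _ ⟨e, he, rfl⟩
    exact ⟨_, K.app_lt hc hg 10 le_rfl e he, (K.ev_app hc hg he).symm⟩
  rw [Subgroup.mem_normalizer_iff]
  intro x
  refine ⟨hle x, fun hx => ?_⟩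
  let f : K.eSub → K.eSub := fun y => ⟨g * y * g⁻¹, hle _ y.2⟩
  have hf : Function.Injective f := fun a b h =>
    Subtype.ext (mul_left_cancel (mul_right_cancel (congrArg Subtype.val h)))
  obtain ⟨y, hy⟩ := (Finite.injective_iff_surjective.1 hf) ⟨_, hx⟩
  have : (y : C) = x := mul_left_cancel (mul_right_cancel (congrArg Subtype.val hy))
  exact this ▸ y.2

end Cov

end Cfsg.Agent.Block.FischerTypes.M22Recog
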