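import Cfsg.Agent.Lib.Block.FischerTypes.M22Recog.Checks
import Cfsg.Agent.Lib.Block.FischerTypes.M22Recog.ReflData

/-! Tests on the tables for the members commuting with an apart pair. -/

set_option autoImplicit false
set_option maxRecDepth 100000

namespace Cfsg.Agent.Block.FischerTypes.M22Recog

open U6Code

/-- The five points and the words moving them. -/
def chkGens : Bool :=
  Nat.beq secGens.length 5 && Nat.beq (secGens.getD 0 0) b1 && Nat.beq secMates.length 5 && Nat.beq secMoves.length 3 &&
  (secGens.all fun g => isPt g && adj g b0 && !(Nat.beq g b0)) && (linePts.all fun p => isPt p && adj p b0 && !(Nat.beq p b0)) &&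
  (List.range 5).all (fun k => ptList.all fun q => !(adj q b0) || Nat.beq q b0 ||
    (linePts.any fun p => !(adj p (secGens.getD k 0) == adj p q)) || (secMates.getD k []).contains q) &&
  (List.range 3).all (fun k => (secMates.getD (k + 1) []).all fun q => (secMoves.getD k []).any fun e =>
    Nat.beq e.1 q && (e.2.all isPt) && Nat.beq (act e.2 b0) b0 &&
      ((secGens.take (k + 1)).all fun g => Nat.beq (act e.2 g) g) && Nat.beq (act e.2 (secGens.getD (k + 1) 0)) q)

/-- A section starts at five points and grows by braids. -/
def chkSection (t : ℕ) : Bool :=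
  let S := secPts.getD t []
  let fr := secFrom.getD t []
  Nat.beq S.length 45 && Nat.beq fr.length 40 && S.take 5 == secGens.take 4 ++ [(secMates.getD 4 []).getD t 0] &&
  distinct S 0 && (S.all fun p => isPt p && adj p b0 && !(Nat.beq p b0)) &&
  (List.range 40).all fun i =>
    let p := fr.getD i (0, 0)
    Nat.blt p.1 (i + 5) && Nat.blt p.2 (i + 5) && Nat.beq (refl (S.getD p.1 0) (S.getD p.2 0)) (S.getD (i + 5) 0)

/-- An orbit grows by letters in a section. -/
def chkOrbit (S : List ℕ) (o : List (ℕ × ℕ × ℕ)) : Bool :=
  isPt (o.getD 0 (0, 0, 0)).1 && distinct (o.map fun e => e.1) 0 &&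
  (List.range o.length).all fun i =>
    !(adj (o.getD i (0, 0, 0)).1 b0) && (Nat.beq i 0 ||
      (Nat.blt (o.getD i (0, 0, 0)).2.1 i && Nat.blt (o.getD i (0, 0, 0)).2.2 S.length &&
        Nat.beq (refl (S.getD (o.getD i (0, 0, 0)).2.2 0) (o.getD (o.getD i (0, 0, 0)).2.1 (0, 0, 0)).1)
          (o.getD i (0, 0, 0)).1))

/-- The orbits of a section cover the points off `b0`. -/
def chkCover (t : ℕ) : Bool :=
  (secOrbits.getD t []).all (chkOrbit (secPts.getD t [])) &&
    let m := maskOf (((secOrbits.getD t []).map fun o => o.map fun e => e.1).flatten)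
    ptList.all fun z => adj z b0 || m.testBit z

/-- The small orbits of a section. -/
def smallOrbit (t : ℕ) : List ℕ :=
  (((secOrbits.getD t []).filter fun o => Nat.ble o.length 80).map fun o => o.map fun e => e.1).flatten

/-- Each section gives one of the three lists or too few points. -/
def chkLists (t : ℕ) : Bool :=
  let B := b0 :: (secPts.getD t [] ++ smallOrbit t)
  Nat.ble B.length 125 || commonPts.any fun CL => CL == B

theorem gens_check : chkGens = true := by decide +kernel

theorem mates_four : (secMates.getD 4 []).length = 4 := by decide +kernel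

theorem section_check : ((List.range 4).all fun t => chkSection t) = true := by decide +kernel

theorem cover_check : ((List.range 4).all fun t => chkCover t) = true := by decide +kernel

theorem lists_check : ((List.range 4).all fun t => chkLists t) = true := by decide +kernel

end Cfsg.Agent.Block.FischerTypes.M22Recog
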