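import Cfsg.Agent.Lib.Block.FischerTypes.M22Recog.Global
import Cfsg.Agent.Lib.Block.FischerTypes.M22Recog.ReflChecks

/-! The members commuting with an apart pair as one of three lists of points. -/

set_option autoImplicit false
set_option maxRecDepth 100000
set_option linter.style.haveILetI false
set_option linter.unusedSectionVars false

namespace Cfsg.Agent.Block.FischerTypes.M22Recog

open Cfsg U6Code Cfsg.Agent.Spor.ThreeTrans

variable {G : Type*} [Group G] [Finite G] {d : G} {K : Cov ↥(CC d)} (H : Hyp d K)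

/-- The codes of the members commuting with `c`. -/
def Bes {D : Set G} {a : G} (M : Model D a) (c : G) (q : ℕ) : Prop := isPt q = true ∧ Commute (M.pt q) c

/-- The numbering carried by an element fixing the centre. -/
theorem reframe {D : Set G} (hinv : ∀ g : G, ∀ x ∈ D, g * x * g⁻¹ ∈ D) {a : G} (M : Model D a) {g : G}
    (hg : Commute g a) : ∃ M' : Model D a, ∀ q, M'.pt q = g * M.pt q * g⁻¹ := by
  have key : ∀ b, g * a * g⁻¹ = b → ∃ M' : Model D b, ∀ q, M'.pt q = g * M.pt q * g⁻¹ := fun b hb => by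
    subst hb; exact ⟨conjTo hinv M g, fun _ => rfl⟩
  exact key a (conj_self_eq hg)

include H

theorem card_three {x c : G} (hx : x ∈ conjugatesOf d) (hd' : d ∈ perp (conjugatesOf d) x)
    (hc : c ∈ perp (conjugatesOf d) x) (hdc : ¬ Commute d c) :
    {w | w ∈ perp (conjugatesOf d) x ∧ Commute d w ∧ Commute c w}.ncard = 45 := by
  obtain ⟨M₀⟩ := (framed H).model x hx
  obtain ⟨N, e1, e2⟩ := exists_apart_pair (framed H).inv M₀ (fun z hz => (framed H).sq hz) hd' hc hdc
  rw [← card_w]
  refine N.ncard_eq (Model.nodup_ptList.filter _) (fun c hc => mem_ptList.1 (List.mem_filter.1 hc).1) fun q hq => ?_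
  have k1 := N.comm _ _ Model.pt_b0 hq
  have k2 := N.comm _ _ Model.pt_c0 hq
  rw [e1] at k1
  rw [e2] at k2
  rw [k1, k2, wList, List.mem_filter, Bool.and_eq_true]
  exact (and_iff_right (mem_ptList.2 hq)).symm

theorem bes_refl {a c : G} (M : Model (conjugatesOf d) a) {u v : ℕ} (hu : Bes M c u) (hv : Bes M c v) :
    Bes M c (refl u v) := by
  obtain ⟨h1, h2⟩ := M.conj u v hu.1 hv.1
  exact ⟨h1, h2 ▸ (hu.2.mul_left hv.2).mul_left hu.2⟩

/-- Some member apart from `d` commutes with the members on a list. -/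
theorem exists_list : ∃ c ∈ conjugatesOf d, ¬ Commute d c ∧ ∃ M : Model (conjugatesOf d) d,
    ∃ k < 3, ∀ q, Bes M c q ↔ q ∈ commonPts.getD k [] := by
  classical
  have F := framed H
  have C := ctx_all H
  have hgc := gens_check
  simp only [chkGens, Bool.and_eq_true, List.all_eq_true, List.mem_range, Bool.or_eq_true, List.any_eq_true,
    Bool.not_eq_true'] at hgc
  obtain ⟨⟨⟨⟨⟨⟨⟨hg5, hgb1⟩, hm5⟩, hmv3⟩, hgpt⟩, hlp⟩, hmate⟩, hmove⟩ := hgc
  have hsc : ∀ t < 4, chkSection t = true ∧ chkCover t = true ∧ chkLists t = true := fun t ht =>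
    ⟨List.all_eq_true.1 section_check t (List.mem_range.2 ht), List.all_eq_true.1 cover_check t (List.mem_range.2 ht),
      List.all_eq_true.1 lists_check t (List.mem_range.2 ht)⟩
  have hdD : d ∈ conjugatesOf d := mem_conjugatesOf_self
  obtain ⟨M₀⟩ := F.model d hdD
  obtain ⟨x, hx⟩ : ∃ x, x = M₀.pt b0 := ⟨_, rfl⟩
  have hxp : x ∈ perp (conjugatesOf d) d := hx ▸ M₀.mem b0 Model.pt_b0
  have hdx : d ∈ perp (conjugatesOf d) x := Framed.perp_sym hdD hxp
  -- the second member, apart from `d` beside `x`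
  obtain ⟨c, hcx, hdc⟩ : ∃ c ∈ perp (conjugatesOf d) x, ¬ Commute d c := by
    obtain ⟨N₀⟩ := F.model x hxp.1
    obtain ⟨N, e⟩ := exists_point F.inv N₀ (fun z hz => F.sq hz) hdx
    refine ⟨N.pt c0, N.mem _ Model.pt_c0, fun k => ?_⟩
    have k1 := N.comm _ _ Model.pt_b0 Model.pt_c0
    rw [e] at k1
    have k := k1.1 k
    revert k
    decide +kernel
  have hcD := hcx.1
  have hxc : Commute x c := hcx.2.2
  -- the members beside `x` and the pair
  obtain ⟨M₁, hM₁x, hM₁b⟩ : ∃ M : Model (conjugatesOf d) d, M.pt b0 = x ∧ Bes M c b1 := by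
    have h45 := card_three H hxp.1 hdx hcx hdc
    obtain ⟨w, hw, hdw, hcw⟩ := Set.nonempty_of_ncard_ne_zero (by rw [h45]; norm_num : _ ≠ 0)
    have hwd : w ≠ d := fun e => hdc (e ▸ hcw).symm
    obtain ⟨q, hq, eq⟩ := M₀.surj w ⟨hw.1, hwd, hdw⟩
    have hqne : q ≠ b0 := fun e => hw.2.1 (by rw [← eq, e, hx])
    have hqadj : adj b0 q = true := by rw [← M₀.comm _ _ Model.pt_b0 hq, eq, ← hx]; exact hw.2.2
    have ht := tr1_ok
    simp only [chkTr, Bool.and_eq_true, List.all_eq_true, List.any_eq_true] at ht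
    obtain ⟨e, he, hec⟩ := ht.2 q (List.mem_filter.2 ⟨mem_ptList.2 hq, by
      rw [hqadj]
      simp only [Bool.true_and, Bool.not_eq_true', ← Bool.not_eq_true]
      exact fun k => hqne (Nat.eq_of_beq_eq_true k)⟩)
    obtain ⟨hf, hact⟩ := ht.1 e he
    have hf' := hf
    simp only [fixes, List.all_eq_true, Bool.and_eq_true] at hf'
    obtain ⟨g, hg, hgx⟩ := word_fix F.inv M₀ (fun z hz => F.sq hz) e.2 fun p hp => (hf' p hp).1
    obtain ⟨M', ept⟩ := reframe F.inv M₀ hg
    refine ⟨M', ?_, Model.pt_b1, ?_⟩ <;> rw [ept]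
    · rw [(hgx b0 Model.pt_b0).2, Model.act_fix hf List.mem_cons_self, hx]
    · rw [(hgx b1 Model.pt_b1).2, Nat.eq_of_beq_eq_true hact, Nat.eq_of_beq_eq_true hec, eq]
      exact hcw.symm
  -- a mate of each of the five is beside both
  have mate : ∀ (M : Model (conjugatesOf d) d), M.pt b0 = x → ∀ k < 5,
      ∃ q ∈ secMates.getD k [], Bes M c q := by
    intro M hMx k hk
    obtain ⟨g, hg⟩ : ∃ g, g = secGens.getD k 0 := ⟨_, rfl⟩
    have hgm : g ∈ secGens := by
      rw [hg, List.getD_eq_getElem _ _ (by rw [Nat.eq_of_beq_eq_true hg5]; exact hk)]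
      exact List.getElem_mem _
    obtain ⟨⟨g1, g2⟩, g3⟩ := hgpt g hgm
    have gne : g ≠ b0 := fun e => by rw [e, Nat.beq_refl] at g3; exact Bool.noConfusion g3
    have hgp : M.pt g ∈ perp (conjugatesOf d) x := ⟨(M.mem g g1).1, fun e => gne (M.inj g b0 g1 Model.pt_b0 (e.trans hMx.symm)),
      hMx ▸ ((M.comm g b0 g1 Model.pt_b0).2 g2).symm⟩
    obtain ⟨e, he, hed, hec, htw⟩ := M22.line_meet C (v := x) (d := d) (f := c) (c := M.pt g) hxp.1 hdx hcx hdc hgp
      (M.mem g g1).2.2.symm (M.mem g g1).2.1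
    have hed' : e ≠ d := fun k => hdc (k ▸ hec)
    obtain ⟨q, hq, eq⟩ := M.surj e ⟨he.1, hed', hed.symm⟩
    have hqne : q ≠ b0 := fun k => he.2.1 (by rw [← eq, k, hMx])
    have hqadj : adj q b0 = true := by rw [← M.comm _ _ hq Model.pt_b0, eq, hMx]; exact he.2.2.symm
    refine ⟨q, ?_, hq, eq ▸ hec⟩
    rcases hmate k hk q (mem_ptList.2 hq) with ((h | h) | ⟨p, hp, h⟩) | h
    · exact absurd (hqadj.symm.trans h) (by simp)
    · exact absurd (Nat.eq_of_beq_eq_true h) hqne
    · exfalso
      obtain ⟨⟨p1, p2⟩, p3⟩ := hlp p hp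
      have pne : p ≠ b0 := fun e => by rw [e, Nat.beq_refl] at p3; exact Bool.noConfusion p3
      have hpp : M.pt p ∈ perp (conjugatesOf d) x := ⟨(M.mem p p1).1,
        fun e => pne (M.inj p b0 p1 Model.pt_b0 (e.trans hMx.symm)), hMx ▸ ((M.comm p b0 p1 Model.pt_b0).2 p2).symm⟩
      have h' := htw _ hpp (M.mem p p1).2.2.symm
      rw [← eq, M.comm _ _ p1 g1, M.comm _ _ p1 hq] at h'
      rw [← hg] at h
      cases e1 : adj p g <;> cases e2 : adj p q <;> simp_all
    · exact List.contains_iff_mem.1 h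
  -- the first four in place
  have place : ∀ j ≤ 3, ∃ M : Model (conjugatesOf d) d, M.pt b0 = x ∧ ∀ g ∈ secGens.take (j + 1), Bes M c g := by
    intro j hj
    induction j with
    | zero =>
      refine ⟨M₁, hM₁x, fun g hg => ?_⟩
      obtain ⟨i, hi, rfl⟩ := List.getElem_of_mem hg
      simp only [List.length_take] at hi
      obtain rfl : i = 0 := by omega
      rw [List.getElem_take, ← List.getD_eq_getElem _ 0, Nat.eq_of_beq_eq_true hgb1]
      exact hM₁b
    | succ j ih =>
      obtain ⟨M, hMx, hM⟩ := ih (by omega)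
      obtain ⟨q, hq, hqb⟩ := mate M hMx (j + 1) (by omega)
      obtain ⟨e, he, ⟨⟨⟨he1, hpt⟩, heb⟩, hefix⟩, heq⟩ := hmove j (by omega) q hq
      obtain ⟨g, hg, hgx⟩ := word_fix F.inv M (fun z hz => F.sq hz) e.2 hpt
      obtain ⟨M', ept⟩ := reframe F.inv M hg
      refine ⟨M', ?_, fun v hv => ?_⟩
      · rw [ept]
        rw [(hgx b0 Model.pt_b0).2, Nat.eq_of_beq_eq_true heb, hMx]
      · have hlen : secGens.length = 5 := Nat.eq_of_beq_eq_true hg5
        rw [List.take_succ_eq_append_getElem (by omega), List.mem_append, List.mem_singleton] at hv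
        have hvpt : isPt v = true := by
          rcases hv with k | k
          · exact (hgpt v (List.mem_of_mem_take k)).1.1
          · exact (hgpt v (k ▸ List.getElem_mem _)).1.1
        refine ⟨hvpt, ?_⟩
        rw [ept, (hgx v hvpt).2]
        rcases hv with k | k
        · rw [Nat.eq_of_beq_eq_true (hefix v k)]
          exact (hM v k).2
        · rw [k, ← List.getD_eq_getElem _ 0, Nat.eq_of_beq_eq_true heq]
          exact hqb.2
  obtain ⟨M, hMx, hM⟩ := place 3 le_rfl
  obtain ⟨q, hq, hqb⟩ := mate M hMx 4 (by norm_num)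
  obtain ⟨t, ht, rfl⟩ := List.getElem_of_mem hq
  have ht4 : t < 4 := by rw [mates_four] at ht; exact ht
  obtain ⟨hS, hO, hL⟩ := hsc t ht4
  simp only [chkSection, Bool.and_eq_true, List.all_eq_true, List.mem_range, beq_iff_eq, Bool.not_eq_true'] at hS
  obtain ⟨⟨⟨⟨⟨hS45, hfr⟩, hS5⟩, hSnd⟩, hSpt⟩, hgrow⟩ := hS
  obtain ⟨S, hSdef⟩ : ∃ S, S = secPts.getD t [] := ⟨_, rfl⟩
  rw [← hSdef] at hS45 hS5 hSnd hSpt hgrow
  have hlen : S.length = 45 := Nat.eq_of_beq_eq_true hS45
  have hSB : ∀ i < 45, Bes M c (S.getD i 0) := by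
    intro i
    induction i using Nat.strong_induction_on with
    | _ i ih =>
      intro hi
      by_cases h5 : i < 5
      · have hm : S.getD i 0 ∈ S.take 5 := by
          rw [List.getD_eq_getElem _ _ (by omega)]
          have := List.getElem_mem (l := S.take 5) (n := i) (by simp [hlen]; omega)
          rwa [List.getElem_take] at this
        rw [hS5, List.mem_append, List.mem_singleton] at hm
        rcases hm with k | k
        · exact hM _ k
        · rw [k, List.getD_eq_getElem _ _ ht]; exact hqb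
      · obtain ⟨k, rfl⟩ : ∃ k, i = k + 5 := ⟨i - 5, by omega⟩
        obtain ⟨⟨h1, h2⟩, h3⟩ := hgrow k (by omega)
        rw [← Nat.eq_of_beq_eq_true h3]
        have l1 := Nat.le_of_ble_eq_true h1
        have l2 := Nat.le_of_ble_eq_true h2
        exact bes_refl H M (ih _ (by omega) (by omega)) (ih _ (by omega) (by omega))
  have hSB' : ∀ p ∈ S, Bes M c p := fun p hp => by
    obtain ⟨i, hi, rfl⟩ := List.getElem_of_mem hp
    rw [← List.getD_eq_getElem _ 0]
    exact hSB i (by omega)
  obtain ⟨B, hB⟩ : ∃ B, B = ptList.toFinset.filter fun q => Commute (M.pt q) c := ⟨_, rfl⟩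
  have memB : ∀ q, q ∈ B ↔ Bes M c q := fun q => by
    rw [hB, Finset.mem_filter, List.mem_toFinset, mem_ptList]; exact Iff.rfl
  have inj : ∀ s : Finset ℕ, (∀ q ∈ s, isPt q = true) → (s.image M.pt).card = s.card := fun s hs =>
    Finset.card_image_of_injOn fun u hu v hv e => M.inj u v (hs u hu) (hs v hv) e
  have hB126 : B.card = 126 := by
    rw [← common_card H hdD hcD hdc, ← inj B fun q hq => ((memB q).1 hq).1, ← Set.ncard_coe_finset, Finset.coe_image]
    congr 1
    ext u
    constructor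
    · rintro ⟨q, hq, rfl⟩
      have hq' := (memB q).1 hq
      have hp := M.mem q hq'.1
      exact ⟨hp, hp.1, fun e => hdc (e ▸ hp.2.2), hq'.2.symm⟩
    · rintro ⟨hu1, hu2⟩
      obtain ⟨q, hq, rfl⟩ := M.surj u hu1
      exact ⟨q, (memB q).2 ⟨hq, hu2.2.2.symm⟩, rfl⟩
  obtain ⟨B0, hB0⟩ : ∃ B0, B0 = B.filter fun q => adj q b0 = true ∧ q ≠ b0 := ⟨_, rfl⟩
  have hB45 : B0.card = 45 := by
    rw [← card_three H hxp.1 hdx hcx hdc, ← inj B0 fun q hq => ((memB q).1 (Finset.mem_filter.1 (hB0 ▸ hq)).1).1,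
      ← Set.ncard_coe_finset, Finset.coe_image]
    congr 1
    ext u
    constructor
    · rintro ⟨q, hq, rfl⟩
      rw [hB0, Finset.mem_coe, Finset.mem_filter] at hq
      have hq' := (memB q).1 hq.1
      refine ⟨⟨(M.mem q hq'.1).1, fun e => hq.2.2 (M.inj q b0 hq'.1 Model.pt_b0 (e.trans hMx.symm)), ?_⟩,
        (M.mem q hq'.1).2.2, hq'.2.symm⟩
      rw [← hMx, M.comm _ _ Model.pt_b0 hq'.1, adj_comm]
      exact hq.2.1
    · rintro ⟨hu, hdu, hcu⟩
      obtain ⟨q, hq, rfl⟩ := M.surj u ⟨hu.1, fun e => hdc (e ▸ hcu).symm, hdu⟩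
      refine ⟨q, ?_, rfl⟩
      rw [hB0, Finset.mem_coe, Finset.mem_filter]
      refine ⟨(memB q).2 ⟨hq, hcu.symm⟩, ?_, fun e => hu.2.1 (by rw [e, hMx])⟩
      rw [← M.comm _ _ hq Model.pt_b0, hMx]
      exact hu.2.2.symm
  have hSnd' := (distinct_spec hSnd).1
  have hS0 : S.toFinset = B0 := by
    refine Finset.eq_of_subset_of_card_le (fun p hp => ?_) (by rw [hB45, List.toFinset_card_of_nodup hSnd', hlen])
    rw [List.mem_toFinset] at hp
    obtain ⟨⟨-, h2⟩, h3⟩ := hSpt p hp
    rw [hB0, Finset.mem_filter]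
    exact ⟨(memB p).2 (hSB' p hp), h2, fun e => by rw [e, Nat.beq_refl] at h3; exact Bool.noConfusion h3⟩
  -- off `b0` only the small orbits are left
  have hsmall : ∀ z, Bes M c z → adj z b0 = false → z ∈ smallOrbit t := by
    intro z hz hzb
    simp only [chkCover, Bool.and_eq_true, List.all_eq_true, Bool.or_eq_true] at hO
    rcases hO.2 z (mem_ptList.2 hz.1) with k | k
    · rw [hzb] at k; exact absurd k (by simp)
    rw [maskOf_testBit, decide_eq_true_eq, List.mem_flatten] at k
    obtain ⟨_, hol, hzo⟩ := k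
    obtain ⟨o, ho, rfl⟩ := List.mem_map.1 hol
    have hoc := hO.1 o ho
    rw [← hSdef] at hoc
    simp only [chkOrbit, Bool.and_eq_true, List.all_eq_true, List.mem_range, Bool.or_eq_true, Bool.not_eq_true'] at hoc
    obtain ⟨⟨hroot, hond⟩, hotree⟩ := hoc
    obtain ⟨root, hr⟩ : ∃ root, root = (o.getD 0 (0, 0, 0)).1 := ⟨_, rfl⟩
    have all : ∀ i < o.length, isPt (o.getD i (0, 0, 0)).1 = true ∧ (Bes M c (o.getD i (0, 0, 0)).1 ↔ Bes M c root) := by
      intro i
      induction i using Nat.strong_induction_on with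
      | _ i ih =>
        intro hi
        rcases (hotree i hi).2 with k0 | ⟨⟨h1, h2⟩, h3⟩
        · rw [Nat.eq_of_beq_eq_true k0]
          exact ⟨hroot, by rw [hr]⟩
        · have l1 := Nat.le_of_ble_eq_true h1
          have l2 := Nat.le_of_ble_eq_true h2
          obtain ⟨hp, hpiff⟩ := ih (o.getD i (0, 0, 0)).2.1 (by omega) (by omega)
          obtain ⟨w, hw⟩ : ∃ w, w = S.getD (o.getD i (0, 0, 0)).2.2 0 := ⟨_, rfl⟩
          have hwB : Bes M c w := by rw [hw]; exact hSB _ (by omega)
          rw [← hw] at h3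
          rw [← Nat.eq_of_beq_eq_true h3, ← hpiff]
          obtain ⟨c1, c2⟩ := M.conj w _ hwB.1 hp
          refine ⟨c1, ⟨fun hh => ⟨hp, ?_⟩, fun hh => bes_refl H M hwB hh⟩⟩
          have hcm := (hwB.2.mul_left hh.2).mul_left hwB.2
          rw [← c2] at hcm
          have sq := F.sq (M.mem w hwB.1).1
          simpa [← mul_assoc, sq, mul_assoc _ (M.pt w) (M.pt w)] using hcm
    obtain ⟨e, he, hez⟩ := List.mem_map.1 hzo
    obtain ⟨i, hi, rfl⟩ := List.getElem_of_mem he
    have hrB : Bes M c root := (all i hi).2.1 (by rw [List.getD_eq_getElem _ _ hi, hez]; exact hz)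
    have hoB : ∀ e ∈ o, Bes M c e.1 := fun e he => by
      obtain ⟨i, hi, rfl⟩ := List.getElem_of_mem he
      rw [← List.getD_eq_getElem _ (0, 0, 0)]
      exact (all i hi).2.2 hrB
    have hlen80 : o.length ≤ 80 := by
      have hsub : (insert b0 (S.toFinset ∪ (o.map fun e => e.1).toFinset)) ⊆ B := by
        intro p hp
        rw [Finset.mem_insert, Finset.mem_union, List.mem_toFinset, List.mem_toFinset] at hp
        rw [memB]
        rcases hp with rfl | hp | hp
        · exact ⟨Model.pt_b0, hMx ▸ hxc⟩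
        · exact hSB' p hp
        · obtain ⟨e, he, rfl⟩ := List.mem_map.1 hp
          exact hoB e he
      have hoff : ∀ p ∈ o.map (fun e => e.1), adj p b0 = false := fun p hp => by
        obtain ⟨e, he, rfl⟩ := List.mem_map.1 hp
        obtain ⟨i, hi, rfl⟩ := List.getElem_of_mem he
        rw [← List.getD_eq_getElem _ (0, 0, 0)]
        exact (hotree i hi).1
      have h0 : b0 ∉ S.toFinset ∪ (o.map fun e => e.1).toFinset := by
        rw [Finset.mem_union, List.mem_toFinset, List.mem_toFinset]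
        rintro (k | k)
        · have := (hSpt b0 k).2; rw [Nat.beq_refl] at this; exact Bool.noConfusion this
        · exact Bool.noConfusion ((hoff b0 k).symm.trans (adj_self Model.pt_b0))
      have hdj : Disjoint S.toFinset (o.map fun e => e.1).toFinset := Finset.disjoint_left.2 fun p h1 h2 => by
        rw [List.mem_toFinset] at h1 h2
        exact Bool.noConfusion ((hoff p h2).symm.trans (hSpt p h1).1.2)
      have hle := Finset.card_le_card hsub
      rw [Finset.card_insert_of_notMem h0, Finset.card_union_of_disjoint hdj,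
        List.toFinset_card_of_nodup hSnd', List.toFinset_card_of_nodup (distinct_spec hond).1, hlen, hB126,
        List.length_map] at hle
      omega
    exact List.mem_flatten.2 ⟨_, List.mem_map_of_mem (List.mem_filter.2 ⟨ho, Nat.ble_eq_true_of_le hlen80⟩), hzo⟩
  have hBsub : B ⊆ (b0 :: (S ++ smallOrbit t)).toFinset := by
    intro z hz
    rw [List.mem_toFinset, List.mem_cons, List.mem_append]
    by_cases hzb : adj z b0 = true
    · by_cases e : z = b0
      · exact Or.inl e
      · exact Or.inr (Or.inl (List.mem_toFinset.1 (hS0 ▸ hB0 ▸ Finset.mem_filter.2 ⟨hz, hzb, e⟩)))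
    · exact Or.inr (Or.inr (hsmall z ((memB z).1 hz) (Bool.eq_false_iff.2 hzb)))
  simp only [chkLists, Bool.or_eq_true, List.any_eq_true, beq_iff_eq] at hL
  rw [← hSdef] at hL
  have hcard := Finset.card_le_card hBsub
  rw [hB126] at hcard
  rcases hL with k | ⟨CL, hCL, hCLe⟩
  · have := Nat.le_of_ble_eq_true k
    have := List.toFinset_card_le (b0 :: (S ++ smallOrbit t))
    omega
  obtain ⟨k, hk, rfl⟩ := List.getElem_of_mem hCL
  have hk3 : k < 3 := lt_of_lt_of_eq hk (by decide +kernel)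
  refine ⟨c, hcD, hdc, M, k, hk3, fun q => ?_⟩
  rw [← memB, List.getD_eq_getElem _ _ hk, hCLe]
  have h126 : (b0 :: (S ++ smallOrbit t)).length = 126 := by
    rw [← hCLe, ← List.getD_eq_getElem _ []]
    have : ∀ k < 3, (commonPts.getD k []).length = 126 := by decide +kernel
    exact this k hk3
  have := Finset.eq_of_subset_of_card_le hBsub (by rw [hB126, ← h126]; exact List.toFinset_card_le _)
  rw [this, List.mem_toFinset]

end Cfsg.Agent.Block.FischerTypes.M22Recog
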