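import Cfsg.Agent.Lib.Block.FischerTypes.M22Recog.Refl
import Cfsg.Agent.Lib.Spor.ReflectionClassThree
import Mathlib.LinearAlgebra.QuadraticForm.Basic

/-! The group generated by the members commuting with an apart pair, modulo its centre, as a projective
reflection group over the field of three elements. -/

set_option autoImplicit false
set_option maxRecDepth 100000
set_option maxHeartbeats 1000000
set_option linter.style.haveILetI false
set_option linter.unusedSectionVars false

namespace Cfsg.Agent.Block.FischerTypes.M22Recog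

open Cfsg U6Code Matrix

/-- A group generated by a list permuted by conjugation, modulo its centre, as a permutation group. -/
theorem quot_perms {G : Type*} [Group G] {n : ℕ} (g : Fin n → G) (hinj : Function.Injective g)
    (σ : Fin n → Equiv.Perm (Fin n)) (hσ : ∀ i j, g i * g j * (g i)⁻¹ = g (σ i j)) :
    Nonempty (↥(Subgroup.closure (Set.range g)) ⧸ Subgroup.center ↥(Subgroup.closure (Set.range g)) ≃*
      ↥(Subgroup.closure (Set.range σ))) := by
  classical
  obtain ⟨L, hL⟩ : ∃ L, L = Subgroup.closure (Set.range g) := ⟨_, rfl⟩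
  rw [← hL]
  have ex : ∀ a ∈ L, ∃ p : Equiv.Perm (Fin n), ∀ j, a * g j * a⁻¹ = g (p j) := by
    intro a ha
    rw [hL] at ha
    induction ha using Subgroup.closure_induction with
    | mem u hu =>
      obtain ⟨i, rfl⟩ := hu
      exact ⟨σ i, hσ i⟩
    | one => exact ⟨1, fun j => by simp⟩
    | mul a b _ _ iha ihb =>
      obtain ⟨p, hp⟩ := iha
      obtain ⟨q, hq⟩ := ihb
      exact ⟨p * q, fun j => by rw [Equiv.Perm.mul_apply, ← hp, ← hq]; simp [mul_assoc]⟩
    | inv a _ iha =>
      obtain ⟨p, hp⟩ := iha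
      refine ⟨p⁻¹, fun j => ?_⟩
      have := hp (p⁻¹ j)
      rw [Equiv.Perm.inv_def, Equiv.apply_symm_apply] at this
      rw [Equiv.Perm.inv_def, ← this]
      simp [mul_assoc]
  have uniq : ∀ (a : G) (p q : Equiv.Perm (Fin n)), (∀ j, a * g j * a⁻¹ = g (p j)) →
      (∀ j, a * g j * a⁻¹ = g (q j)) → p = q :=
    fun a p q hp hq => Equiv.ext fun j => hinj ((hp j).symm.trans (hq j))
  choose π hπ using fun a : ↥L => ex a a.2
  let φ : ↥L →* Equiv.Perm (Fin n) :=
    { toFun := π
      map_one' := uniq _ _ _ (hπ 1) fun j => by simp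
      map_mul' := fun a b => uniq _ _ _ (hπ (a * b)) fun j => by
        rw [Equiv.Perm.mul_apply, ← hπ a, ← hπ b]; simp [mul_assoc] }
  have hgL : ∀ i, g i ∈ L := fun i => hL ▸ Subgroup.subset_closure ⟨i, rfl⟩
  have hgen : ∀ i, φ ⟨g i, hgL i⟩ = σ i := fun i => uniq _ _ _ (hπ ⟨g i, hgL i⟩) (hσ i)
  have hker : φ.ker = Subgroup.center ↥L := by
    ext a
    rw [MonoidHom.mem_ker, Subgroup.mem_center_iff]
    constructor
    · intro h b
      have hc : ∀ v ∈ L, Commute (a : G) v := by
        intro v hv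
        rw [hL] at hv
        induction hv using Subgroup.closure_induction with
        | mem u hu =>
          obtain ⟨i, rfl⟩ := hu
          have := hπ a i
          rw [show π a = 1 from h, Equiv.Perm.one_apply] at this
          exact mul_inv_eq_iff_eq_mul.1 this
        | one => exact Commute.one_right _
        | mul _ _ _ _ h1 h2 => exact h1.mul_right h2
        | inv _ _ h1 => exact h1.inv_right
      exact Subtype.ext (hc b b.2).eq.symm
    · intro h
      refine uniq _ _ _ (hπ a) fun j => ?_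
      rw [Equiv.Perm.one_apply]
      exact mul_inv_eq_iff_eq_mul.2 (congrArg Subtype.val (h ⟨g j, hgL j⟩)).symm
  have hrange : φ.range = Subgroup.closure (Set.range σ) := by
    apply le_antisymm
    · rintro _ ⟨⟨a, ha⟩, rfl⟩
      have key : ∀ v (hv : v ∈ Subgroup.closure (Set.range g)), φ ⟨v, hL ▸ hv⟩ ∈ Subgroup.closure (Set.range σ) := by
        intro v hv
        induction hv using Subgroup.closure_induction with
        | mem u hu =>
          obtain ⟨i, rfl⟩ := hu
          rw [hgen]
          exact Subgroup.subset_closure ⟨i, rfl⟩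
        | one => exact (map_one φ).symm ▸ one_mem _
        | mul u v hu hv h1 h2 =>
          rw [show (⟨u * v, _⟩ : ↥L) = ⟨u, hL ▸ hu⟩ * ⟨v, hL ▸ hv⟩ from rfl, map_mul]
          exact mul_mem h1 h2
        | inv u hu h1 =>
          rw [show (⟨u⁻¹, _⟩ : ↥L) = (⟨u, hL ▸ hu⟩ : ↥L)⁻¹ from rfl, map_inv]
          exact inv_mem h1
      exact key a (hL ▸ ha)
    · rw [Subgroup.closure_le]
      rintro _ ⟨i, rfl⟩
      exact ⟨_, hgen i⟩
  exact ⟨(QuotientGroup.quotientMulEquivOfEq hker.symm).trans
    ((QuotientGroup.quotientKerEquivRange φ).trans (MulEquiv.subgroupCongr hrange))⟩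

/-- The sum of squares. -/
noncomputable def form : QuadraticForm (ZMod 3) (Fin 6 → ZMod 3) :=
  QuadraticMap.weightedSumSquares (ZMod 3) fun _ : Fin 6 => (1 : ZMod 3)

theorem form_apply (v : Fin 6 → ZMod 3) : form v = ∑ i, v i * v i := by
  simp [form, QuadraticMap.weightedSumSquares_apply]

theorem form_polar (u v : Fin 6 → ZMod 3) : QuadraticMap.polar ⇑form u v = 2 * ∑ i, u i * v i := by
  simp only [QuadraticMap.polar, form_apply, Pi.add_apply, Finset.mul_sum, ← Finset.sum_sub_distrib]
  exact Finset.sum_congr rfl fun i _ => by ring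

theorem form_nondegenerate : (QuadraticMap.polarBilin form).Nondegenerate := by
  have h : ∀ x : Fin 6 → ZMod 3, (∀ y, QuadraticMap.polar ⇑form x y = 0) → x = 0 := fun x hx => funext fun i => by
    have := hx (Pi.single i 1)
    rw [form_polar, Finset.sum_eq_single i (fun j _ hj => by simp [Pi.single_eq_of_ne hj]) (by simp),
      Pi.single_eq_same, mul_one] at this
    exact (mul_eq_zero.1 this).resolve_left (by decide)
  exact ⟨h, fun y hy => h y fun x => QuadraticMap.polar_comm ⇑form y x ▸ hy x⟩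

theorem form_det : polarGramDet ⇑form = 1 := by
  have h : (Matrix.of fun i j : Fin 6 => QuadraticMap.polar ⇑form (Pi.single i 1) (Pi.single j 1)) =
      Matrix.diagonal fun _ => (2 : ZMod 3) := by
    ext i j
    rw [Matrix.of_apply, form_polar, Finset.sum_eq_single i (fun k _ hk => by simp [Pi.single_eq_of_ne hk]) (by simp),
      Pi.single_eq_same, one_mul, Pi.single_apply, Matrix.diagonal_apply]
    split <;> simp
  rw [polarGramDet, h, Matrix.det_diagonal]
  decide

/-- The vector with the given ternary digits. -/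
def vecOf (m : ℕ) : Fin 6 → ZMod 3 := fun i => ((m / 3 ^ (i : ℕ) % 3 : ℕ) : ZMod 3)

/-- The number of a vector. -/
def numOf (v : Fin 6 → ZMod 3) : ℕ :=
  (List.range 6).foldl (fun r i => r + (if h : i < 6 then (v ⟨i, h⟩).val else 0) * 3 ^ i) 0

/-- The digit of a number. -/
def dig (m i : ℕ) : ℕ := m / 3 ^ i % 3

/-- The scalar product of digit vectors. -/
def dot (u v : ℕ) : ℕ := (List.range 6).foldl (fun r i => r + dig u i * dig v i) 0 % 3

/-- The vectors `a` and `s • b` have the same digits. -/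
def sameUpTo (s : ℕ) (a : ℕ) (f : ℕ → ℕ) : Bool := (List.range 6).all fun i => Nat.beq (dig a i) (s * f i % 3)

/-- The vectors match the braids of the points. -/
def chkVecs (k : ℕ) : Bool :=
  let CL := commonPts.getD k []
  let V := commonVecs.getD k []
  Nat.beq CL.length 126 && Nat.beq V.length 126 && distinct CL 0 && distinct V 0 && (CL.all isPt) &&
  (V.all fun v => Nat.beq (dot v v) 1 && Nat.blt v 729) &&
  ((List.range 126).all fun i => (List.range 126).all fun j => Nat.beq i j ||
    !(sameUpTo 1 (V.getD i 0) fun e => dig (V.getD j 0) e) && !(sameUpTo 2 (V.getD i 0) fun e => dig (V.getD j 0) e)) &&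
  ((List.range 729).all fun m => !(Nat.beq (dot m m) 1) ||
    V.any fun v => sameUpTo 1 m (fun e => dig v e) || sameUpTo 2 m fun e => dig v e) &&
  (List.range 126).all fun i =>
    let u := V.getD i 0
    let p := CL.getD i 0
    (List.range 126).all fun j =>
      let m := CL.idxOf (refl p (CL.getD j 0))
      let k := dot u (V.getD j 0)
      let f := fun e => (dig (V.getD j 0) e + k * dig u e) % 3
      Nat.blt m 126 && (sameUpTo 1 (V.getD m 0) f || sameUpTo 2 (V.getD m 0) f)

theorem vecs_zero : chkVecs 0 = true := by decide +kernel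

theorem vecs_one : chkVecs 1 = true := by decide +kernel

theorem vecs_two : chkVecs 2 = true := by decide +kernel

theorem dig_cast (m i : ℕ) (hi : i < 6) : vecOf m ⟨i, hi⟩ = (dig m i : ZMod 3) := rfl

theorem sum_dot (u v : ℕ) : (∑ i, vecOf u i * vecOf v i) = (dot u v : ZMod 3) := by
  simp only [Fin.sum_univ_six, dot, List.range_succ, List.range_zero, List.nil_append, List.foldl_append, List.foldl_cons,
    List.foldl_nil, Nat.zero_add, vecOf, dig, ZMod.natCast_mod, Nat.cast_add, Nat.cast_mul]
  simp only [Fin.val_zero, Fin.val_one, Fin.val_two, Fin.isValue]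
  rfl

theorem sameUpTo_spec {s a : ℕ} {f : ℕ → ℕ} (h : sameUpTo s a f = true) :
    vecOf a = (s : ZMod 3) • fun i : Fin 6 => (f i : ZMod 3) := by
  simp only [sameUpTo, List.all_eq_true, List.mem_range] at h
  funext i
  have := Nat.eq_of_beq_eq_true (h i i.2)
  show ((dig a i : ℕ) : ZMod 3) = _
  rw [this, Pi.smul_apply, smul_eq_mul, ZMod.natCast_mod, Nat.cast_mul]

/-- The reflection of a vector of norm one. -/
noncomputable def reflOf (v : Fin 6 → ZMod 3) : ↥(isometryGroup (ZMod 3) ⇑form) :=
  if h : form v = 1 then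
    Classical.mkIsometry (Q := ⇑form) (reflectionMatrix ⇑form v)
      (by rw [Classical.det_reflection form (by rw [h]; decide)]; decide)
      (Classical.reflection_preserves form (by rw [h]; decide))
  else 1

theorem reflOf_coe {v : Fin 6 → ZMod 3} (h : form v = 1) :
    (((reflOf v : ↥(isometryGroup (ZMod 3) ⇑form)) : GL (Fin 6) (ZMod 3)) : Matrix (Fin 6) (Fin 6) (ZMod 3)) =
      reflectionMatrix ⇑form v := by
  rw [reflOf, dif_pos h]
  rfl

theorem reflect_apply {v : Fin 6 → ZMod 3} (h : form v = 1) (x : Fin 6 → ZMod 3) :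
    reflectionMatrix ⇑form v *ᵥ x = x + (∑ i, v i * x i) • v := by
  rw [Classical.reflectionMatrix_mulVec, h, inv_one, one_mul, form_polar, sub_eq_add_neg, ← neg_smul]
  congr 2
  rw [← neg_mul, show (-2 : ZMod 3) = 1 from rfl, one_mul]

theorem iso_ext {a b : ↥(isometryGroup (ZMod 3) ⇑form)}
    (h : ((a : GL (Fin 6) (ZMod 3)) : Matrix (Fin 6) (Fin 6) (ZMod 3)) = ((b : GL (Fin 6) (ZMod 3)) : Matrix (Fin 6) (Fin 6) (ZMod 3))) :
    a = b := Subtype.ext (Units.ext h)

/-- A list of points with matching vectors gives the projective reflection group. -/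
theorem refl_iso {G : Type*} [Group G] [Finite G] {D : Set G} {a : G} (M : Model D a) (hD : ∀ x ∈ D, x * x = 1)
    {k : ℕ} (hk : k < 3) {S : Set G} (hS : S = M.pt '' {q | q ∈ commonPts.getD k []}) :
    IsProjReflectionGroupModThree (↥(Subgroup.closure S) ⧸ Subgroup.center ↥(Subgroup.closure S)) 6 1 1 := by
  classical
  have hchk : chkVecs k = true := by
    interval_cases k
    exacts [vecs_zero, vecs_one, vecs_two]
  simp only [chkVecs, Bool.and_eq_true, List.all_eq_true, List.mem_range, Bool.or_eq_true, Bool.not_eq_true',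
    List.any_eq_true] at hchk
  obtain ⟨⟨⟨⟨⟨⟨⟨⟨hCl, hVl⟩, hCnd⟩, -⟩, hpt⟩, hnorm⟩, hdiff⟩, hall⟩, hbraid⟩ := hchk
  obtain ⟨CL, hCL⟩ : ∃ CL, CL = commonPts.getD k [] := ⟨_, rfl⟩
  obtain ⟨V, hV⟩ : ∃ V, V = commonVecs.getD k [] := ⟨_, rfl⟩
  rw [← hCL] at hCl hCnd hpt hbraid hS
  rw [← hV] at hVl hnorm hdiff hall hbraid
  have lC : CL.length = 126 := Nat.eq_of_beq_eq_true hCl
  have lV : V.length = 126 := Nat.eq_of_beq_eq_true hVl
  have cmem : ∀ i : Fin 126, CL.getD i 0 ∈ CL := fun i => by
    rw [List.getD_eq_getElem _ _ (by omega)]; exact List.getElem_mem _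
  have vmem : ∀ i : Fin 126, V.getD i 0 ∈ V := fun i => by
    rw [List.getD_eq_getElem _ _ (by omega)]; exact List.getElem_mem _
  let g : Fin 126 → G := fun i => M.pt (CL.getD i 0)
  let r : Fin 126 → ↥(isometryGroup (ZMod 3) ⇑form) := fun i => reflOf (vecOf (V.getD i 0))
  have hone : ∀ i : Fin 126, form (vecOf (V.getD i 0)) = 1 := fun i => by
    rw [form_apply, sum_dot, Nat.eq_of_beq_eq_true (hnorm _ (vmem i)).1, Nat.cast_one]
  have ginj : Function.Injective g := fun i j e => by
    have := M.inj _ _ (hpt _ (cmem i)) (hpt _ (cmem j)) e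
    rw [List.getD_eq_getElem _ _ (by omega), List.getD_eq_getElem _ _ (by omega)] at this
    exact Fin.ext ((List.Nodup.getElem_inj_iff (distinct_spec hCnd).1).1 this)
  let m : Fin 126 → Fin 126 → Fin 126 := fun i j =>
    ⟨CL.idxOf (refl (CL.getD i 0) (CL.getD j 0)), Nat.le_of_ble_eq_true (hbraid i i.2 j j.2).1⟩
  have hg : ∀ i j, g i * g j * (g i)⁻¹ = g (m i j) := fun i j => by
    obtain ⟨-, h2⟩ := M.conj _ _ (hpt _ (cmem i)) (hpt _ (cmem j))
    show M.pt _ * M.pt _ * (M.pt _)⁻¹ = M.pt _
    rw [inv_eq_of_mul_eq_one_right (hD _ (M.mem _ (hpt _ (cmem i))).1), h2]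
    congr 1
    have hlt : CL.idxOf (refl (CL.getD i 0) (CL.getD j 0)) < CL.length := by rw [lC]; exact (m i j).2
    show _ = CL.getD (CL.idxOf (refl (CL.getD i 0) (CL.getD j 0))) 0
    rw [List.getD_eq_getElem _ _ hlt, List.getElem_idxOf hlt]
  let σ : Fin 126 → Equiv.Perm (Fin 126) := fun i => Equiv.ofBijective (m i)
    (Finite.injective_iff_bijective.1 fun u v e =>
      ginj (mul_left_cancel (mul_right_cancel ((hg i u).trans ((congrArg g e).trans (hg i v).symm)))))
  have smulRefl : ∀ {u v : Fin 6 → ZMod 3} {s : ZMod 3}, s ≠ 0 → u = s • v →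
      reflectionMatrix ⇑form u = reflectionMatrix ⇑form v := fun hs e => e ▸ Spor.ReflThree.reflection_smul form hs
  have hr : ∀ i j, r i * r j * (r i)⁻¹ = r (m i j) := fun i j => by
    refine iso_ext ?_
    rw [Spor.ReflThree.coe_conj (reflOf_coe (hone j)), reflOf_coe (hone i), reflect_apply (hone i), sum_dot,
      reflOf_coe (hone (m i j))]
    have e : vecOf (V.getD j 0) + (dot (V.getD i 0) (V.getD j 0) : ZMod 3) • vecOf (V.getD i 0) = fun e : Fin 6 =>
        (((dig (V.getD j 0) e + dot (V.getD i 0) (V.getD j 0) * dig (V.getD i 0) e) % 3 : ℕ) : ZMod 3) := by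
      funext e
      rw [ZMod.natCast_mod, Nat.cast_add, Nat.cast_mul]
      rfl
    rw [e]
    rcases (hbraid i i.2 j j.2).2 with h | h
    · exact (smulRefl (by decide) (sameUpTo_spec h)).symm
    · exact (smulRefl (by decide) (sameUpTo_spec h)).symm
  have rinj : Function.Injective r := fun i j e => by
    by_contra hne
    obtain ⟨u, hu⟩ : ∃ u, u = vecOf (V.getD i 0) := ⟨_, rfl⟩
    obtain ⟨v, hv⟩ : ∃ v, v = vecOf (V.getD j 0) := ⟨_, rfl⟩
    have h1 : form u = 1 := hu ▸ hone i
    have h2 : form v = 1 := hv ▸ hone j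
    have hM : reflectionMatrix ⇑form u = reflectionMatrix ⇑form v := by
      rw [hu, hv, ← reflOf_coe (hone i), ← reflOf_coe (hone j)]
      exact congrArg (fun z : ↥(isometryGroup (ZMod 3) ⇑form) =>
        ((z : GL (Fin 6) (ZMod 3)) : Matrix (Fin 6) (Fin 6) (ZMod 3))) e
    have h3 := congrArg (fun A => A *ᵥ u) hM
    simp only [reflect_apply h1, reflect_apply h2, ← form_apply, h1, one_smul] at h3
    have h4 : u = (∑ e, v e * u e) • v := add_left_cancel h3
    obtain ⟨s, hs⟩ : ∃ s, s = ∑ e, v e * u e := ⟨_, rfl⟩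
    rw [← hs] at h4
    have hdig : ∀ s' : ℕ, (s' : ZMod 3) = s → sameUpTo s' (V.getD i 0) (fun e => dig (V.getD j 0) e) = true := by
      intro s' hs'
      simp only [sameUpTo, List.all_eq_true, List.mem_range]
      intro e he
      have k := congrFun h4 ⟨e, he⟩
      rw [hu, hv, Pi.smul_apply, smul_eq_mul, dig_cast, dig_cast, ← hs', ← Nat.cast_mul, ZMod.natCast_eq_natCast_iff'] at k
      rw [show dig (V.getD i 0) e % 3 = dig (V.getD i 0) e from Nat.mod_mod _ _] at k
      rw [k]
      exact Nat.beq_refl _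
    rcases hdiff i i.2 j j.2 with k | ⟨k1, k2⟩
    · exact hne (Fin.ext (Nat.eq_of_beq_eq_true k))
    · have : s = 0 ∨ s = 1 ∨ s = 2 := (by decide : ∀ t : ZMod 3, t = 0 ∨ t = 1 ∨ t = 2) s
      rcases this with rfl | rfl | rfl
      · rw [zero_smul] at h4
        rw [h4, QuadraticMap.map_zero] at h1
        exact zero_ne_one h1
      · rw [hdig 1 Nat.cast_one] at k1; exact Bool.noConfusion k1
      · rw [hdig 2 (by norm_num)] at k2; exact Bool.noConfusion k2
  have hSr : S = Set.range g := by
    rw [hS]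
    ext u
    constructor
    · rintro ⟨q, hq, rfl⟩
      obtain ⟨i, hi, rfl⟩ := List.getElem_of_mem hq
      exact ⟨⟨i, by omega⟩, congrArg M.pt (List.getD_eq_getElem _ _ hi)⟩
    · rintro ⟨i, rfl⟩
      exact ⟨_, cmem i, rfl⟩
  have hR : reflectionsOfNorm (⇑form) (1 : ZMod 3) = Set.range r := by
    ext z
    constructor
    · rintro ⟨v, hv, hz⟩
      obtain ⟨mv, hlt, rfl⟩ : ∃ mv < 729, vecOf mv = v := by
        have : ∀ v : Fin 6 → ZMod 3, vecOf (numOf v) = v ∧ numOf v < 729 := by decide +kernel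
        exact ⟨numOf v, (this v).2, (this v).1⟩
      have hd : dot mv mv = 1 := by
        rw [form_apply, sum_dot, ← Nat.cast_one, ZMod.natCast_eq_natCast_iff'] at hv
        rw [show dot mv mv % 3 = dot mv mv from Nat.mod_mod _ _] at hv
        exact hv
      rcases hall mv hlt with h | ⟨w, hw, h⟩
      · rw [hd] at h; exact absurd h (by decide)
      obtain ⟨i, hi, rfl⟩ := List.getElem_of_mem hw
      refine ⟨⟨i, by omega⟩, iso_ext ?_⟩
      rw [reflOf_coe (hone ⟨i, by omega⟩), hz, List.getD_eq_getElem _ _ hi]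
      rcases h with h | h
      · exact (smulRefl (by decide) (sameUpTo_spec h)).symm
      · exact (smulRefl (by decide) (sameUpTo_spec h)).symm
    · rintro ⟨i, rfl⟩
      exact ⟨_, hone i, reflOf_coe (hone i)⟩
  refine ⟨form, form_nondegenerate, form_det, ?_⟩
  obtain ⟨e1⟩ := quot_perms g ginj σ hg
  obtain ⟨e2⟩ := quot_perms r rinj σ hr
  have hRS : Subgroup.closure (Set.range r) = reflectionSubgroup (⇑form) 1 := by
    rw [← hR]; rfl
  rw [hRS] at e2
  rw [hSr]
  exact ⟨e1.trans e2.symm⟩

end Cfsg.Agent.Block.FischerTypes.M22Recog
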