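import Cfsg.Agent.Lib.Block.FischerTypes.M22Recog.Conjugates

/-! The setting from a quasisimple centraliser, and the plane group as the Thompson subgroup. -/

set_option autoImplicit false
set_option linter.style.haveILetI false
set_option linter.unusedSectionVars false

namespace Cfsg.Agent.Block.FischerTypes.M22Recog

open Cfsg U6Code Cfsg.Agent.Spor.USixTwo

theorem exists_hyp {G : Type*} [Group G] [Finite G] (d : G) (hd : orderOf d = 2)
    (hq : Cfsg.IsQuasisimple ↥(CC d)) [((Subgroup.zpowers d).subgroupOf (CC d)).Normal]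
    (F : Type) [Field F] [Fintype F] (hF : Fintype.card F = 4)
    (e : ↥(CC d) ⧸ (Subgroup.zpowers d).subgroupOf (CC d) ≃* Cfsg.PSU 6 F 2)
    (hnwc : ∃ g : G, g * d * g⁻¹ ∈ CC d ∧ g * d * g⁻¹ ≠ d) : ∃ K : Cov ↥(CC d), Hyp d K := by
  obtain ⟨k⟩ := U6Code.exists_k4 hF
  haveI := hq.1
  have hdC : d ∈ CC d := Subgroup.mem_centralizer_singleton_iff.mpr rfl
  have hd2 : d * d = 1 := by rw [← pow_two, ← hd]; exact pow_orderOf_eq_one d
  have hd1 : d ≠ 1 := fun e => by rw [e, orderOf_one] at hd; omega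
  have hmem : ∀ x ∈ Subgroup.zpowers d, x = 1 ∨ x = d := by
    rintro x ⟨m, rfl⟩
    rcases Int.even_or_odd' m with ⟨j, rfl | rfl⟩
    · left; show d ^ (2 * j) = 1; rw [zpow_mul, zpow_ofNat, pow_two, hd2, one_zpow]
    · right; show d ^ (2 * j + 1) = d; rw [zpow_add, zpow_mul, zpow_ofNat, pow_two, hd2, one_zpow, one_mul, zpow_one]
  refine ⟨⟨((e.trans k).toMonoidHom).comp (QuotientGroup.mk' _), ⟨d, hdC⟩,
    (e.trans k).surjective.comp (QuotientGroup.mk'_surjective _), fun x => ?_, fun x => ?_, Subtype.ext hd2,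
    fun h => hd1 (congrArg Subtype.val h), Group.IsPerfect.commutator_eq_top⟩, rfl, hnwc⟩
  · simp only [MonoidHom.comp_apply, MulEquiv.coe_toMonoidHom, map_eq_one_iff _ (e.trans k).injective,
      QuotientGroup.mk'_apply, QuotientGroup.eq_one_iff, Subgroup.mem_subgroupOf]
    constructor
    · intro h
      rcases hmem x h with h' | h'
      · exact Or.inl (Subtype.ext h')
      · exact Or.inr (Subtype.ext h')
    · rintro (rfl | rfl)
      · exact one_mem _
      · exact Subgroup.mem_zpowers d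
  · exact Subtype.ext (Subgroup.mem_centralizer_singleton_iff.mp x.2).symm

variable {G : Type*} [Group G] [Finite G] {d : G} {K : Cov ↥(CC d)}

/-- Twenty-two conjugates in the plane group, permuted transitively by its normaliser. -/
theorem plane_facts (H : Hyp d K) :
    Set.ncard {x : G | x ∈ EE K ∧ IsConj d x} = 22 ∧
      ∀ x ∈ EE K, ∀ y ∈ EE K, IsConj d x → IsConj d y → ∃ n ∈ Subgroup.normalizer (EE K : Set G), n * x * n⁻¹ = y := by
  classical
  obtain ⟨codes, hc, hlow, hiff⟩ := plane_conj H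
  refine ⟨?_, fun x hx y hy hdx hdy => ?_⟩
  · have hinj : Set.InjOn (fun i => ((K.ev (codes.getD i 0) : ↥(CC d)) : G)) (Finset.range 22) := by
      intro i hi j hj e
      simp only [Finset.coe_range, Set.mem_Iio] at hi hj
      have e' := K.ev_inj (hc i hi).1 (hc j hj).1 (Subtype.ext e)
      rcases (show i < 21 ∨ i = 21 by omega) with k | rfl
      · exact CaseOK.codes_nd hc k hj e'
      · rcases (show j < 21 ∨ j = 21 by omega) with k | rfl
        · exact (CaseOK.codes_nd hc k hi e'.symm).symm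
        · rfl
    have hset : {x : G | x ∈ EE K ∧ IsConj d x} =
        (fun i => ((K.ev (codes.getD i 0) : ↥(CC d)) : G)) '' (Finset.range 22 : Set ℕ) := by
      ext x
      simp only [Set.mem_setOf_eq, Set.mem_image, Finset.coe_range, Set.mem_Iio]
      constructor
      · rintro ⟨hx, hxc⟩
        obtain ⟨e, he, rfl⟩ := mem_EE.1 hx
        obtain ⟨i, hi, rfl⟩ := (hiff e he).1 hxc
        exact ⟨i, hi, rfl⟩
      · rintro ⟨i, hi, rfl⟩
        exact ⟨mem_EE.2 ⟨_, (hc i hi).1, rfl⟩, (hiff _ (hc i hi).1).2 ⟨i, hi, rfl⟩⟩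
    rw [hset, hinj.ncard_image, Set.ncard_coe_finset, Finset.card_range]
  · obtain ⟨a, ha, ea⟩ := exists_norm hc hlow hx hdx
    obtain ⟨b, hb, eb⟩ := exists_norm hc hlow hy hdy
    refine ⟨b * a⁻¹, mul_mem hb (inv_mem ha), ?_⟩
    rw [← ea, ← eb]
    simp [mul_assoc]

/-- The Thompson subgroup of a Sylow 2-subgroup of the centraliser is a conjugate of the plane group. -/
theorem thompson_eq (H : Hyp d K) (S : Sylow 2 ↥(CC d)) : ∃ g : ↥(CC d),
    (Cfsg.thompsonSubgroupOf 2 (S : Subgroup ↥(CC d))).map (CC d).subtype =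
      (EE K).map (MulAut.conj (g : G)).toMonoidHom := by
  haveI : Fact (Nat.Prime 2) := ⟨Nat.prime_two⟩
  obtain ⟨codes, hc, hlow, -⟩ := plane_conj H
  obtain ⟨T, hT⟩ := K.sylT_sylow hc
  obtain ⟨g, hg⟩ := MulAction.exists_smul_eq ↥(CC d) S T
  have hST : (S : Subgroup ↥(CC d)).map (MulAut.conj g).toMonoidHom = K.sylT := by rw [← hT, ← hg]; rfl
  set f := (MulAut.conj g).toMonoidHom.comp (S : Subgroup ↥(CC d)).subtype with hf
  have hfinj : Function.Injective f := (MulAut.conj g).injective.comp Subtype.val_injective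
  have hrange : f.range = K.sylT := by rw [hf, MonoidHom.range_comp, Subgroup.range_subtype, hST]
  have helem : ∀ B : Subgroup ↥(S : Subgroup ↥(CC d)), Cfsg.IsElementaryAbelian 2 B → 1024 ≤ Nat.card B →
      B.map f = K.eSub := by
    intro B hB hcard
    refine K.elem_le hc ((Subgroup.map_le_range f B).trans hrange.le) ?_ ?_ ?_ hlow
    · rintro _ ⟨b, hb, rfl⟩
      rw [← map_mul, ← pow_two, hB.2 b hb, map_one]
    · rintro _ ⟨a, ha, rfl⟩ _ ⟨b, hb, rfl⟩
      haveI := hB.1
      have k : (⟨a, ha⟩ : B) * ⟨b, hb⟩ = ⟨b, hb⟩ * ⟨a, ha⟩ := mul_comm' _ _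
      exact (show Commute a b from congrArg Subtype.val k).map f
    · rwa [Subgroup.card_map_of_injective hfinj]
  have hEle : K.eSub ≤ f.range := by
    rw [hrange]; exact fun y hy => Subgroup.subset_closure (Or.inl hy)
  set E1 := K.eSub.comap f with hE1
  have hmap : E1.map f = K.eSub := Subgroup.map_comap_eq_self hEle
  have hE1card : Nat.card E1 = 1024 := by
    rw [← Subgroup.card_map_of_injective hfinj, hmap, K.card_eSub]
  have hE1el : Cfsg.IsElementaryAbelian 2 E1 := by
    refine ⟨⟨⟨fun a b => Subtype.ext (hfinj ?_)⟩⟩, fun a ha => hfinj ?_⟩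
    · obtain ⟨m, -, hm⟩ := a.2
      obtain ⟨n, -, hn⟩ := b.2
      rw [Subgroup.coe_mul, Subgroup.coe_mul, map_mul, map_mul, ← hm, ← hn]
      exact (K.ev_comm m n).eq
    · obtain ⟨m, -, hm⟩ := ha
      rw [map_pow, map_one, pow_two, ← hm, K.ev_self]
  have hmax : Cfsg.maxElementaryAbelianSubgroups 2 ↥(S : Subgroup ↥(CC d)) = {E1} := by
    ext B
    simp only [Cfsg.maxElementaryAbelianSubgroups, Set.mem_setOf_eq, Set.mem_singleton_iff]
    constructor
    · rintro ⟨hB, hmax⟩
      exact Subgroup.map_injective hfinj ((helem B hB (hE1card ▸ hmax E1 hE1el)).trans hmap.symm)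
    · rintro rfl
      refine ⟨hE1el, fun B hB => ?_⟩
      by_cases h : 1024 ≤ Nat.card B
      · rw [← Subgroup.card_map_of_injective (K := B) hfinj, helem B hB h, K.card_eSub, hE1card]
      · omega
  refine ⟨g⁻¹, ?_⟩
  rw [Cfsg.thompsonSubgroupOf, Cfsg.thompsonSubgroup, hmax, sSup_singleton, EE, ← hmap, Subgroup.map_map,
    Subgroup.map_map, Subgroup.map_map]
  congr 1
  refine MonoidHom.ext fun x => ?_
  simp [hf, mul_assoc]

end Cfsg.Agent.Block.FischerTypes.M22Recog
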