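import Cfsg.Agent.Lib.Block.FischerTypes.M22Recog.Normal
import Cfsg.Agent.Lib.Spor.USixTwo.Tail2

/-! In a perfect double cover the two hexad signs are not both zero: otherwise the lifts of every
involution would commute with the lifts of its centraliser, and the Schur multiplier would vanish. -/

set_option autoImplicit false
set_option maxRecDepth 100000
set_option linter.style.haveILetI false
set_option linter.unusedSectionVars false

namespace Cfsg.Agent.Block.FischerTypes.M22Recog

open Cfsg U6Code Cfsg.Agent.Spor.USixTwo Cfsg.Agent.Grp.SchurM.Tails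

/-- The parity of a code. -/
def chi (c : ℕ) : Bool := (List.range 10).foldr (fun k r => c.testBit k ^^ r) false

theorem chi_xor (a b : ℕ) : chi (a ^^^ b) = (chi a ^^ chi b) := by
  unfold chi
  generalize List.range 10 = l
  induction l with
  | nil => rfl
  | cons k l ih =>
    rw [List.foldr_cons, List.foldr_cons, List.foldr_cons, ih, Nat.testBit_xor]
    generalize List.foldr _ false l = x, List.foldr _ false l = y
    cases a.testBit k <;> cases b.testBit k <;> cases x <;> cases y <;> rfl

theorem chi_codes : ∀ i < 21, chi (codes0.getD i 0) = true := by decide +kernel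

theorem chi_512 : chi 512 = true := by decide +kernel

namespace Cov

variable {C : Type*} [Group C] [Finite C] (K : Cov C)

theorem case_split {s t : ℕ} (hst : s = 0 ∧ t = 0) (hr : ∀ r ∈ rels s t, K.val r = 1) : K.Coords codes0 := by
  obtain ⟨rfl, rfl⟩ := hst
  have h := case0_ok
  simp only [Bool.and_eq_true] at h
  exact K.coords hr h.1.1.1

theorem prod_code {codes : List ℕ} (hc : K.Coords codes) (f : ℕ → ℕ) : ∀ (L : List ℕ), (∀ p ∈ L, f p ∈ plane) →
    ∃ a, a < 1024 ∧ K.ev a = (L.map fun p => K.lift (f p)).prod ∧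
      ((∀ i < 21, chi (codes.getD i 0) = true) → chi a = decide (L.length % 2 = 1))
  | [], _ => ⟨0, by norm_num, by simp [K.ev_zero], fun _ => by decide +kernel⟩
  | p :: L, h => by
    obtain ⟨a, ha, hev, hchi⟩ := prod_code hc f L fun q hq => h q (List.mem_cons_of_mem _ hq)
    have hp := h p List.mem_cons_self
    obtain ⟨h1, h2⟩ := hc _ (Nat.lt_succ_of_lt (placeOf_lt hp))
    refine ⟨codes.getD (placeOf (f p)) 0 ^^^ a, Nat.xor_lt_two_pow (n := 10) h1 ha, ?_, fun hk => ?_⟩
    · rw [K.ev_xor, h2, hev, K.cur_placeOf hp, List.map_cons, List.prod_cons]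
    · rw [chi_xor, hk _ (placeOf_lt hp), hchi hk, List.length_cons]
      rcases Nat.mod_two_eq_zero_or_one L.length with e | e <;> simp [e, Nat.add_mod]

/-- In the split case lifts of an involution commute with lifts of its centraliser. -/
theorem invol_commute (hc : K.Coords codes0) {y w : C} (hy : K.π y * K.π y = 1)
    (hw : Commute (K.π w) (K.π y)) : Commute w y := by
  obtain ⟨g, L, hL, hg⟩ := inv_normal hy
  obtain ⟨g, rfl⟩ := K.surj g
  suffices h : Commute (g * w * g⁻¹) (g * y * g⁻¹) from (Spor.ThreeTrans.commute_conj_iff g w y).1 h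
  have hw' : Commute (K.π (g * w * g⁻¹)) (wordP L) := by
    rw [← hg, map_mul, map_mul, map_inv]
    exact (Spor.ThreeTrans.commute_conj_iff (K.π g) _ _).2 hw
  have hy' : K.π (g * y * g⁻¹) = wordP L := by rw [map_mul, map_mul, map_inv, hg]
  obtain ⟨v, hv⟩ : ∃ v, v = g * w * g⁻¹ := ⟨_, rfl⟩
  obtain ⟨u, hu⟩ : ∃ u, u = g * y * g⁻¹ := ⟨_, rfl⟩
  rw [← hv] at hw' ⊢
  rw [← hu] at hy' ⊢
  have hm := mem_plane_of_std hL
  have hpt : ∀ p ∈ L, isPt p = true := fun p hp => plane_pt (hm p hp)
  have him : ∀ p, ∃ q, p ∈ L → q ∈ plane ∧ K.π v * rho p * (K.π v)⁻¹ = rho q := by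
    intro p
    by_cases hp : p ∈ L
    · obtain ⟨q, hq, eq'⟩ := rho_surj (Spor.ThreeTrans.conj_mem (U6.roots_class h4) (K.π v) (rho_mem (hpt p hp)))
      refine ⟨q, fun _ => ⟨plane_max hq fun x hx => ?_, eq'.symm⟩⟩
      obtain ⟨x', hx', ex⟩ := rho_surj (Spor.ThreeTrans.conj_mem (U6.roots_class h4) (K.π v)⁻¹ (rho_mem (plane_pt hx)))
      have hcx : Commute (wordP L) (rho x') := by
        have h1 : Commute (wordP L) (rho x) := by
          rw [wordP]
          exact Commute.list_prod_left _ _ fun z hz => by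
            obtain ⟨c, hc', rfl⟩ := List.mem_map.1 hz
            have hc'' := List.mem_reverse.1 hc'
            exact (rho_commute (hpt c hc'') (plane_pt hx)).2 (plane_adj (hm c hc'') hx)
        rw [ex, inv_inv]
        have e : wordP L = (K.π v)⁻¹ * wordP L * K.π v := by rw [mul_assoc, ← hw'.eq]; simp
        rw [e]
        have := (Spor.ThreeTrans.commute_conj_iff (K.π v)⁻¹ _ _).2 h1
        rwa [inv_inv] at this
      have h2 := (rho_commute (hpt p hp) hx').2 (by rw [adj_comm]; exact fixed_adj hL hx' hcx p hp)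
      have h3 := (Spor.ThreeTrans.commute_conj_iff (K.π v) _ _).2 h2
      rw [← eq', ex, show K.π v * ((K.π v)⁻¹ * rho x * (K.π v)⁻¹⁻¹) * (K.π v)⁻¹ = rho x by simp [mul_assoc]] at h3
      exact (rho_commute hq (plane_pt hx)).1 h3
    · exact ⟨0, fun k => absurd k hp⟩
  choose f hf using him
  have hpi : ∀ l : List ℕ, (∀ p ∈ l, p ∈ plane) → K.π (l.map K.lift).prod = (l.map rho).prod := fun l hl => by
    rw [map_list_prod, List.map_map]
    exact congrArg _ (List.map_congr_left fun p hp => K.π_lift (plane_pt (hl p hp)))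
  have hrev : ∀ p ∈ L.reverse, p ∈ plane := fun p hp => hm p (List.mem_reverse.1 hp)
  obtain ⟨a, ha, hea, hca⟩ := K.prod_code hc id L.reverse hrev
  obtain ⟨b, hb, heb, hcb⟩ := K.prod_code hc f L.reverse fun p hp => (hf p (List.mem_reverse.1 hp)).1
  have e1 : K.π (K.ev a) = wordP L := by
    rw [hea, show (L.reverse.map fun p => K.lift (id p)) = L.reverse.map K.lift from rfl, hpi _ hrev]; rfl
  have e2 : v * K.ev a * v⁻¹ = K.ev b := by
    rw [hea, heb, ← MulAut.conj_apply, map_list_prod, List.map_map]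
    refine congrArg _ (List.map_congr_left fun p hp => ?_)
    obtain ⟨h1, h2⟩ := hf p (List.mem_reverse.1 hp)
    exact K.lift_conj (hpt p (List.mem_reverse.1 hp)) (plane_pt h1) h2
  have e3 : K.π (K.ev b) = K.π (K.ev a) := by
    rw [← e2, map_mul, map_mul, map_inv, e1, hw'.eq, mul_inv_cancel_right]
  have hab : a = b := by
    rcases K.fibre e3 with k | k
    · exact (K.ev_inj hb ha k).symm
    · exfalso
      rw [← K.ev_z, ← K.ev_xor] at k
      have k' := congrArg chi (K.ev_inj hb (Nat.xor_lt_two_pow (n := 10) (by norm_num) ha) k)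
      rw [chi_xor, chi_512, hca chi_codes, hcb chi_codes] at k'
      simp at k'
  rcases K.fibre (hy'.trans e1.symm) with rfl | rfl
  · exact mul_inv_eq_iff_eq_mul.1 (by rw [e2, hab])
  · exact ((K.central v).symm.mul_right (mul_inv_eq_iff_eq_mul.1 (by rw [e2, hab])))

include K in
theorem finite_P6 : Finite P6 := Finite.of_surjective K.π K.surj

/-- The two signs are not both zero. -/
theorem not_split (hc : K.Coords codes0) : False := by
  haveI := K.finite_P6
  obtain ⟨S, hm⟩ := sylow2
  have hσ : Cfsg.IsStemExtension K.π := ⟨K.surj, K.ker_center, by rw [K.perfect]; exact le_top⟩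
  have key : ∀ {i j : ℕ} (X Y : C), K.π X = S.e i → K.π Y = S.e j → S.e j ^ S.m = 1 → cval X Y ∈ K.π.ker →
      cval X Y = 1 := by
    intro i j X Y hX hY hpow hk
    have h1 : Commute (K.π X) (K.π Y) := by
      rw [MonoidHom.mem_ker, cval, map_mul, map_inv, map_mul, map_mul, inv_mul_eq_one] at hk
      exact hk
    rw [hm, pow_two, ← hY] at hpow
    rw [cval, inv_mul_eq_one]
    exact (K.invol_commute hc hpow h1).eq
  obtain ⟨X, Y, X', Y', hX, hY, hX', hY', hc1, hc2, -, -⟩ := S.exists_vals K.π hσ
  have hbot := S.ker_eq_bot Nat.prime_two K.π hσ (fun z hz => by rw [pow_two]; exact K.ker_sq z hz) hX hY hX' hY'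
    (key X Y hX hY S.pow hc1) (key X' Y' hX' hY' S.pow' hc2)
  have : K.z ∈ K.π.ker := MonoidHom.mem_ker.2 K.proj
  rw [hbot, Subgroup.mem_bot] at this
  exact K.ne this

end Cov

end Cfsg.Agent.Block.FischerTypes.M22Recog
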