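import Cfsg.Agent.Lib.Block.FischerTypes.M22Recog.ReflIso
import Cfsg.Agent.Lib.Block.FischerTypes.M22Recog.Setup

/-! A group with such a centraliser is of type M(22). -/

set_option autoImplicit false
set_option linter.style.haveILetI false
set_option linter.unusedSectionVars false

namespace Cfsg.Agent.Block.FischerTypes.M22Recog

open Cfsg U6Code Cfsg.Agent.Spor.ThreeTrans

variable {G : Type*} [Group G] [Finite G] {d : G} {K : Cov ↥(CC d)} (H : Hyp d K)
include H

theorem type22 : IsThreeTranspositionClass (conjugatesOf d) ∧ IsOfTypeM22 G (conjugatesOf d) := by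
  obtain ⟨F, iF, iT, h4', e⟩ := model_all H
  obtain ⟨c, hc, hdc, M, k, hk, hlist⟩ := exists_list H
  refine ⟨cls_all H, center_bot_all H, d, mem_conjugatesOf_self, c, hc, hdc, ⟨F, iF, iT, h4', e⟩, 1, one_ne_zero, ?_⟩
  refine refl_iso M (conjugates_sq H) hk ?_
  ext u
  simp only [Set.mem_inter_iff, Set.mem_setOf_eq, Set.mem_image]
  constructor
  · rintro ⟨hu, hu'⟩
    obtain ⟨q, hq, rfl⟩ := M.surj u hu
    exact ⟨q, (hlist q).1 ⟨hq, hu'.2.2.symm⟩, rfl⟩
  · rintro ⟨q, hq, rfl⟩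
    obtain ⟨hq', hqc⟩ := (hlist q).2 hq
    exact ⟨M.mem q hq', (M.mem q hq').1, fun e => hdc (e ▸ (M.mem q hq').2.2), hqc.symm⟩

end Cfsg.Agent.Block.FischerTypes.M22Recog
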