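import Cfsg.Agent.Lib.Block.FischerTypes.M22Recog.Pair

/-! The component is the whole class. -/

set_option autoImplicit false
set_option linter.style.haveILetI false
set_option linter.unusedSectionVars false

namespace Cfsg.Agent.Block.FischerTypes.M22Recog

open Cfsg U6Code Cfsg.Agent.Spor.ThreeTrans

variable {G : Type*} [Group G] [Finite G] {d : G} {K : Cov ↥(CC d)} (H : Hyp d K)
include H

theorem comp_card : (comp d).ncard = 3510 := by
  have C := ctx H
  have e : comp d = Subtype.val '' cls0 d :=
    Set.ext fun u => ⟨fun hu => ⟨⟨u, comp_le hu⟩, hu, rfl⟩, fun ⟨_, hv, e⟩ => e ▸ hv⟩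
  rw [e, Set.ncard_image_of_injective _ Subtype.val_injective, M22.ncard_eq C (M22.numbered_ctx C)]

theorem perp_card {t : G} (ht : t ∈ conjugatesOf d) : (perp (conjugatesOf d) t).ncard = 693 :=
  ((framed H).model t ht).elim fun M => M.card_perp

theorem commute_card {t p : G} (ht : t ∈ conjugatesOf d) (hp : p ∈ perp (conjugatesOf d) t) :
    {q | q ∈ perp (conjugatesOf d) t ∧ Commute p q}.ncard = 181 := by
  obtain ⟨M₀⟩ := (framed H).model t ht
  obtain ⟨M, rfl⟩ := exists_point (framed H).inv M₀ (fun z hz => (framed H).sq hz) hp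
  rw [← deg]
  refine M.ncard_eq (Model.nodup_ptList.filter _) (fun c hc => mem_ptList.1 (List.mem_filter.1 hc).1) fun c hc => ?_
  rw [List.mem_filter, M.comm _ _ Model.pt_b0 hc]
  exact (and_iff_right (mem_ptList.2 hc)).symm

/-- An involution commuting with a member and dividing it into a conjugate pair puts it in the component. -/
theorem split_member {x y t : G} (hx : x ∈ comp d) (hy : y ∈ perp (conjugatesOf d) x) (ht : t ∈ conjugatesOf d)
    (htj : Commute t (x * y)) : t ∈ comp d :=
  mem_comp H ht (pair_cent H hx hy (Subgroup.mem_centralizer_singleton_iff.2 htj.eq))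

theorem whole : ∀ t ∈ conjugatesOf d, t ∈ comp d := by
  classical
  haveI : Fintype G := Fintype.ofFinite G
  have F := framed H
  have C := ctx H
  intro t ht
  by_contra hout
  obtain ⟨P, hP⟩ : ∃ P, P = {pr : G × G | pr.1 ∈ comp d ∧ pr.2 ∈ perp (conjugatesOf d) pr.1} := ⟨_, rfl⟩
  obtain ⟨I, hI⟩ : ∃ I, I = (fun pr : G × G => t * pr.1 * pr.2) ''
    {pr : G × G | pr.1 ∈ perp (conjugatesOf d) t ∧ pr.2 ∈ perp (conjugatesOf d) t ∧ Commute pr.1 pr.2} := ⟨_, rfl⟩
  have key : ∀ pr ∈ P, ∃ z : G, ∃ hz : pr.1 * pr.2 * z ∈ G0 d, pr.1 * pr.2 * z ∈ I ∧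
      ∃ l : List ↥(G0 d), Fact' (cls0 d) 3 ⟨pr.1 * pr.2 * z, hz⟩ l ∧ l.map Subtype.val = [pr.1, pr.2, z] := by
    rintro ⟨x, y⟩ hpr
    rw [hP] at hpr
    obtain ⟨hx, hy⟩ : x ∈ comp d ∧ y ∈ perp (conjugatesOf d) x := hpr
    have hyc := comp_perp hx hy
    have hxy : Commute x y := hy.2.2
    obtain ⟨j, hj⟩ : ∃ j, j = x * y := ⟨_, rfl⟩
    have hjG : j ∈ G0 d := hj ▸ mul_mem (comp_le hx) (comp_le hyc)
    have sj : j * j = 1 := by rw [← pow_two, hj, hxy.mul_pow, pow_two, pow_two, F.sq (comp_sub H hx), F.sq hy.1, one_mul]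
    have st : t * t = 1 := F.sq ht
    obtain ⟨r, hr⟩ : ∃ r, r = j * t := ⟨_, rfl⟩
    have hconjj : ∀ n : ℕ, r ^ n * j * (r ^ n)⁻¹ = r ^ (2 * n) * j := by
      intro n
      induction n with
      | zero => simp
      | succ n ih =>
        calc r ^ (n + 1) * j * (r ^ (n + 1))⁻¹ = r * (r ^ n * j * (r ^ n)⁻¹) * r⁻¹ := by
              rw [pow_succ' r n, mul_inv_rev]; simp only [mul_assoc]
          _ = r * r ^ (2 * n) * (j * r⁻¹) := by rw [ih]; simp only [mul_assoc]
          _ = r * r ^ (2 * n) * (r * j) := by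
              congr 1
              rw [hr, mul_inv_rev, inv_eq_of_mul_eq_one_right st, inv_eq_of_mul_eq_one_right sj, mul_assoc]
          _ = r ^ (2 * (n + 1)) * j := by
              rw [show 2 * (n + 1) = 1 + 2 * n + 1 by ring, pow_succ, pow_add, pow_one]; simp only [mul_assoc]
    have htr : r * j = j * r⁻¹ := by
      rw [hr, mul_inv_rev, inv_eq_of_mul_eq_one_right st, inv_eq_of_mul_eq_one_right sj, mul_assoc]
    have htj : t = j * r := by rw [hr, ← mul_assoc, sj, one_mul]
    have hpow : ∀ n : ℕ, r ^ n * j = j * (r ^ n)⁻¹ := by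
      intro n
      induction n with
      | zero => simp
      | succ n ih => rw [pow_succ, mul_assoc, htr, ← mul_assoc, ih, mul_assoc, ← mul_inv_rev, ← pow_succ', ← pow_succ]
    -- the order of the product is even
    rcases Nat.even_or_odd' (orderOf r) with ⟨k, hk | hk⟩
    swap
    · exfalso
      have h1 : r ^ (2 * k + 1) = 1 := hk ▸ pow_orderOf_eq_one r
      have : r ^ k * j * (r ^ k)⁻¹ = t := by
        rw [hconjj, htj, hpow]
        congr 1
        rw [pow_succ] at h1
        exact inv_eq_of_mul_eq_one_right h1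
      have hjD : j ∈ conjugatesOf d := by
        have := conjugates_conj H (r ^ k)⁻¹ (this ▸ ht)
        simpa [mul_assoc] using this
      exact M22.pair_ne_member C (j := ⟨j, hjG⟩) (l := [⟨x, comp_le hx⟩, ⟨y, comp_le hyc⟩])
        ⟨by simp [Ne.symm hy.2.1], rfl, by simpa [cls0] using ⟨hx, hyc⟩, by
          simp only [List.mem_cons, List.not_mem_nil, or_false]
          rintro v (rfl | rfl) w (rfl | rfl)
          exacts [Commute.refl _, Subtype.ext hxy.eq, Subtype.ext hxy.symm.eq, Commute.refl _],
          Subtype.ext (by simp [hj])⟩ (mem_comp H hjD hjG)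
    obtain ⟨i, hi⟩ : ∃ i, i = r ^ k := ⟨_, rfl⟩
    have si : i * i = 1 := by rw [hi, ← pow_add, ← two_mul, ← hk, pow_orderOf_eq_one]
    have iinv : i⁻¹ = i := inv_eq_of_mul_eq_one_right si
    have hij : Commute i j := by
      show i * j = j * i
      rw [hi, hpow, ← hi, iinv]
    have hit : Commute i t := by
      rw [htj]
      exact hij.mul_right (hi ▸ (Commute.refl r).pow_left k)
    have hiG : i ∈ G0 d := by
      have := pair_cent H hx hy
      rw [← hj] at this
      exact this (Subgroup.mem_centralizer_singleton_iff.2 hij.eq)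
    obtain ⟨m, hm, l, hl⟩ := M22.involution_short C (x := ⟨i, hiG⟩) (Subtype.ext si)
    have hi1 : i ≠ 1 := by
      intro e
      have hdvd : orderOf r ∣ k := orderOf_dvd_of_pow_eq_one (hi ▸ e)
      rw [hk] at hdvd
      have := orderOf_pos r
      have := Nat.le_of_dvd (by omega) hdvd
      omega
    -- `i` is neither a member nor a pair
    obtain rfl : m = 3 := by
      obtain ⟨hn, hlen, hD, hc, hp⟩ := id hl
      interval_cases m
      · obtain rfl := List.length_eq_zero_iff.1 hlen
        exact absurd (congrArg Subtype.val hp).symm hi1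
      · obtain ⟨a, rfl⟩ := List.length_eq_one_iff.1 hlen
        simp only [List.prod_cons, List.prod_nil, mul_one] at hp
        have hic : i ∈ comp d := by simpa [cls0, hp] using hD a (by simp)
        exact absurd (comp_perp hic ⟨ht, fun e => hout (e ▸ hic), hit⟩) hout
      · obtain ⟨a, b, rfl⟩ := List.length_eq_two.1 hlen
        simp only [List.prod_cons, List.prod_nil, mul_one] at hp
        have hab : (a : G) * b = i := congrArg Subtype.val hp
        refine absurd (split_member H (x := (a : G)) (y := (b : G)) (hD a (by simp))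
          (perp_comp H (hD a (by simp)) (hD b (by simp)) (fun e => ?_) (congrArg Subtype.val (hc a (by simp) b (by simp)).eq)) ht
          (by rw [hab]; exact hit.symm)) hout
        simp [Subtype.ext e] at hn
      · rfl
    rcases Nat.even_or_odd' k with ⟨n, rfl | rfl⟩
    · exfalso
      -- `t` times `i` is a conjugate of `t`
      have e : (r ^ n)⁻¹ * t * r ^ n = t * i := by
        have h1 : (r ^ n)⁻¹ * j = j * r ^ n := by
          rw [inv_mul_eq_iff_eq_mul, ← mul_assoc, hpow, mul_assoc, inv_mul_cancel, mul_one]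
        rw [hi, htj, ← mul_assoc, h1, two_mul, pow_add, mul_assoc (j * r ^ n) r, mul_assoc j, mul_assoc j,
          ← pow_succ', ← pow_add, ← pow_add, ← pow_succ']
        congr 2
      have htiD : t * i ∈ conjugatesOf d := by
        rw [← e]
        have := conjugates_conj H (r ^ n)⁻¹ ht
        rwa [inv_inv] at this
      have htip : t * i ∈ perp (conjugatesOf d) t := by
        refine ⟨htiD, fun e' => hi1 (mul_eq_left.1 e'), ?_⟩
        exact (Commute.refl t).mul_right hit.symm
      obtain ⟨g, hg⟩ := isConj_iff.1 (show IsConj d t from ht)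
      have e1 : g⁻¹ * (t * i) * g ∈ perp (conjugatesOf d) d := by
        have := perp_map F.inv g⁻¹ htip
        rw [inv_inv, show g⁻¹ * t * g = d by rw [← hg]; simp [mul_assoc]] at this
        exact this
      obtain ⟨a, ha⟩ : ∃ a, a = g⁻¹ * (t * i) * g := ⟨_, rfl⟩
      rw [← ha] at e1
      have hda : g * (d * a) * g⁻¹ = i := by
        rw [ha, show g * (d * (g⁻¹ * (t * i) * g)) * g⁻¹ = g * d * g⁻¹ * (t * i) by simp [mul_assoc], hg, ← mul_assoc, st, one_mul]
      obtain ⟨-, -, hD, hc, hp⟩ := hl
      obtain ⟨b, hb⟩ : ∃ b, b ∈ l := by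
        rcases l with _ | ⟨b, l⟩
        · exact absurd (congrArg Subtype.val hp).symm hi1
        · exact ⟨b, List.mem_cons_self⟩
      have hbi : Commute (b : G) i := by
        have : Commute b l.prod := Commute.list_prod_right _ _ fun v hv => hc b hb v hv
        rw [hp] at this
        exact congrArg Subtype.val this.eq
      have hb' : g⁻¹ * (b : G) * g ∈ G0 d := pair_cent H d_comp e1 (Subgroup.mem_centralizer_singleton_iff.2 (by
        have h := (commute_conj_iff g⁻¹ (b : G) i).2 hbi
        rw [inv_inv, show g⁻¹ * i * g = d * a by rw [← hda]; simp [mul_assoc]] at h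
        exact h.eq))
      have hgG : g⁻¹ ∈ G0 d := stab H (hD b hb) (by
        rw [inv_inv]
        refine mem_comp H ?_ hb'
        have := conjugates_conj H g⁻¹ (comp_sub H (hD b hb))
        rwa [inv_inv] at this)
      refine hout (mem_comp H ht ?_)
      rw [← hg]
      exact mul_mem (mul_mem (inv_mem_iff.1 hgG) (comp_le d_comp)) hgG
    · have e1 : (r ^ n)⁻¹ * t * r ^ n = j * i := by
        have h1 : (r ^ n)⁻¹ * j = j * r ^ n := by
          rw [inv_mul_eq_iff_eq_mul, ← mul_assoc, hpow, mul_assoc, inv_mul_cancel, mul_one]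
        rw [hi, htj, ← mul_assoc, h1, mul_assoc (j * r ^ n) r, mul_assoc j, ← pow_succ', ← pow_add]
        congr 2
        omega
      have e2 : (r ^ (n + 1))⁻¹ * j * r ^ (n + 1) = t * i := by
        have h1 : (r ^ (n + 1))⁻¹ * j = j * r ^ (n + 1) := by
          rw [inv_mul_eq_iff_eq_mul, ← mul_assoc, hpow, mul_assoc, inv_mul_cancel, mul_one]
        rw [hi, htj, h1, mul_assoc, mul_assoc, ← pow_succ', ← pow_add]
        congr 2
        omega
      have hjiD : j * i ∈ conjugatesOf d := by
        rw [← e1]
        have := conjugates_conj H (r ^ n)⁻¹ ht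
        rwa [inv_inv] at this
      have hz : j * i ∈ comp d := mem_comp H hjiD (mul_mem hjG hiG)
      have hzj : Commute (j * i) (x * y) := by rw [← hj]; exact (Commute.refl j).mul_left hij
      obtain ⟨hzx, hzy⟩ := pair_fixed H hx hy hz hzj
      have hzi : x * y * (j * i) = i := by rw [← hj, ← mul_assoc, sj, one_mul]
      have notmem : i ∉ comp d := fun hic => hout (comp_perp hic ⟨ht, fun e => hout (e ▸ hic), hit⟩)
      have hzx' : j * i ≠ x := fun e => notmem (by
        rw [← hzi, e, mul_assoc, ← hxy.eq, ← mul_assoc, F.sq (comp_sub H hx), one_mul]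
        exact hyc)
      have hzy' : j * i ≠ y := fun e => notmem (by
        rw [← hzi, e, mul_assoc, F.sq hy.1, mul_one]
        exact hx)
      refine ⟨j * i, by rw [hzi]; exact hiG, ?_, [⟨x, comp_le hx⟩, ⟨y, comp_le hyc⟩, ⟨j * i, comp_le hz⟩],
        ⟨?_, rfl, ?_, ?_, ?_⟩, rfl⟩
      · -- the image
        rw [hI, hzi]
        obtain ⟨g, hg⟩ : ∃ g, g = (r ^ (n + 1))⁻¹ := ⟨_, rfl⟩
        have hgj : g * j * g⁻¹ = t * i := by rw [hg, inv_inv, e2]
        have hp : g * x * g⁻¹ ∈ conjugatesOf d := conjugates_conj H g (comp_sub H hx)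
        have hq : g * y * g⁻¹ ∈ conjugatesOf d := conjugates_conj H g hy.1
        have htij : Commute (g⁻¹ * t * g) (x * y) := by
          rw [← hj]
          refine (commute_conj_iff g _ _).1 ?_
          rw [hgj, show g * (g⁻¹ * t * g) * g⁻¹ = t by simp [mul_assoc]]
          exact (Commute.refl t).mul_right hit.symm
        have ht' : g⁻¹ * t * g ∈ comp d := split_member H hx hy (by simpa using conjugates_conj H g⁻¹ ht) htij
        obtain ⟨hx', hy'⟩ := pair_fixed H hx hy ht' htij
        have htx : Commute t (g * x * g⁻¹) := by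
          have := (commute_conj_iff g _ _).2 hx'
          simpa [mul_assoc] using this
        have hty : Commute t (g * y * g⁻¹) := by
          have := (commute_conj_iff g _ _).2 hy'
          simpa [mul_assoc] using this
        have hprod : t * (g * x * g⁻¹) * (g * y * g⁻¹) = i := by
          rw [mul_assoc, show g * x * g⁻¹ * (g * y * g⁻¹) = g * j * g⁻¹ by rw [hj]; simp [mul_assoc], hgj,
            ← mul_assoc, st, one_mul]
        refine ⟨(g * x * g⁻¹, g * y * g⁻¹), ⟨⟨hp, fun e => ?_, htx⟩, ⟨hq, fun e => ?_, hty⟩,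
          (commute_conj_iff g _ _).2 hxy⟩, hprod⟩
        · simp only at e
          rw [e, st, one_mul] at hprod
          exact notmem (mem_comp H (hprod ▸ hq) hiG)
        · simp only at e
          rw [e, mul_assoc, ← (show Commute t (g * x * g⁻¹) from htx).eq, ← mul_assoc, st, one_mul] at hprod
          exact notmem (mem_comp H (hprod ▸ hp) hiG)
      · simp only [List.nodup_cons, List.mem_cons, List.not_mem_nil, or_false, not_or, List.nodup_nil,
          not_false_eq_true, and_true, Subtype.mk.injEq]
        exact ⟨⟨Ne.symm hy.2.1, Ne.symm hzx'⟩, Ne.symm hzy'⟩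
      · simp only [List.mem_cons, List.not_mem_nil, or_false]
        rintro v (rfl | rfl | rfl)
        exacts [hx, hyc, hz]
      · simp only [List.mem_cons, List.not_mem_nil, or_false]
        rintro v (rfl | rfl | rfl) w (rfl | rfl | rfl)
        exacts [Commute.refl _, Subtype.ext hxy.eq, Subtype.ext hzx.symm.eq, Subtype.ext hxy.symm.eq,
          Commute.refl _, Subtype.ext hzy.symm.eq, Subtype.ext hzx.eq, Subtype.ext hzy.eq, Commute.refl _]
      · exact Subtype.ext (by simp [mul_assoc])
  choose! z hzG hzI l hl hlmap using key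
  -- counting
  have hPcard : P.ncard = 3510 * 693 := by
    rw [Set.ncard_eq_toFinset_card']
    have : P.toFinset = (comp d).toFinset.biUnion fun x => (perp (conjugatesOf d) x).toFinset.image fun y => (x, y) := by
      ext ⟨x, y⟩
      simp [hP]
    rw [this, Finset.card_biUnion, Finset.sum_const_nat (m := 693), ← Set.ncard_eq_toFinset_card', comp_card H]
    · intro x hx
      rw [Finset.card_image_of_injective _ (fun a b e => congrArg Prod.snd e), ← Set.ncard_eq_toFinset_card',
        perp_card H (comp_sub H (Set.mem_toFinset.1 hx))]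
    · intro x _ x' _ hne
      simp only [Function.onFun, Finset.disjoint_left, Finset.mem_image]
      rintro _ ⟨y, -, rfl⟩ ⟨y', -, e⟩
      exact hne (congrArg Prod.fst e).symm
  have hIcard : I.ncard ≤ 693 * 181 := by
    rw [hI]
    refine (Set.ncard_image_le).trans ?_
    rw [Set.ncard_eq_toFinset_card']
    have : {pr : G × G | pr.1 ∈ perp (conjugatesOf d) t ∧ pr.2 ∈ perp (conjugatesOf d) t ∧ Commute pr.1 pr.2}.toFinset =
        (perp (conjugatesOf d) t).toFinset.biUnion fun p =>
          ({q | q ∈ perp (conjugatesOf d) t ∧ Commute p q}).toFinset.image fun q => (p, q) := by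
      ext ⟨p, q⟩
      simp
    rw [this]
    refine Finset.card_biUnion_le.trans ?_
    rw [Finset.sum_const_nat (m := 181), ← Set.ncard_eq_toFinset_card', perp_card H ht]
    intro p hp
    rw [Finset.card_image_of_injective _ (fun a b e => congrArg Prod.snd e), ← Set.ncard_eq_toFinset_card',
      commute_card H ht (Set.mem_toFinset.1 hp)]
  have hle : P.ncard ≤ I.ncard * 12 := by
    rw [Set.ncard_eq_toFinset_card', Set.ncard_eq_toFinset_card', mul_comm]
    refine Finset.card_le_mul_card_image_of_maps_to (f := fun pr => pr.1 * pr.2 * z pr)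
      (fun pr hpr => Set.mem_toFinset.2 (hzI pr (Set.mem_toFinset.1 hpr))) 12 fun i _ => ?_
    by_cases hne : ∃ pr ∈ P, pr.1 * pr.2 * z pr = i
    · obtain ⟨pr₀, h0, e0⟩ := hne
      subst e0
      rw [← M22.card_fibre C (hl pr₀ h0), ← Set.ncard_coe_finset]
      refine Set.ncard_le_ncard_of_injOn l (fun pr hpr => ?_) (fun a ha b hb e => ?_)
        ?_
      · simp only [Finset.coe_filter, Set.mem_toFinset, Set.mem_setOf_eq] at hpr
        have h3 := hl pr hpr.1
        exact ⟨h3.1, h3.2.1, h3.2.2.1, h3.2.2.2.1, h3.2.2.2.2.trans (Subtype.ext hpr.2)⟩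
      · simp only [Finset.coe_filter, Set.mem_toFinset, Set.mem_setOf_eq] at ha hb
        have e' := (hlmap a ha.1).symm.trans ((congrArg (List.map Subtype.val) e).trans (hlmap b hb.1))
        simp only [List.cons.injEq] at e'
        exact Prod.ext e'.1 e'.2.1
      · exact Set.finite_of_ncard_pos (by rw [M22.card_fibre C (hl pr₀ h0)]; norm_num)
    · rw [Finset.card_eq_zero.2 (Finset.filter_eq_empty_iff.2 fun pr hpr e => hne ⟨pr, Set.mem_toFinset.1 hpr, e⟩)]
      norm_num
  omega

theorem conjugates_eq : conjugatesOf d = comp d :=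
  Set.Subset.antisymm (whole H) fun _ hx => comp_sub H hx

theorem top : G0 d = ⊤ := by
  rw [eq_top_iff]
  intro g _
  exact stab H d_comp (whole H _ (isConj_iff.2 ⟨g, rfl⟩))

end Cfsg.Agent.Block.FischerTypes.M22Recog
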